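/-
From a regular normal subgroup in the simple case: the structure of every finite group with a strongly
embedded subgroup and two commuting involutions.
-/
import Cfsg.Agent.BenderSE.Induction
import Cfsg.Agent.BenderSuzuki.Assembly
import Cfsg.Agent.BenderSuzuki.Unitary
import Cfsg.Agent.BenderSuzuki.SimpleEmbedded
import Cfsg.Agent.BenderSuzuki.RootGroup
import Cfsg.Agent.Components.Misc.EmbeddedSimple
import Cfsg.Agent.OddChar.PF.OddOrder
import Cfsg.Agent.RankOne.Basic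
import Cfsg.Agent.S0280

set_option autoImplicit false
set_option linter.unusedSectionVars false
set_option linter.style.haveILetI false

namespace Cfsg.Lib.BenderSE

open Subgroup MulAction Cfsg.Lib.InvolCalc Cfsg.Lib.StrongEmb

universe u

variable {G : Type u} [Group G]

/-- `H` has a normal subgroup acting regularly on the other cosets. -/
def HasRegular (H : Subgroup G) : Prop :=
  ∃ Q : Subgroup G, Q ≤ H ∧ (Q.subgroupOf H).Normal ∧
    (∀ g₁ g₂ : G, g₁ ∉ H → g₂ ∉ H → ∃ u ∈ Q, g₂⁻¹ * (u * g₁) ∈ H) ∧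
    (∀ g : G, g ∉ H → ∀ u ∈ Q, g⁻¹ * (u * g) ∈ H → u = 1)

/-- REG: the one input of the dependents. -/
def RegProp : Prop :=
  ∀ (S : Type u) [Group S] [Finite S], IsSimpleGroup S →
    ∀ K : Subgroup S, Cfsg.IsStronglyEmbedded K → HasCommutingInvolutions S → HasRegular K

/-- The structure of a group with a core-free strongly embedded subgroup and a regular normal subgroup. -/
structure Frame (H L Q : Subgroup G) : Prop where
  normal : L.Normal
  simple : IsSimpleGroup L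
  nonab : ¬ IsMulCommutative L
  invol : ∀ i : G, orderOf i = 2 → i ∈ L
  oddIndex : Odd L.index
  cent : centralizer (L : Set G) = ⊥
  qle : Q ≤ H
  qL : Q ≤ L
  qn : H ≤ normalizer (Q : Set G)
  q2 : IsPGroup 2 Q
  qodd : Odd (Q.relIndex H)
  trans : ∀ g₁ g₂ : G, g₁ ∉ H → g₂ ∉ H → ∃ u ∈ Q, g₂⁻¹ * (u * g₁) ∈ H
  reg : ∀ g : G, g ∉ H → ∀ u ∈ Q, g⁻¹ * (u * g) ∈ H → u = 1
  sylow : ∃ S : Sylow 2 G, (S : Subgroup G) = Q
  ident : Cfsg.Lib.BenderSuzuki.Ident L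
  qcard : ∃ k e : ℕ, 2 ≤ k ∧ (e = 1 ∨ e = 2 ∨ e = 3) ∧ Nat.card Q = (2 ^ k) ^ e ∧
    Nat.card {i : G // orderOf i = 2 ∧ i ∈ H} + 1 = 2 ^ k
  qinvol : ∀ i : G, orderOf i = 2 → i ∈ H → i ∈ Q ∧ ∀ x ∈ Q, i * x = x * i
  unitary : ∀ (F : Type) (_ : Field F) (_ : Fintype F) (n : ℕ), 2 ≤ n → Fintype.card F = (2 ^ n) ^ 2 →
    Nonempty (L ≃* Cfsg.PSU 3 F (2 ^ n)) → Nat.card {i : G // orderOf i = 2 ∧ i ∈ H} + 1 ≤ (2 ^ n) ^ 2

variable [Finite G] {H : Subgroup G}

theorem oddCore_le (hH : Cfsg.IsStronglyEmbedded H) (h2 : HasCommutingInvolutions G) :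
    Cfsg.oddCore G ≤ H := by
  obtain ⟨p, q, hp, hq, hne, hc⟩ := h2
  obtain ⟨g, hg⟩ := exists_conj_mem hH hp
  have hgc : (g * p * g⁻¹) • (QuotientGroup.mk 1 : G ⧸ H) = QuotientGroup.mk 1 := by
    rw [← mem_stabilizer_iff, MulAction.stabilizer_quotient]; exact hg
  have h := le_stabilizer_of_four hH (t := g * p * g⁻¹) (u := g * q * g⁻¹) (c := QuotientGroup.mk 1)
    (by rw [orderOf_conj', hp]) (by rw [orderOf_conj', hq])
    (fun e => hne (mul_left_cancel (mul_right_cancel e)))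
    ((show Commute p q from hc).map (MulAut.conj g).toMonoidHom) hgc
    (L := Cfsg.oddCore G) Cfsg.Lib.ZStarApps.odd_card_pPrimeCore
    (le_normalizer_of_normal (mem_top _)) (le_normalizer_of_normal (mem_top _))
  rwa [MulAction.stabilizer_quotient] at h

/-- the simple case -/
theorem simple_data [IsSimpleGroup G] (hH : Cfsg.IsStronglyEmbedded H) (h2 : HasCommutingInvolutions G)
    {Q : Subgroup G} (hQH : Q ≤ H) (hQn : (Q.subgroupOf H).Normal)
    (htrans : ∀ g₁ g₂ : G, g₁ ∉ H → g₂ ∉ H → ∃ u ∈ Q, g₂⁻¹ * (u * g₁) ∈ H)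
    (hreg : ∀ g : G, g ∉ H → ∀ u ∈ Q, g⁻¹ * (u * g) ∈ H → u = 1) :
    Cfsg.Lib.BenderSuzuki.Ident G ∧ IsPGroup 2 Q ∧ Odd (Q.relIndex H) ∧
      (∃ k e : ℕ, 2 ≤ k ∧ (e = 1 ∨ e = 2 ∨ e = 3) ∧ Nat.card Q = (2 ^ k) ^ e ∧
        Nat.card {i : G // orderOf i = 2 ∧ i ∈ H} + 1 = 2 ^ k) ∧
      (∀ i : G, orderOf i = 2 → i ∈ H → i ∈ Q ∧ ∀ x ∈ Q, i * x = x * i) ∧
      ∀ (F : Type) (_ : Field F) (_ : Fintype F) (n : ℕ), 2 ≤ n → Fintype.card F = (2 ^ n) ^ 2 →
        Nonempty (G ≃* Cfsg.PSU 3 F (2 ^ n)) → Nat.card {i : G // orderOf i = 2 ∧ i ∈ H} + 1 ≤ (2 ^ n) ^ 2 := by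
  obtain ⟨t, ht, ht2⟩ := Cfsg.Lib.BenderSuzuki.exists_invol_out H hH
  have hS := Cfsg.Lib.BenderSuzuki.embedded_setup H hH Q hQH hQn htrans hreg ht ht2
  haveI : FaithfulSMul G (G ⧸ H) := by
    constructor
    intro x y h
    have hk : y⁻¹ * x ∈ H.normalCore := by
      rw [Subgroup.normalCore_eq_ker, MonoidHom.mem_ker]
      refine Equiv.ext fun p => ?_
      show (y⁻¹ * x) • p = p
      rw [mul_smul, h p, inv_smul_smul]
    rw [normalCore_eq_bot_of_simple hH, mem_bot, inv_mul_eq_one] at hk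
    exact hk.symm
  obtain ⟨p, q, hp, hq, hne, hc⟩ := h2
  have hne1 : ∀ {x : G}, orderOf x = 2 → x ≠ 1 := fun {x} hx e => by
    rw [e, orderOf_one] at hx; omega
  have hs : Cfsg.Lib.BenderSuzuki.Simple G (G ⧸ H) ((1 : G) : G ⧸ H) t Q :=
    ⟨hS, inferInstance, ⟨p, q, hne1 hp, hne1 hq, hne, sq_of_order_two hp, sq_of_order_two hq, hc⟩,
      inferInstance⟩
  have hgood := Cfsg.Lib.BenderSuzuki.ih_of_unitary Cfsg.Lib.BenderSuzuki.unitaryStep (Nat.card G + 1)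
    G (G ⧸ H) _ t Q (Nat.lt_succ_self _) hs
  obtain ⟨k, hk, hqk⟩ := Cfsg.Lib.BenderSuzuki.qNum_pow hs
  have hmem : ∀ i : G, (orderOf i = 2 ∧ i ∈ H) ↔
      i ∈ Cfsg.Lib.BenderSuzuki.invl G ((1 : G) : G ⧸ H) := by
    intro i
    show _ ↔ i ∈ (stabilizer G ((1 : G) : G ⧸ H) : Set G) ∧ i ≠ 1 ∧ i * i = 1
    rw [MulAction.stabilizer_quotient]
    exact ⟨fun h => ⟨h.2, hne1 h.1, sq_of_order_two h.1⟩, fun h => ⟨order_two_of_mul_self h.2.2 h.2.1, h.1⟩⟩
  have hcard : Nat.card {i : G // orderOf i = 2 ∧ i ∈ H} + 1 = 2 ^ k := by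
    rw [← hqk, Cfsg.Lib.BenderSuzuki.qNum]
    exact congrArg (· + 1) (Nat.card_congr (Equiv.subtypeEquivRight hmem))
  obtain ⟨e, he, hQc⟩ : ∃ e, (e = 1 ∨ e = 2 ∨ e = 3) ∧ Nat.card Q = (2 ^ k) ^ e := by
    rw [← hqk]
    rcases hgood.dich with ⟨-, h⟩ | ⟨-, h, -⟩ | ⟨-, h, -, -⟩
    · exact ⟨1, Or.inl rfl, by rw [h, pow_one]⟩
    · exact ⟨2, Or.inr (Or.inl rfl), h⟩
    · exact ⟨3, Or.inr (Or.inr rfl), h⟩
  have hQp : IsPGroup 2 Q := IsPGroup.of_card (n := k * e) (by rw [hQc, pow_mul])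
  refine ⟨hgood.ident, hQp, ?_, ⟨k, e, hk, he, hQc, hcard⟩, fun i hi hiH => ?_, ?_⟩
  · have hle : (stabilizer G ((1 : G) : G ⧸ H) ⊓ stabilizer G (t • ((1 : G) : G ⧸ H))) ≤
        normalizer (Q : Set G) := fun d hd => by
      refine mem_normalizer_iff.2 fun x => ⟨fun hx => hS.conj_mem d hd.1 x hx, fun hx => ?_⟩
      simpa [mul_assoc] using hS.conj_mem d⁻¹ (inv_mem hd.1) _ hx
    have h := Cfsg.Lib.Coprime.card_sup_mul_card_inf hle
    rw [hS.sup_eq, MulAction.stabilizer_quotient] at h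
    have h1 := Subgroup.relIndex_mul_relIndex ⊥ Q H bot_le hQH
    simp only [relIndex_bot_left] at h1
    refine hS.odd_card.of_dvd_nat ((Nat.mul_dvd_mul_iff_left (Nat.card_pos (α := Q))).1 ?_)
    rw [h1, MulAction.stabilizer_quotient]
    exact ⟨_, h.symm⟩
  · have hz : i ∈ Cfsg.Lib.BenderSuzuki.zGroup hs :=
      (Cfsg.Lib.BenderSuzuki.mem_zGroup hs).2 (Or.inr ((hmem i).1 ⟨hi, hiH⟩))
    exact ⟨Cfsg.Lib.BenderSuzuki.zGroup_le hs hz, fun x hx => Cfsg.Lib.BenderSuzuki.zGroup_comm hs hz hx⟩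
  · intro F _ _ n hn hF hiso
    obtain ⟨f⟩ := hiso
    rw [hcard]
    set r := 2 ^ n with hr
    have hr4 : 4 ≤ r := le_of_eq_of_le (by norm_num) (Nat.pow_le_pow_right two_pos hn)
    have hP := Cfsg.Agent.S0280.result hF 3 (by norm_num)
    rw [← Nat.card_congr f.toEquiv, Finset.prod_range_succ, Finset.prod_range_succ, Finset.prod_range_succ,
      Finset.prod_range_zero, if_pos (by decide), if_neg (by decide), if_pos (by decide)] at hP
    simp only [one_mul, zero_add, pow_one, show 3 * (3 - 1) / 2 = 3 from rfl,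
      show (1 : ℕ) + 1 = 2 from rfl, show (2 : ℕ) + 1 = 3 from rfl] at hP
    have hG := Cfsg.Lib.RankOne.card_group hS
    rw [Cfsg.Lib.BenderSuzuki.card_twoStab hs, hqk, hQc] at hG
    have hg3 : 0 < Nat.gcd 3 (r + 1) := Nat.gcd_pos_of_pos_left _ (by norm_num)
    have hP' : Nat.gcd 3 (r + 1) * Nat.card G = r ^ 3 * ((r ^ 2 - 1) * (r ^ 3 + 1)) := by
      refine Nat.eq_of_mul_eq_mul_left (show 0 < r + 1 by omega) ?_
      linear_combination hP
    set c := Nat.card ↥(Cfsg.Lib.BenderSuzuki.centT (G ⧸ H) ((1 : G) : G ⧸ H) t)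
    by_contra hlt
    push Not at hlt
    have hrsq : r ^ 2 = 2 ^ (2 * n) := by rw [hr, ← pow_mul, mul_comm]
    have hrcube : r ^ 3 = 2 ^ (3 * n) := by rw [hr, ← pow_mul, mul_comm]
    have h2n : 2 * n < k := by
      rw [hrsq] at hlt
      exact (Nat.pow_lt_pow_iff_right one_lt_two).1 hlt
    have hdiv : (2 ^ k) ^ e ∣ r ^ 3 := by
      have hco : Nat.Coprime ((2 ^ k) ^ e) ((r ^ 2 - 1) * (r ^ 3 + 1)) := by
        rw [← pow_mul]
        refine (Nat.coprime_two_left.2 (Nat.odd_mul.2 ⟨?_, ?_⟩)).pow_left _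
        · exact Nat.Even.sub_odd (Nat.one_le_pow _ _ (by omega))
            (Nat.even_pow.2 ⟨Nat.even_pow.2 ⟨even_two, by omega⟩, two_ne_zero⟩) odd_one
        · exact (Nat.even_pow.2 ⟨Nat.even_pow.2 ⟨even_two, by omega⟩, three_ne_zero⟩).add_one
      refine hco.dvd_of_dvd_mul_right ?_
      rw [← hP', hG]
      exact Dvd.dvd.mul_left ((dvd_mul_right _ _).trans (dvd_mul_right _ _)) _
    have he1 : e = 1 := by
      rw [← pow_mul, hrcube, Nat.pow_dvd_pow_iff_le_right one_lt_two] at hdiv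
      rcases he with h | h | h <;> subst h <;> omega
    subst he1
    rw [pow_one] at hdiv hG
    have hk3 : k = 3 * n := by
      rw [hrcube, Nat.pow_dvd_pow_iff_le_right one_lt_two] at hdiv
      refine le_antisymm hdiv ?_
      have hco : Nat.Coprime (2 ^ (3 * n))
          (Nat.gcd 3 (r + 1) * (c * (2 ^ k - 1) * (2 ^ k + 1))) := by
        refine (Nat.coprime_two_left.2 (Nat.odd_mul.2 ⟨?_, Nat.odd_mul.2 ⟨Nat.odd_mul.2 ⟨?_, ?_⟩, ?_⟩⟩)).pow_left _
        · exact Odd.of_dvd_nat (by decide) (Nat.gcd_dvd_left 3 (r + 1))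
        · exact hS.odd_card.of_dvd_nat (card_dvd_of_le inf_le_left)
        · exact Nat.Even.sub_odd (Nat.one_le_pow _ _ two_pos) (Nat.even_pow.2 ⟨even_two, by omega⟩) odd_one
        · exact (Nat.even_pow.2 ⟨even_two, show k ≠ 0 by omega⟩).add_one
      refine (Nat.pow_dvd_pow_iff_le_right one_lt_two).1 (hco.dvd_of_dvd_mul_left ?_)
      refine ⟨(r ^ 2 - 1) * (r ^ 3 + 1), ?_⟩
      rw [← hrcube, ← hP', hG]
      ring
    rw [hk3, ← hrcube] at hG
    rw [hG] at hP'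
    have hpos : 0 < r ^ 3 + 1 := Nat.succ_pos _
    have h1 : Nat.gcd 3 (r + 1) * c * (r ^ 3 - 1) = r ^ 2 - 1 := by
      refine Nat.eq_of_mul_eq_mul_left (show 0 < r ^ 3 * (r ^ 3 + 1) by positivity) ?_
      linear_combination hP'
    have hc0 : 0 < c := Nat.card_pos
    have h2 : r ^ 3 - 1 ≤ r ^ 2 - 1 := h1 ▸ Nat.le_mul_of_pos_left _ (by positivity)
    have h4 : r ^ 2 * 2 ≤ r ^ 3 := by rw [pow_succ r 2]; exact Nat.mul_le_mul_left _ (by omega)
    have h5 : 0 < r ^ 2 := by positivity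
    omega

/-- THE STRUCTURE -/
theorem exists_frame_of
    (reg : ∀ L : Subgroup G, IsSimpleGroup L → ∀ K : Subgroup L, Cfsg.IsStronglyEmbedded K →
      HasCommutingInvolutions L → HasRegular K)
    (hS : Setting H) : ∃ L Q : Subgroup G, Frame H L Q := by
  classical
  haveI : Fact (Nat.Prime 2) := ⟨Nat.prime_two⟩
  have hH := hS.se
  have hO : Cfsg.oddCore G = ⊥ := le_bot_iff.1 (hS.core ▸
    normal_le_normalCore.2 (oddCore_le hH hS.rank2))
  have hSP : Cfsg.IsStronglyPEmbedded 2 H := Cfsg.Lib.Embedded.sPE_iff_norm.2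
    ⟨hH.1, hH.2.1.two_dvd, Cfsg.Lib.Embedded.norm_of_conj fun g hg h =>
      Nat.not_even_iff_odd.2 (hH.2.2 g hg) (even_iff_two_dvd.2 h)⟩
  obtain ⟨hLs, hLna⟩ := Cfsg.Lib.Misc.EmbeddedSimple.genFitting_simple (p := 2) hO H hSP
  set L := Cfsg.generalizedFittingSubgroup G with hLdef
  haveI : L.Normal := inferInstance
  haveI := hLs
  -- all involutions are in `L`
  have hLev : Even (Nat.card L) := by
    by_contra h
    rw [Nat.not_even_iff_odd] at h
    haveI := Cfsg.Agent.PF.isSolvable_of_odd L h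
    exact hLna ⟨⟨fun a b => IsSimpleGroup.comm_iff_isSolvable.2 inferInstance a b⟩⟩
  obtain ⟨i₀, hi₀L, hi₀⟩ := exists_involution_of_even hLev
  have hinv : ∀ i : G, orderOf i = 2 → i ∈ L := fun i hi => by
    obtain ⟨g, hg⟩ := isConj_iff.1 (all_conj hH hi₀ hi)
    rw [← hg]; exact (inferInstance : L.Normal).conj_mem _ hi₀L g
  -- the centraliser
  have hcent : centralizer (L : Set G) = ⊥ := by
    set C := centralizer (L : Set G)
    haveI : C.Normal := ⟨fun x hx g => mem_centralizer_iff.2 fun n hn => by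
      have h1 := mem_centralizer_iff.1 hx _ ((inferInstance : L.Normal).conj_mem n hn g⁻¹)
      calc n * (g * x * g⁻¹) = g * (g⁻¹ * n * g⁻¹⁻¹ * x) * g⁻¹ := by group
        _ = g * (x * (g⁻¹ * n * g⁻¹⁻¹)) * g⁻¹ := by rw [h1]
        _ = g * x * g⁻¹ * n := by group⟩
    have hodd : Odd (Nat.card C) := by
      rw [← Nat.not_even_iff_odd]
      intro h
      obtain ⟨i, hiC, hi⟩ := exists_involution_of_even h
      have hz : (⟨i, hinv i hi⟩ : L) ∈ center L := mem_center_iff.2 fun y =>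
        Subtype.ext (mem_centralizer_iff.1 hiC y y.2)
      rcases IsSimpleGroup.eq_bot_or_eq_top_of_normal (center L) inferInstance with e | e
      · rw [e, mem_bot] at hz
        have : i = 1 := congrArg Subtype.val hz
        rw [this, orderOf_one] at hi; omega
      · exact hLna ⟨⟨fun a b => mem_center_iff.1 (e ▸ mem_top b : b ∈ center L) a⟩⟩
    exact le_bot_iff.1 (hO ▸ Cfsg.Lib.Components.le_pPrimeCore (Nat.coprime_two_right.2 hodd))
  -- the strongly embedded subgroup of `L`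
  set K := H.subgroupOf L with hK
  have hsub : ∀ g : L, (K ⊓ K.map (MulAut.conj g).toMonoidHom).map L.subtype ≤
      H ⊓ H.map (MulAut.conj (g : G)).toMonoidHom := by
    rintro g _ ⟨x, ⟨hx, y, hy, hxy⟩, rfl⟩
    exact ⟨hx, y, hy, congrArg Subtype.val hxy⟩
  have hKSE : Cfsg.IsStronglyEmbedded K := by
    refine ⟨fun h => hH.1 ?_, ?_, fun g hg => ?_⟩
    · have hle : L ≤ H := subgroupOf_eq_top.1 h
      have h0 : L = ⊥ := le_bot_iff.1 (hS.core ▸ normal_le_normalCore.2 hle)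
      rw [h0, mem_bot] at hi₀L
      rw [hi₀L, orderOf_one] at hi₀; omega
    · obtain ⟨i, hiH, hi⟩ := exists_involution_of_even hH.2.1
      exact even_iff_two_dvd.2 (hi ▸ (Subgroup.orderOf_mk i (hinv i hi)).symm ▸
        Subgroup.orderOf_dvd_natCard K (show (⟨i, hinv i hi⟩ : L) ∈ K from hiH))
    · refine (hH.2.2 g hg).of_dvd_nat ?_
      rw [← card_map_of_injective L.subtype_injective]
      exact card_dvd_of_le (hsub g)
  have hrankL : HasCommutingInvolutions L := by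
    obtain ⟨p, q, hp, hq, hne, hc⟩ := hS.rank2
    exact ⟨⟨p, hinv p hp⟩, ⟨q, hinv q hq⟩, (Subgroup.orderOf_mk _ _).trans hp,
      (Subgroup.orderOf_mk _ _).trans hq, fun e => hne (congrArg Subtype.val e), Subtype.ext hc⟩
  obtain ⟨Q₀, hQK, hQn, htr, hrg⟩ := reg L hLs K hKSE hrankL
  obtain ⟨hid, hQ2, hQodd, ⟨k, e, hk, he, hQc, hcard⟩, hQinv, hunit⟩ := simple_data hKSE hrankL hQK hQn htr hrg
  set Q := Q₀.map L.subtype with hQ
  have hQH : Q ≤ H := by rintro _ ⟨x, hx, rfl⟩; exact hQK hx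
  -- `L` is transitive on the cosets of `H`
  have hLH : ∀ g : G, ∃ l ∈ L, l⁻¹ * g ∈ H := by
    intro g
    obtain ⟨s, hsH, hs⟩ := exists_involution_of_even hH.2.1
    have hgs : orderOf (g * s * g⁻¹) = 2 := by rw [orderOf_conj', hs]
    obtain ⟨l, hl⟩ := isConj_iff.1 (all_conj hKSE (a := ⟨s, hinv s hs⟩) (b := ⟨_, hinv _ hgs⟩)
      ((Subgroup.orderOf_mk _ _).trans hs) ((Subgroup.orderOf_mk _ _).trans hgs))
    have hl' : (l : G) * s * (l : G)⁻¹ = g * s * g⁻¹ := congrArg Subtype.val hl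
    refine ⟨l, l.2, centralizer_le hH hs hsH (mem_centralizer_singleton_iff.2 ?_)⟩
    calc (l : G)⁻¹ * g * s = (l : G)⁻¹ * (g * s * g⁻¹) * g := by group
      _ = (l : G)⁻¹ * ((l : G) * s * (l : G)⁻¹) * g := by rw [hl']
      _ = _ := by group
  have hlift : ∀ g : G, g ∉ H → ∃ l : L, (l : G)⁻¹ * g ∈ H ∧ l ∉ K := by
    intro g hg
    obtain ⟨l, hl, h⟩ := hLH g
    exact ⟨⟨l, hl⟩, h, fun hlK => hg (by simpa using mul_mem (show l ∈ H from hlK) h)⟩
  have htrans : ∀ g₁ g₂ : G, g₁ ∉ H → g₂ ∉ H → ∃ u ∈ Q, g₂⁻¹ * (u * g₁) ∈ H := by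
    intro g₁ g₂ h₁ h₂
    obtain ⟨l₁, e₁, k₁⟩ := hlift g₁ h₁
    obtain ⟨l₂, e₂, k₂⟩ := hlift g₂ h₂
    obtain ⟨u, hu, h⟩ := htr l₁ l₂ k₁ k₂
    refine ⟨u, ⟨u, hu, rfl⟩, ?_⟩
    have h' : (l₂ : G)⁻¹ * ((u : G) * (l₁ : G)) ∈ H := h
    have := mul_mem (mul_mem (inv_mem e₂) h') e₁
    simpa [mul_assoc] using this
  have hregG : ∀ g : G, g ∉ H → ∀ u ∈ Q, g⁻¹ * (u * g) ∈ H → u = 1 := by
    rintro g hg _ ⟨u, hu, rfl⟩ h
    obtain ⟨l, el, kl⟩ := hlift g hg
    have h' : (l : G)⁻¹ * ((u : G) * (l : G)) ∈ H := by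
      have := mul_mem (mul_mem el h) (inv_mem el)
      simpa [mul_assoc] using this
    rw [hrg l kl u hu h']; rfl
  -- `Q` is the Sylow subgroup of `H ∩ L`, so it is normal in `H`
  have hQp : IsPGroup 2 Q := hQ2.map _
  have hQeq : ∀ x ∈ H, ∀ y ∈ Q, x * y * x⁻¹ ∈ Q := by
    rintro x hx _ ⟨y, hy, rfl⟩
    set z : L := ⟨x * (y : G) * x⁻¹, (inferInstance : L.Normal).conj_mem _ y.2 x⟩ with hz
    have hzK : z ∈ K := mul_mem (mul_mem hx (hQK hy)) (inv_mem hx)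
    haveI := hQn
    have h1 : orderOf (((⟨z, hzK⟩ : K) : K ⧸ Q₀.subgroupOf K)) ∣ Q₀.relIndex K :=
      orderOf_dvd_natCard _
    have h2 : orderOf (((⟨z, hzK⟩ : K) : K ⧸ Q₀.subgroupOf K)) ∣ orderOf z := by
      rw [← Subgroup.orderOf_mk z hzK]
      exact orderOf_map_dvd (QuotientGroup.mk' (Q₀.subgroupOf K)) _
    obtain ⟨j, hj⟩ : ∃ j, orderOf z = 2 ^ j := by
      obtain ⟨j, hj⟩ := IsPGroup.iff_orderOf.1 hQ2 ⟨y, hy⟩
      exact ⟨j, by rw [← hj, ← Subgroup.orderOf_coe, hz]; simp [orderOf_conj']⟩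
    rw [hj] at h2
    have h3 := Nat.eq_one_of_dvd_coprimes ((Nat.coprime_two_left.2 hQodd).pow_left j) h2 h1
    exact ⟨z, mem_subgroupOf.1 ((QuotientGroup.eq_one_iff _).1 (orderOf_eq_one_iff.1 h3)), rfl⟩
  have hQnorm : H ≤ normalizer (Q : Set G) := fun x hx => mem_normalizer_iff.2 fun y =>
    ⟨hQeq x hx y, fun h => by simpa [mul_assoc] using hQeq x⁻¹ (inv_mem hx) _ h⟩
  -- `H = Q D` with `D` odd
  obtain ⟨g, hg⟩ : ∃ g : G, g ∉ H := by
    by_contra h
    push Not at h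
    exact hH.1 ((Subgroup.eq_top_iff' H).2 h)
  set D := H ⊓ H.map (MulAut.conj g).toMonoidHom with hD
  have hHQD : Q ⊔ D = H := by
    refine le_antisymm (sup_le hQH inf_le_left) fun x hx => ?_
    obtain ⟨u, hu, h⟩ := htrans g (x * g) hg fun h => hg (by simpa using mul_mem (inv_mem hx) h)
    rw [← mul_inv_cancel_left u x]
    refine mul_mem_sup hu (mem_inf.2 ⟨mul_mem (inv_mem (hQH hu)) hx, ?_⟩)
    rw [Cfsg.Lib.StrongEmb.mem_conj_iff]
    simpa [mul_assoc] using inv_mem h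
  have hqodd : Odd (Q.relIndex H) := by
    have h := Cfsg.Lib.Coprime.card_sup_mul_card_inf (show D ≤ normalizer (Q : Set G) from inf_le_left.trans hQnorm)
    rw [hHQD] at h
    have h1 := Subgroup.relIndex_mul_relIndex ⊥ Q H bot_le hQH
    simp only [relIndex_bot_left] at h1
    refine (hH.2.2 g hg).of_dvd_nat ((Nat.mul_dvd_mul_iff_left (Nat.card_pos (α := Q))).1 ?_)
    rw [h1]; exact ⟨_, h.symm⟩
  -- Sylow
  have hidxH : Odd H.index := by
    obtain ⟨hPM, -⟩ := Cfsg.Lib.Embedded.normCond_of_core hSP.2.2.choose hSP.1 hSP.2.2.choose_spec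
    rw [← Nat.not_even_iff_odd]
    exact fun h => hSP.2.2.choose.not_dvd_index (h.two_dvd.trans (index_dvd_of_le hPM))
  have hQidx : Odd Q.index := by
    rw [← relIndex_mul_index hQH]; exact hqodd.mul hidxH
  have hQL : Q ≤ L := map_subtype_le _
  have hcount : Nat.card {i : L // orderOf i = 2 ∧ i ∈ K} = Nat.card {i : G // orderOf i = 2 ∧ i ∈ H} :=
    Nat.card_congr ⟨fun i => ⟨i.1.1, by rw [Subgroup.orderOf_coe]; exact i.2.1, i.2.2⟩,
      fun i => ⟨⟨i.1, hinv i.1 i.2.1⟩, (Subgroup.orderOf_mk _ _).trans i.2.1, i.2.2⟩, fun _ => rfl, fun _ => rfl⟩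
  refine ⟨L, Q,
    { normal := inferInstance, simple := hLs, nonab := hLna, invol := hinv
      oddIndex := hQidx.of_dvd_nat (index_dvd_of_le hQL)
      cent := hcent, qle := hQH, qL := hQL, qn := hQnorm, q2 := hQp, qodd := hqodd
      trans := htrans, reg := hregG
      sylow := ⟨hQp.toSylow (fun h => Nat.not_even_iff_odd.2 hQidx (even_iff_two_dvd.2 h)),
        IsPGroup.toSylow_coe _ _⟩
      ident := hid
      qcard := ⟨k, e, hk, he, by rw [hQ, card_map_of_injective L.subtype_injective, hQc], ?_⟩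
      qinvol := fun i hi hiH => ?_
      unitary := fun F iF iF' n hn hF hiso => hcount ▸ hunit F iF iF' n hn hF hiso }⟩
  · rw [← hcard, hcount]
  · obtain ⟨h1, h2⟩ := hQinv ⟨i, hinv i hi⟩ ((Subgroup.orderOf_mk _ _).trans hi) hiH
    refine ⟨⟨_, h1, rfl⟩, ?_⟩
    rintro _ ⟨x, hx, rfl⟩
    exact congrArg Subtype.val (h2 x hx)

theorem exists_frame (reg : RegProp.{u}) (hS : Setting H) : ∃ L Q : Subgroup G, Frame H L Q :=
  exists_frame_of (fun L hL => reg L hL) hS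

/-- a subgroup of odd order of `H` normalised by `Q` is trivial -/
theorem Frame.eq_bot_of_odd {L Q : Subgroup G} (F : Frame H L Q) (hS : Setting H) {X : Subgroup G}
    (hX : X ≤ H) (hXn : Q ≤ normalizer (X : Set G)) (hodd : Odd (Nat.card X)) : X = ⊥ := by
  have hcomm : ∀ x ∈ X, ∀ u ∈ Q, x * u = u * x := by
    intro x hx u hu
    have h1 : x * u * x⁻¹ * u⁻¹ ∈ X ⊓ Q := by
      refine mem_inf.2 ⟨?_, mul_mem ((mem_normalizer_iff.1 (F.qn (hX hx)) u).1 hu) (inv_mem hu)⟩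
      rw [show x * u * x⁻¹ * u⁻¹ = x * (u * x⁻¹ * u⁻¹) by group]
      exact mul_mem hx ((mem_normalizer_iff.1 (hXn hu) _).1 (inv_mem hx))
    have hb : X ⊓ Q = ⊥ := by
      refine inf_eq_bot_of_coprime ?_
      obtain ⟨j, hj⟩ := IsPGroup.iff_card.1 F.q2
      rw [hj]; exact (Nat.coprime_two_right.2 hodd).pow_right j
    rw [hb, mem_bot] at h1
    exact commutatorElement_eq_one_iff_mul_comm.1 h1
  refine (Subgroup.eq_bot_iff_forall X).2 fun x hx => ?_
  -- it fixes every point outside `H`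
  have hfix : ∀ g : G, g ∉ H → g⁻¹ * (x * g) ∈ H := by
    intro g hg
    obtain ⟨u, hu, h⟩ := F.trans g (x * g) hg
      fun h => hg (by simpa using mul_mem (inv_mem (hX hx)) h)
    have hpow : ∀ n : ℕ, (x ^ n * g)⁻¹ * (u ^ n * g) ∈ H := by
      intro n
      induction n with
      | zero => simp
      | succ n ih =>
        have h' : (x * g)⁻¹ * (u * g) ∈ H := h
        have h1 : (x ^ (n + 1) * g)⁻¹ * (x ^ n * (u * g)) ∈ H := by
          rw [show (x ^ (n + 1) * g)⁻¹ * (x ^ n * (u * g)) = (x * g)⁻¹ * (u * g) by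
            rw [pow_succ]; group]
          exact h'
        have h2 : (x ^ n * (u * g))⁻¹ * (u ^ (n + 1) * g) ∈ H := by
          have hc : x ^ n * u = u * x ^ n := (Commute.pow_left (hcomm x hx u hu) n).eq
          rw [← mul_assoc (x ^ n) u g, hc, show (u * x ^ n * g)⁻¹ * (u ^ (n + 1) * g) = (x ^ n * g)⁻¹ * (u ^ n * g) by
            rw [pow_succ']; group]
          exact ih
        have := mul_mem h1 h2
        rwa [show (x ^ (n + 1) * g)⁻¹ * (x ^ n * (u * g)) * ((x ^ n * (u * g))⁻¹ * (u ^ (n + 1) * g)) =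
          (x ^ (n + 1) * g)⁻¹ * (u ^ (n + 1) * g) by group] at this
    have h1 := hpow (orderOf x)
    rw [pow_orderOf_eq_one, one_mul] at h1
    have h2 := F.reg g hg _ (pow_mem hu _) h1
    have hu1 : u = 1 := by
      obtain ⟨j, hj⟩ := IsPGroup.iff_orderOf.1 F.q2 ⟨u, hu⟩
      rw [← orderOf_eq_one_iff]
      refine Nat.eq_one_of_dvd_coprimes ((Nat.coprime_two_left.2
        (hodd.of_dvd_nat (Subgroup.orderOf_dvd_natCard X hx))).pow_left j) ?_ (orderOf_dvd_of_pow_eq_one h2)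
      rw [← Subgroup.orderOf_mk u hu, hj]
    rw [hu1, one_mul] at h
    simpa [mul_assoc] using inv_mem h
  have hcore : x ∈ H.normalCore := fun g => by
    by_cases hg : g ∈ H
    · exact mul_mem (mul_mem hg (hX hx)) (inv_mem hg)
    · simpa [mul_assoc] using hfix g⁻¹ (fun h => hg (inv_mem_iff.1 h))
  rwa [hS.core, mem_bot] at hcore

/-- the odd core of `H` is trivial -/
theorem Frame.oddCore_bot {L Q : Subgroup G} (F : Frame H L Q) (hS : Setting H) {X : Subgroup G}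
    (hX : X ≤ H) (hXn : H ≤ normalizer (X : Set G)) (hodd : Odd (Nat.card X)) : X = ⊥ :=
  F.eq_bot_of_odd hS hX (F.qle.trans hXn) hodd

theorem Frame.solvable {L Q : Subgroup G} (F : Frame H L Q) : Group.IsSolvable H := by
  haveI : (Q.subgroupOf H).Normal := (normal_subgroupOf_iff_le_normalizer F.qle).2 F.qn
  haveI : Fact (Nat.Prime 2) := ⟨Nat.prime_two⟩
  haveI : Group.IsSolvable (H ⧸ Q.subgroupOf H) := Cfsg.Agent.PF.isSolvable_of_odd _ F.qodd
  haveI := (F.q2.of_equiv (subgroupOfEquivOfLe F.qle).symm).isNilpotent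
  haveI : Group.IsSolvable (Q.subgroupOf H) := inferInstance
  exact Group.isSolvable_of_ker_le_range (Q.subgroupOf H).subtype (QuotientGroup.mk' (Q.subgroupOf H)) (by simp)

end Cfsg.Lib.BenderSE
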