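/-
The dependents of Bender's theorem from REG (a regular normal subgroup in the simple case): rows 0222,
1221, 2903, 2798, 1792, 2027.
-/
import Cfsg.Agent.BenderSE.Dependents.Frame
import Cfsg.Agent.S1222
import Cfsg.Agent.Known.SLTwo.Torus
import Cfsg.Prelude.Def_ClassificationStages
import Cfsg.Prelude.Def_Amalgam

set_option autoImplicit false
set_option linter.unusedSectionVars false
set_option linter.style.haveILetI false

namespace Cfsg.Lib.BenderSE

open Subgroup MulAction Cfsg.Lib.InvolCalc Cfsg.Lib.StrongEmb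

universe u

variable {G : Type u} [Group G] [Finite G] {H : Subgroup G}

theorem se_of_spe (hH : Cfsg.IsStronglyPEmbedded 2 H) : Cfsg.IsStronglyEmbedded H := by
  haveI : Fact (Nat.Prime 2) := ⟨Nat.prime_two⟩
  obtain ⟨hne, h2, hN⟩ := Cfsg.Lib.Embedded.sPE_iff_norm.1 hH
  exact ⟨hne, even_iff_two_dvd.2 h2, fun g hg => Nat.not_even_iff_odd.1 fun h =>
    Cfsg.Lib.Embedded.conj_of_norm hN g hg h.two_dvd⟩

theorem hasComm_of_rankAtLeast (h : Cfsg.PRankAtLeast 2 2 G) : HasCommutingInvolutions G := by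
  classical
  obtain ⟨A, hA, hexp, hcard⟩ := h
  haveI := Fintype.ofFinite A
  rw [Nat.card_eq_fintype_card] at hcard
  obtain ⟨a, ha⟩ := Fintype.exists_ne_of_one_lt_card (show 1 < Fintype.card A by omega) (1 : A)
  obtain ⟨b, -, hb⟩ := Finset.exists_mem_notMem_of_card_lt_card
    (s := ({1, a} : Finset A)) (t := Finset.univ) (by
      rw [Finset.card_univ]; exact lt_of_le_of_lt Finset.card_le_two (by omega))
  simp only [Finset.mem_insert, Finset.mem_singleton, not_or] at hb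
  have ho : ∀ x : A, x ≠ 1 → orderOf (x : G) = 2 := fun x hx =>
    order_two_of_mul_self (by rw [← pow_two]; exact hexp _ x.2) fun e => hx (Subtype.ext e)
  exact ⟨a, b, ho a ha, ho b hb.1, fun e => hb.2 (Subtype.ext e.symm),
    congrArg Subtype.val (mul_comm' a b)⟩

theorem normalCore_eq_oddCore (hH : Cfsg.IsStronglyEmbedded H) (h2 : HasCommutingInvolutions G) :
    H.normalCore = Cfsg.oddCore G :=
  le_antisymm (Cfsg.Lib.Components.le_pPrimeCore (Nat.coprime_two_right.2 (odd_normalCore hH)))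
    (normal_le_normalCore.2 (oddCore_le hH h2))

theorem setting_oddCore (hH : Cfsg.IsStronglyEmbedded H) (h2 : HasCommutingInvolutions G) :
    Setting (H.map (QuotientGroup.mk' (Cfsg.oddCore G))) := by
  have key : ∀ (N : Subgroup G) [N.Normal], N = H.normalCore → Setting (H.map (QuotientGroup.mk' N)) := by
    intro N _ hN
    subst hN
    exact setting_quotient hH h2
  exact key _ (normalCore_eq_oddCore hH h2).symm

theorem comm_of_nonab [IsSimpleGroup G] (hH : Cfsg.IsStronglyEmbedded H) (hna : ¬ IsMulCommutative G) :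
    HasCommutingInvolutions G := by
  obtain ⟨t, -, ht⟩ := exists_involution_of_even hH.2.1
  obtain ⟨x, y, hx, hy, hne, hxx, hyy, hc⟩ := Cfsg.Lib.BenderSuzuki.two_commuting ht hna
  exact ⟨x, y, order_two_of_mul_self hxx hx, order_two_of_mul_self hyy hy, hne, hc⟩

/-- ROW 0222 -/
theorem bender_simple_of_reg (reg : RegProp.{u}) [IsSimpleGroup G] (hna : ∃ a b : G, a * b ≠ b * a)
    (hH : Cfsg.IsStronglyEmbedded H) :
    (∃ (F : Type) (_ : Field F) (_ : Fintype F), CharP F 2 ∧ 4 ≤ Fintype.card F ∧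
        Nonempty (G ≃* Matrix.ProjectiveSpecialLinearGroup (Fin 2) F)) ∨ Cfsg.IsSuzuki G ∨
      (∃ (F : Type) (_ : Field F) (_ : Fintype F) (q : ℕ), Fintype.card F = q ^ 2 ∧ Even q ∧ 4 ≤ q ∧
        Nonempty (G ≃* Cfsg.PSU 3 F q)) := by
  obtain ⟨a, b, hab⟩ := hna
  obtain ⟨Q, hQH, hQn, htrans, hreg⟩ := reg G inferInstance H hH
    (comm_of_nonab hH fun h => hab (mul_comm' a b))
  exact Cfsg.Agent.S1222.result H hH Q hQH hQn htrans hreg

/-- ROW 1221 -/
theorem oddCore_map_le_of_reg (reg : RegProp.{u}) (hH : Cfsg.IsStronglyEmbedded H) :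
    (Cfsg.oddCore ↥H).map H.subtype ≤ Cfsg.oddCore G := by
  set X := (Cfsg.oddCore ↥H).map H.subtype with hX
  have hXH : X ≤ H := map_subtype_le _
  have hXodd : Odd (Nat.card X) := by
    rw [hX, card_map_of_injective H.subtype_injective]
    exact Cfsg.Lib.ZStarApps.odd_card_pPrimeCore
  have hXn : H ≤ normalizer (X : Set G) := by
    refine fun g hg => mem_normalizer_of_maps_to ?_
    rintro _ ⟨y, hy, rfl⟩
    exact ⟨_, (inferInstance : (Cfsg.oddCore ↥H).Normal).conj_mem y hy ⟨g, hg⟩, rfl⟩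
  by_cases h2 : HasCommutingInvolutions G
  · set π := QuotientGroup.mk' (Cfsg.oddCore G) with hπ
    have hS := setting_oddCore hH h2
    obtain ⟨L, Q, F⟩ := exists_frame reg hS
    have hb : X.map π = ⊥ := F.oddCore_bot hS (Subgroup.map_mono hXH) (fun y hy => by
      obtain ⟨g, hg, rfl⟩ := hy
      refine mem_normalizer_of_maps_to ?_
      rintro _ ⟨x, hx, rfl⟩
      exact ⟨g * x * g⁻¹, (mem_normalizer_iff.1 (hXn hg) x).1 hx, by rw [map_mul, map_mul, map_inv]⟩)
      (hXodd.of_dvd_nat (card_map_dvd X π))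
    rwa [Subgroup.map_eq_bot_iff, QuotientGroup.ker_mk'] at hb
  · have htop := sup_eq_top_of_rankOne hH h2
    set O := Cfsg.oddCore G with hO
    have hXO : X ≤ normalizer (O : Set G) := fun x _ => le_normalizer_of_normal (mem_top x)
    haveI : (O ⊔ X).Normal := by
      rw [← normalizer_eq_top_iff, eq_top_iff, ← htop]
      refine sup_le ((le_sup_left : O ≤ O ⊔ X).trans le_normalizer) fun g hg => ?_
      refine mem_normalizer_of_maps_to fun y hy => ?_
      obtain ⟨o, ho, x, hx, rfl⟩ := (Cfsg.Lib.Coprime.mem_sup_of_le_normalizer hXO).1 hy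
      rw [show g * (o * x) * g⁻¹ = g * o * g⁻¹ * (g * x * g⁻¹) by group]
      exact mul_mem_sup ((inferInstance : O.Normal).conj_mem o ho g)
        ((mem_normalizer_iff.1 (hXn hg) x).1 hx)
    refine (le_sup_right : X ≤ O ⊔ X).trans (Cfsg.Lib.Components.le_pPrimeCore (Nat.coprime_two_right.2 ?_))
    exact ((Cfsg.Lib.ZStarApps.odd_card_pPrimeCore (G := G)).mul hXodd).of_dvd_nat
      (Cfsg.Lib.Components.card_sup_dvd_mul O X)

/-- ROW 2903 -/
theorem solvable_of_reg (reg : RegProp.{u}) (hrank : Cfsg.PRankAtLeast 2 2 G)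
    (hH : Cfsg.IsStronglyPEmbedded 2 H) : Group.IsSolvable H := by
  have hse := se_of_spe hH
  have h2 := hasComm_of_rankAtLeast hrank
  set π := QuotientGroup.mk' (Cfsg.oddCore G) with hπ
  obtain ⟨L, Q, F⟩ := exists_frame reg (setting_oddCore hse h2)
  haveI := F.solvable
  haveI : Group.IsSolvable (Cfsg.oddCore G) :=
    Cfsg.Agent.PF.isSolvable_of_odd _ Cfsg.Lib.ZStarApps.odd_card_pPrimeCore
  refine Group.isSolvable_of_ker_le_range (Subgroup.inclusion (oddCore_le hse h2)) (π.subgroupMap H)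
    fun x hx => ?_
  refine ⟨⟨x, (QuotientGroup.eq_one_iff (x : G)).1 (congrArg Subtype.val hx)⟩, Subtype.ext rfl⟩

theorem sl_equiv {F : Type} [Field F] [Fintype F] {n : ℕ} (hn : 2 ≤ n) (hF : Fintype.card F = 2 ^ n) :
    CharP F 2 ∧ 4 ≤ Fintype.card F ∧
      Nonempty (Matrix.ProjectiveSpecialLinearGroup (Fin 2) F ≃* Matrix.SpecialLinearGroup (Fin 2) F) := by
  have hc : CharP F 2 := by
    haveI := Fact.mk Nat.prime_two
    refine (CharP.charP_iff_prime_eq_zero Nat.prime_two).2 ?_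
    have h0 : ((Fintype.card F : ℕ) : F) = 0 := Nat.cast_card_eq_zero F
    rw [hF, Nat.cast_pow] at h0
    exact pow_eq_zero_iff (by omega) |>.1 h0
  haveI := hc
  exact ⟨hc, hF ▸ le_of_eq_of_le (by norm_num) (Nat.pow_le_pow_right two_pos hn),
    ⟨(MulEquiv.ofBijective Cfsg.Lib.GLTwo.prj
      ⟨Cfsg.Lib.GLTwo.prj_injective, QuotientGroup.mk'_surjective _⟩).symm⟩⟩

/-- ROW 2798 -/
theorem structural_of_reg (reg : RegProp.{u}) (hX : Cfsg.IsStronglyPEmbedded 2 H) :
    (∀ t : G, orderOf t = 2 → Cfsg.pPrimeCore 2 G ⊔ Subgroup.centralizer ({t} : Set G) = ⊤ ∧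
        ∀ u ∈ Subgroup.centralizer ({t} : Set G), orderOf u = 2 → u = t) ∨
      (∃ (F : Type) (_ : Field F) (_ : Fintype F), CharP F 2 ∧ 4 ≤ Fintype.card F ∧
        Nonempty (↥(Cfsg.pElementClosure 2 (⊤ : Subgroup (G ⧸ Cfsg.pPrimeCore 2 G))) ≃*
          Matrix.SpecialLinearGroup (Fin 2) F)) ∨
      (∃ (F : Type) (_ : Field F) (_ : Fintype F) (q : ℕ), Even q ∧ 4 ≤ q ∧ Fintype.card F = q ^ 2 ∧
        Nonempty (↥(Cfsg.pElementClosure 2 (⊤ : Subgroup (G ⧸ Cfsg.pPrimeCore 2 G))) ≃* Cfsg.PSU 3 F q)) ∨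
      Cfsg.Lie.IsoSuzuki ↥(Cfsg.pElementClosure 2 (⊤ : Subgroup (G ⧸ Cfsg.pPrimeCore 2 G))) := by
  have hse := se_of_spe hX
  by_cases h2 : HasCommutingInvolutions G
  swap
  · refine Or.inl fun t ht => ⟨?_, fun v hv hv2 =>
      eq_of_commute_of_rankOne h2 hv2 ht (mem_centralizer_singleton_iff.1 hv)⟩
    have hiso : Cfsg.IsIsolatedInvolution t :=
      ⟨ht, fun g hg => eq_of_commute_of_rankOne h2 (by rw [orderOf_conj', ht]) ht hg.symm⟩
    refine eq_top_iff.2 fun g _ => ?_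
    set t' := g * t * g⁻¹ with ht'
    have ht'2 : orderOf t' = 2 := by rw [ht', orderOf_conj', ht]
    have hmem : t * t' ∈ Cfsg.pPrimeCore 2 G := by
      have h1 := Cfsg.Lib.ZStarApps.zstarProp hiso g
      rw [show t * g * t⁻¹ * g⁻¹ = t * (g * t⁻¹ * g⁻¹) by group, inv_of_order_two ht] at h1
      exact h1
    obtain ⟨d, hd, hdt⟩ := conj_of_odd ht ht'2
      (Cfsg.Lib.ZStarApps.odd_card_pPrimeCore.of_dvd_nat (Subgroup.orderOf_dvd_natCard _ hmem))
    set T := Cfsg.pPrimeCore 2 G ⊔ centralizer ({t} : Set G) with hT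
    have htT : t ∈ T := mem_sup_right (mem_centralizer_singleton_iff.2 rfl)
    have hdT : d ∈ T := by
      refine (closure_le _).2 ?_ hd
      rintro x (rfl | hx)
      · exact htT
      · rw [Set.mem_singleton_iff] at hx
        subst hx
        have := mul_mem (inv_mem htT) (mem_sup_left (T := centralizer ({t} : Set G)) hmem)
        rwa [inv_mul_cancel_left] at this
    have hcomm : d⁻¹ * g ∈ centralizer ({t} : Set G) := mem_centralizer_singleton_iff.2 (by
      calc d⁻¹ * g * t = d⁻¹ * (g * t * g⁻¹) * g := by group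
        _ = d⁻¹ * (d * t * d⁻¹) * g := by rw [← ht', hdt]
        _ = t * (d⁻¹ * g) := by group)
    have := mul_mem hdT (mem_sup_right hcomm : d⁻¹ * g ∈ T)
    rwa [mul_inv_cancel_left] at this
  right
  obtain ⟨L, Q, F⟩ := exists_frame reg (setting_oddCore hse h2)
  set W := G ⧸ Cfsg.pPrimeCore 2 G
  haveI := F.normal
  haveI := F.simple
  set C := Cfsg.pElementClosure 2 (⊤ : Subgroup (G ⧸ Cfsg.pPrimeCore 2 G)) with hC
  have hCL : C ≤ L := by
    refine (closure_le _).2 ?_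
    rintro x ⟨-, k, hk⟩
    have h1 : orderOf ((x : (G ⧸ Cfsg.pPrimeCore 2 G) ⧸ L)) ∣ L.index := by
      rw [Subgroup.index_eq_card]; exact orderOf_dvd_natCard _
    have h2 : orderOf ((x : (G ⧸ Cfsg.pPrimeCore 2 G) ⧸ L)) ∣ orderOf x := orderOf_map_dvd (QuotientGroup.mk' L) x
    rw [hk] at h2
    exact (QuotientGroup.eq_one_iff x).1 (orderOf_eq_one_iff.1
      (Nat.eq_one_of_dvd_coprimes ((Nat.coprime_two_left.2 F.oddIndex).pow_left k) h2 h1))
  haveI hCn : C.Normal := ⟨fun x hx g => by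
    have hle : C.map (MulAut.conj g).toMonoidHom ≤ C := by
      rw [hC, Cfsg.pElementClosure, MonoidHom.map_closure, closure_le]
      rintro _ ⟨y, ⟨-, k, hk⟩, rfl⟩
      exact subset_closure ⟨mem_top _, k, (orderOf_conj' g y).trans hk⟩
    exact hle ⟨x, hx, rfl⟩⟩
  have hLC : L ≤ C := by
    rcases IsSimpleGroup.eq_bot_or_eq_top_of_normal (C.subgroupOf L) inferInstance with h | h
    · exfalso
      obtain ⟨i, -, hi⟩ := exists_involution_of_even (setting_oddCore hse h2).se.2.1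
      have hiC : i ∈ C := subset_closure ⟨mem_top i, 1, by rw [hi, pow_one]⟩
      have h1 : (⟨i, F.invol i hi⟩ : L) ∈ C.subgroupOf L := hiC
      rw [h, mem_bot] at h1
      have : i = 1 := congrArg Subtype.val h1
      rw [this, orderOf_one] at hi; omega
    · exact subgroupOf_eq_top.1 h
  let e := MulEquiv.subgroupCongr (le_antisymm hCL hLC)
  rcases F.ident with ⟨K, iK, iK', ⟨n, hn, hK⟩, ⟨f⟩⟩ | ⟨K, iK, iK', m, hm, hK, ⟨f⟩⟩ | ⟨K, iK, iK', n, hn, hK, ⟨f⟩⟩
  · obtain ⟨hc, h4, ⟨g⟩⟩ := sl_equiv hn hK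
    exact Or.inl ⟨K, iK, iK', hc, h4, ⟨(e.trans f).trans g⟩⟩
  · exact Or.inr (Or.inr ⟨K, iK, iK', m, hm, hK, ⟨e.trans f⟩⟩)
  · exact Or.inr (Or.inl ⟨K, iK, iK', 2 ^ n, Nat.even_pow.2 ⟨even_two, by omega⟩,
      le_of_eq_of_le (by norm_num) (Nat.pow_le_pow_right two_pos hn), hK, ⟨e.trans f⟩⟩)

/-- ROW 1792 -/
theorem borel_of_reg (reg : RegProp.{u}) [IsSimpleGroup G] (hG : ¬ IsMulCommutative G) (hmax : IsCoatom H)
    (hH : Cfsg.IsStronglyPEmbedded 2 H) :
    ((∃ (F : Type) (_ : Field F) (_ : Fintype F) (n : ℕ), 2 ≤ n ∧ Fintype.card F = 2 ^ n ∧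
        Nonempty (G ≃* Matrix.ProjectiveSpecialLinearGroup (Fin 2) F)) ∨
      Cfsg.Lie.IsoSuzuki G ∨
      (∃ (F : Type) (_ : Field F) (_ : Fintype F) (n : ℕ), 2 ≤ n ∧ Fintype.card F = (2 ^ n) ^ 2 ∧
        Nonempty (G ≃* Cfsg.PSU 3 F (2 ^ n)))) ∧
    ∃ S : Sylow 2 G, H = Subgroup.normalizer ((S : Subgroup G) : Set G) := by
  have hse := se_of_spe hH
  have h2 := comm_of_nonab hse hG
  have hS : Setting H := ⟨hse, normalCore_eq_bot_of_simple hse, h2⟩
  obtain ⟨L, Q, F⟩ := exists_frame reg hS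
  haveI := F.normal
  refine ⟨?_, ?_⟩
  · obtain ⟨Q', hQH, hQn, htrans, hreg⟩ := reg G inferInstance H hse h2
    rcases (simple_data hse h2 hQH hQn htrans hreg).1 with ⟨K, iK, iK', ⟨n, hn, hK⟩, f⟩ | h | h
    · exact Or.inl ⟨K, iK, iK', n, hn, hK, f⟩
    · exact Or.inr (Or.inl h)
    · exact Or.inr (Or.inr h)
  · obtain ⟨S, hSQ⟩ := F.sylow
    refine ⟨S, ?_⟩
    rw [hSQ]
    rcases eq_or_lt_of_le F.qn with h | h
    · exact h
    · exfalso
      haveI := Subgroup.normalizer_eq_top_iff.1 (hmax.2 _ h)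
      rcases IsSimpleGroup.eq_bot_or_eq_top_of_normal Q inferInstance with e | e
      · obtain ⟨i, hiH, hi⟩ := exists_involution_of_even hse.2.1
        have := (F.qinvol i hi hiH).1
        rw [e, mem_bot] at this
        rw [this, orderOf_one] at hi; omega
      · exact hse.1 (top_le_iff.1 (e ▸ F.qle))

/-- ROW 2027 -/
theorem suzukiType_of_reg (reg : RegProp.{u}) [IsSimpleGroup G] (hG : ¬ IsMulCommutative G)
    (hH : Cfsg.IsStronglyPEmbedded 2 H) : Cfsg.IsDoublyTransitiveSuzukiType H := by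
  haveI : Fact (Nat.Prime 2) := ⟨Nat.prime_two⟩
  have hse := se_of_spe hH
  have h2 := comm_of_nonab hse hG
  obtain ⟨L, Q, F⟩ := exists_frame reg ⟨hse, normalCore_eq_bot_of_simple hse, h2⟩
  obtain ⟨t, htH, ht⟩ := exists_involution_of_even hse.2.1
  have hself : ∀ g : G, H.map (MulAut.conj g).toMonoidHom = H ↔ g ∈ H := fun g =>
    ⟨fun h => conj_eq hse ht htH (h.le ⟨t, htH, rfl⟩), fun hg =>
      Cfsg.Lib.Coprime.conjMap_eq_self (le_normalizer hg)⟩
  have hcomp : ∀ a b : G, (H.map (MulAut.conj a).toMonoidHom).map (MulAut.conj b).toMonoidHom =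
      H.map (MulAut.conj (b * a)).toMonoidHom := fun a b => by
    rw [map_map]; congr 1; ext x; simp [mul_assoc]
  have heq : ∀ a b : G, H.map (MulAut.conj a).toMonoidHom = H.map (MulAut.conj b).toMonoidHom ↔ b⁻¹ * a ∈ H := by
    intro a b
    rw [← hself, ← hcomp]
    constructor
    · intro h
      rw [h, hcomp, inv_mul_cancel]
      convert Subgroup.map_id H using 2
      ext x; simp
    · intro h
      have h' := congrArg (fun K => Subgroup.map (MulAut.conj b).toMonoidHom K) h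
      simp only [hcomp] at h'
      rwa [mul_inv_cancel_left] at h'
  obtain ⟨g, hg⟩ : ∃ g : G, g ∉ H := by
    by_contra h
    push Not at h
    exact hse.1 ((Subgroup.eq_top_iff' H).2 h)
  have hN : H ⊓ normalizer ((H.map (MulAut.conj g).toMonoidHom : Subgroup G) : Set G) =
      H ⊓ H.map (MulAut.conj g).toMonoidHom := by
    refine le_antisymm (fun x hx => mem_inf.2 ⟨hx.1, ?_⟩) (inf_le_inf_left _ le_normalizer)
    have h1 : (H.map (MulAut.conj g).toMonoidHom).map (MulAut.conj x).toMonoidHom =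
        H.map (MulAut.conj g).toMonoidHom := Cfsg.Lib.Coprime.conjMap_eq_self hx.2
    rw [hcomp, heq] at h1
    exact Cfsg.Lib.StrongEmb.mem_conj_iff.2 (by rwa [mul_assoc])
  refine ⟨le_antisymm (fun x hx => (hself x).1 (Cfsg.Lib.Coprime.conjMap_eq_self hx)) le_normalizer,
    ⟨g, fun h => hg ((hself g).1 h)⟩, fun g₁ g₂ h₁ h₂ => ?_, g, fun h => hg ((hself g).1 h), Q, F.qle, ?_, ?_,
    ?_, F.q2.isNilpotent, ?_, fun g₁ g₂ h₁ h₂ => ?_⟩
  · obtain ⟨u, hu, h⟩ := F.trans g₁ g₂ (fun h => h₁ ((hself _).2 h)) (fun h => h₂ ((hself _).2 h))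
    exact ⟨u, F.qle hu, by rw [hcomp, heq]; exact h⟩
  · exact (normal_subgroupOf_iff_le_normalizer F.qle).2 F.qn
  · rw [hN, Subgroup.eq_bot_iff_forall]
    rintro x ⟨hx, -, hxg⟩
    exact F.reg g hg x hx (by simpa [mul_assoc] using Cfsg.Lib.StrongEmb.mem_conj_iff.1 hxg)
  · rw [hN]
    refine le_antisymm (sup_le F.qle inf_le_left) fun x hx => ?_
    obtain ⟨u, hu, h⟩ := F.trans g (x * g) hg fun h => hg (by simpa using mul_mem (inv_mem hx) h)
    rw [← mul_inv_cancel_left u x]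
    refine mul_mem_sup hu (mem_inf.2 ⟨mul_mem (inv_mem (F.qle hu)) hx, ?_⟩)
    rw [Cfsg.Lib.StrongEmb.mem_conj_iff]
    simpa [mul_assoc] using inv_mem h
  · obtain ⟨S, hS⟩ := F.sylow; exact ⟨S, hS.le⟩
  · have hn₁ : g₁ ∉ H := fun h => h₁ ((hself _).2 h)
    obtain ⟨u, hu, h⟩ := F.trans g₁ g₂ hn₁ (fun h => h₂ ((hself _).2 h))
    refine ⟨⟨u, hu⟩, by show (H.map _).map _ = _; rw [hcomp, heq]; exact h, fun y hy => ?_⟩
    change (H.map _).map _ = _ at hy
    rw [hcomp, heq] at hy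
    refine Subtype.ext (inv_mul_eq_one.1 (F.reg g₁ hn₁ _ (mul_mem (inv_mem y.2) hu) ?_))
    have := mul_mem (inv_mem hy) h
    simpa [mul_assoc] using this

end Cfsg.Lib.BenderSE
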