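/-
A constrained group with 2-rank at least three is generated by its odd core, a Sylow 2-subgroup and the
normalisers of the 2-subgroups of 2-rank at least two.
-/
import Cfsg.Agent.Components.Misc.FourConnected
import Cfsg.Agent.Components.CharP
import Cfsg.Agent.Components.PComponents
import Cfsg.Agent.Frobenius.UniqueSubgroup
import Cfsg.Agent.PGroups.AutCyclicIndexTwo
import Cfsg.Agent.Coprime.Sylow
import Cfsg.Agent.S3742
import Cfsg.Agent.Thompson.PComplement

set_option autoImplicit false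
set_option linter.unusedSectionVars false
set_option linter.style.haveILetI false

namespace Cfsg.Lib.BenderSE

open Subgroup Cfsg.Lib.Components Cfsg.Lib.Misc.FourConnected

theorem card_center_quaternion_eight :
    Nat.card (Subgroup.center (QuaternionGroup 2)) ≤ 2 := by
  classical
  rw [Nat.card_congr (Equiv.subtypeEquivRight (fun x => (mem_center_iff (z := x)) ) :
    Subgroup.center (QuaternionGroup 2) ≃ {x : QuaternionGroup 2 // ∀ y, y * x = x * y}),
    Nat.card_eq_fintype_card]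
  decide +kernel

theorem orderOf_xa_lt {n : ℕ} (hn : 2 ≤ n) (i : ZMod (2 * 2 ^ n)) :
    orderOf (QuaternionGroup.xa i) < orderOf (QuaternionGroup.a 1 : QuaternionGroup (2 ^ n)) := by
  haveI : NeZero (2 ^ n) := ⟨pow_ne_zero _ two_ne_zero⟩
  rw [QuaternionGroup.orderOf_xa, QuaternionGroup.orderOf_a_one]
  have : 2 ^ 2 ≤ 2 ^ n := Nat.pow_le_pow_right two_pos hn
  omega

/-- automorphisms of a 2-group with one involution -/
theorem aut_of_unique {R : Type*} [Group R] [Finite R] (hR : IsPGroup 2 R)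
    (huniq : ∀ x y : R, orderOf x = 2 → orderOf y = 2 → x = y) :
    IsPGroup 2 (MulAut R) ∨ Nonempty (R ≃* QuaternionGroup 2) := by
  haveI : Fact (Nat.Prime 2) := ⟨Nat.prime_two⟩
  rcases Cfsg.Lib.UniqueSub.isCyclic_or_quaternion hR (fun x y hx hy => huniq x y hx hy ▸ mem_zpowers x) with
    hc | ⟨-, n, ⟨e⟩⟩
  · exact Or.inl (Cfsg.Lib.AutCyclicIndexTwo.aut_two_group_of_cyclic hR)
  rcases n with _ | _ | n
  · haveI : IsCyclic (QuaternionGroup (2 ^ 0)) := by
      rw [pow_zero]; exact QuaternionGroup.quaternionGroup_one_isCyclic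
    haveI : IsCyclic R := isCyclic_of_surjective e.symm e.symm.surjective
    exact Or.inl (Cfsg.Lib.AutCyclicIndexTwo.aut_two_group_of_cyclic hR)
  · exact Or.inr ⟨e⟩
  · haveI : NeZero (2 ^ (n + 2)) := ⟨pow_ne_zero _ two_ne_zero⟩
    have h := Cfsg.Lib.AutCyclicIndexTwo.aut_two_group (X := QuaternionGroup (2 ^ (n + 2)))
      (r := QuaternionGroup.a 1) (k := n + 3) (by rw [QuaternionGroup.orderOf_a_one]; ring) ?_ ?_
    · exact Or.inl (h.of_equiv (MulAut.congr e).symm)
    · have h1 := (zpowers (QuaternionGroup.a 1 : QuaternionGroup (2 ^ (n + 2)))).card_mul_index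
      rw [Nat.card_zpowers, QuaternionGroup.orderOf_a_one, Nat.card_eq_fintype_card, QuaternionGroup.card] at h1
      refine Nat.eq_of_mul_eq_mul_left (show 0 < 2 * 2 ^ (n + 2) by positivity) ?_
      rw [h1]; ring
    · rintro (i | i) hg
      · refine mem_zpowers_iff.2 ⟨(i.val : ℤ), ?_⟩
        rw [zpow_natCast, QuaternionGroup.a_one_pow, ZMod.natCast_zmod_val]
      · exact absurd hg (orderOf_xa_lt (by omega) i).ne

variable {C : Type*} [Group C] [Finite C]

/-- self-centralising normal 2-subgroup with one involution in a group with 2-rank three: a 2-group -/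
theorem isPGroup_of_unique (R : Subgroup C) [R.Normal] (hR : IsPGroup 2 R)
    (hcent : centralizer (R : Set C) ≤ R) (huniq : ∀ x y : R, orderOf x = 2 → orderOf y = 2 → x = y)
    (A : Subgroup C) (hA : Cfsg.IsElementaryAbelian 2 A) (hA8 : 8 ≤ Nat.card A) : IsPGroup 2 C := by
  haveI : Fact (Nat.Prime 2) := ⟨Nat.prime_two⟩
  let φ : C →* MulAut R := MulAut.conjNormal
  have hker : φ.ker ≤ centralizer (R : Set C) := by
    intro x hx
    refine mem_centralizer_iff.2 fun y hy => ?_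
    have h1 : x * y * x⁻¹ = y := by
      have := congrArg (fun f : MulAut R => (f ⟨y, hy⟩ : C)) (MonoidHom.mem_ker.1 hx)
      simpa [φ] using this
    exact (mul_inv_eq_iff_eq_mul.1 h1).symm
  have hkp : IsPGroup 2 φ.ker := hR.to_le (hker.trans hcent)
  rcases aut_of_unique hR huniq with haut | ⟨⟨e⟩⟩
  · have h := (haut.to_subgroup (⊤ : Subgroup (MulAut R))).comap_of_ker_isPGroup φ hkp
    rw [comap_top] at h
    exact h.of_equiv topEquiv
  exfalso
  have hk2 : Nat.card φ.ker ≤ 2 := by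
    refine le_trans ?_ card_center_quaternion_eight
    refine Nat.card_le_card_of_injective (fun x : φ.ker => (⟨e ⟨x.1, hcent (hker x.2)⟩,
      mem_center_iff.2 fun y => ?_⟩ : Subgroup.center (QuaternionGroup 2))) fun a b h => ?_
    · obtain ⟨y, rfl⟩ := e.surjective y
      rw [← map_mul, ← map_mul]
      exact congrArg e (Subtype.ext (mem_centralizer_iff.1 (hker x.2) y.1 y.2))
    · exact Subtype.ext (congrArg (fun z : R => (z : C)) (e.injective (congrArg Subtype.val h)))
  have hr : Nat.card φ.range ∣ 24 := by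
    refine (Subgroup.card_subgroup_dvd_card φ.range).trans (dvd_of_eq ?_)
    obtain ⟨f⟩ := Cfsg.Agent.S3742.result
    rw [Nat.card_congr ((MulAut.congr e).trans f).toEquiv, Nat.card_eq_fintype_card, Fintype.card_perm,
      Fintype.card_fin]
    decide
  have hC : Nat.card C ∣ 48 := by
    have hrange : Nat.card C = Nat.card φ.ker * Nat.card φ.range := by
      rw [← Subgroup.index_ker, Subgroup.card_mul_index]
    rw [hrange]
    have hk0 : 0 < Nat.card φ.ker := Nat.card_pos
    have hk : Nat.card φ.ker ∣ 2 := by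
      generalize Nat.card φ.ker = k at hk0 hk2 ⊢
      interval_cases k <;> norm_num
    exact mul_dvd_mul hk hr
  have hAR : A ≤ normalizer (R : Set C) := fun x _ => le_normalizer_of_normal (mem_top x)
  have hmul := Cfsg.Lib.Coprime.card_sup_mul_card_inf hAR
  have hinf : Nat.card ↥(R ⊓ A) ≤ 2 := by
    classical
    refine le_trans (Nat.card_le_card_of_injective (fun x : ↥(R ⊓ A) => decide ((x : C) = 1)) fun a b h => ?_)
      (le_of_eq (by simp))
    by_cases ha : (a : C) = 1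
    · have : (b : C) = 1 := by simpa [ha] using h.symm
      exact Subtype.ext (ha.trans this.symm)
    · have hb : (b : C) ≠ 1 := by simpa [ha] using h.symm
      have := huniq ⟨a, a.2.1⟩ ⟨b, b.2.1⟩ (by rw [Subgroup.orderOf_mk]; exact orderOf_eq_prime (hA.2 _ a.2.2) ha)
        (by rw [Subgroup.orderOf_mk]; exact orderOf_eq_prime (hA.2 _ b.2.2) hb)
      exact Subtype.ext (congrArg (fun z : R => (z : C)) this)
  have hRcard : Nat.card R = 8 := by
    rw [Nat.card_congr e.toEquiv, Nat.card_eq_fintype_card, QuaternionGroup.card]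
  rw [hRcard] at hmul
  have hp : IsPGroup 2 ↥(R ⊔ A) := hR.to_sup_of_normal_left (fun x => ⟨1, Subtype.ext (by rw [pow_one]; exact hA.2 x x.2)⟩)
  obtain ⟨j, hj⟩ := IsPGroup.iff_card.1 hp
  have hd := (card_subgroup_dvd_card (R ⊔ A)).trans hC
  rw [hj] at hmul hd
  have h32 : 32 ≤ 2 ^ j := by
    have : 8 * 8 ≤ 2 ^ j * Nat.card ↥(R ⊓ A) := hmul ▸ Nat.mul_le_mul_left 8 hA8
    have h2 : 2 ^ j * Nat.card ↥(R ⊓ A) ≤ 2 ^ j * 2 := Nat.mul_le_mul_left _ hinf
    omega
  have hj5 : 5 ≤ j := (Nat.pow_le_pow_iff_right one_lt_two).1 (by simpa using h32)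
  have := (pow_dvd_pow 2 hj5).trans hd
  norm_num at this

/-- in a constrained group a 2-element stabilising the chain through a central involution lies in `O_{2',2}` -/
theorem map_mem_pCore_of_stab (hpl : Cfsg.pLayer 2 C = ⊥) (P : Sylow 2 C) {z x : C} (hz : z ∈ center C)
    (hzz : z * z = 1) (hx : x ∈ (P : Subgroup C))
    (hxy : ∀ y ∈ (P : Subgroup C), y * x * y⁻¹ = x ∨ y * x * y⁻¹ = x * z) :
    QuotientGroup.mk' (Cfsg.oddCore C) x ∈ Cfsg.pCore 2 (C ⧸ Cfsg.oddCore C) := by
  classical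
  haveI : Fact (Nat.Prime 2) := ⟨Nat.prime_two⟩
  set O := Cfsg.oddCore C with hO
  set q := QuotientGroup.mk' O with hq
  have hcharP : CharPGroup 2 (C ⧸ O) := charP_iff.2 ⟨pPrimeCore_quotient_eq_bot, by
    have h := pLayer_map_q (p := 2) (G := C)
    rw [hpl, Subgroup.map_bot] at h
    exact h.symm⟩
  set Rb := Cfsg.pCore 2 (C ⧸ O) with hRb
  haveI : Rb.Normal := pCore_normal' 2
  have hRP : Rb ≤ ((P.mapSurjective (QuotientGroup.mk'_surjective O) : Sylow 2 (C ⧸ O)) : Subgroup (C ⧸ O)) :=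
    Cfsg.Lib.Thompson.le_sylow_of_normal (isPGroup_pCore 2) _
  set zb := q z with hzb
  have hzc : ∀ k : C ⧸ O, k * zb = zb * k := fun k => by
    obtain ⟨k, rfl⟩ := QuotientGroup.mk'_surjective O k
    rw [hzb, ← hq, ← map_mul, ← map_mul, mem_center_iff.1 hz k]
  have hzb2 : zb * zb = 1 := by rw [hzb, ← map_mul, hzz, map_one]
  let K : Subgroup (C ⧸ O) :=
    { carrier := {k | ∀ r ∈ Rb, k * r * k⁻¹ = r ∨ k * r * k⁻¹ = r * zb}
      one_mem' := fun r _ => Or.inl (by group)
      mul_mem' := fun {a b} ha hb r hr => by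
        rw [show a * b * r * (a * b)⁻¹ = a * (b * r * b⁻¹) * a⁻¹ by group]
        rcases hb r hr with e | e <;> rcases ha r hr with e' | e' <;> rw [e]
        · exact Or.inl e'
        · exact Or.inr e'
        · refine Or.inr ?_
          rw [show a * (r * zb) * a⁻¹ = a * r * (zb * a⁻¹) by group, ← hzc, ← mul_assoc, e']
        · refine Or.inl ?_
          rw [show a * (r * zb) * a⁻¹ = a * r * (zb * a⁻¹) by group, ← hzc, ← mul_assoc, e',
            mul_assoc, hzb2, mul_one]
      inv_mem' := fun {a} ha r hr => by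
        rw [inv_inv]
        rcases ha _ ((inferInstance : Rb.Normal).conj_mem' r hr a) with e | e
        · refine Or.inl ?_
          rw [show a * (a⁻¹ * r * a) * a⁻¹ = r by group] at e
          exact e.symm
        · refine Or.inr ?_
          rw [show a * (a⁻¹ * r * a) * a⁻¹ = r by group] at e
          calc a⁻¹ * r * a = (a⁻¹ * r * a) * (zb * zb) := by rw [hzb2, mul_one]
            _ = r * zb := by rw [← mul_assoc, ← e] }
  haveI : K.Normal := ⟨fun k hk g r hr => by
    rw [show g * k * g⁻¹ * r * (g * k * g⁻¹)⁻¹ = g * (k * (g⁻¹ * r * g) * k⁻¹) * g⁻¹ by group]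
    rcases hk _ ((inferInstance : Rb.Normal).conj_mem' r hr g) with e | e <;> rw [e]
    · exact Or.inl (by group)
    · refine Or.inr ?_
      rw [show g * (g⁻¹ * r * g * zb) * g⁻¹ = r * g * (zb * g⁻¹) by group, ← hzc]
      group⟩
  have hK2 : IsPGroup 2 K := by
    intro k
    have hk2 : (k : C ⧸ O) ^ 2 ∈ Rb := hcharP (mem_centralizer_iff.2 fun r hr => by
      have h2 : (k : C ⧸ O) ^ 2 * r * ((k : C ⧸ O) ^ 2)⁻¹ = r := by
        rw [show (k : C ⧸ O) ^ 2 * r * ((k : C ⧸ O) ^ 2)⁻¹ =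
          (k : C ⧸ O) * ((k : C ⧸ O) * r * (k : C ⧸ O)⁻¹) * (k : C ⧸ O)⁻¹ by rw [pow_two]; group]
        rcases k.2 r hr with e | e <;> rw [e]
        · exact e
        · rw [show (k : C ⧸ O) * (r * zb) * (k : C ⧸ O)⁻¹ = (k : C ⧸ O) * r * (zb * (k : C ⧸ O)⁻¹) by group,
            ← hzc, ← mul_assoc, e, mul_assoc, hzb2, mul_one]
      exact (mul_inv_eq_iff_eq_mul.1 h2).symm)
    obtain ⟨j, hj⟩ := (isPGroup_pCore (G := C ⧸ O) 2) ⟨_, hk2⟩
    refine ⟨j + 1, Subtype.ext ?_⟩
    rw [Subgroup.coe_pow, pow_succ', pow_mul]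
    exact congrArg Subtype.val hj
  show q x ∈ Rb
  refine le_pCore hK2 fun r hr => ?_
  obtain ⟨y, hy, rfl⟩ : r ∈ (P : Subgroup C).map q := hRP hr
  rcases hxy y hy with e | e
  · refine Or.inl ?_
    rw [← map_inv, ← map_mul, ← map_mul]
    exact congrArg q (mul_inv_eq_iff_eq_mul.2 (mul_inv_eq_iff_eq_mul.1 e).symm)
  · refine Or.inr ?_
    rw [hzb, ← map_inv, ← map_mul, ← map_mul, ← map_mul]
    refine congrArg q (mul_inv_eq_iff_eq_mul.2 ?_)
    have e' := mul_inv_eq_iff_eq_mul.1 e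
    have hzc' := mem_center_iff.1 hz
    calc x * y = x * (z * z) * y := by rw [hzz, mul_one]
      _ = x * z * (z * y) := by group
      _ = (x * z * y) * z := by rw [← hzc' y, ← mul_assoc (x * z)]
      _ = y * x * z := by rw [e']
      _ = y * z * x := by rw [mul_assoc y x z, hzc' x, ← mul_assoc]

/-- THE GENERATION LEMMA; the 2-subgroup to be checked contains everything that stabilises a central involution -/
theorem eq_top_of_constrained_core (hpl : Cfsg.pLayer 2 C = ⊥) (P : Sylow 2 C) {A : Subgroup C}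
    (hA : Cfsg.IsElementaryAbelian 2 A) (hA8 : 8 ≤ Nat.card A) {M : Subgroup C}
    (hOM : Cfsg.oddCore C ≤ M) (hPM : (P : Subgroup C) ≤ M)
    (hN : ∀ Q : Subgroup C, Q ≤ (P : Subgroup C) → (∃ V : Subgroup C, IsKleinFour V ∧ V ≤ Q) →
      (∀ z ∈ center C, z * z = 1 → ∀ x ∈ (P : Subgroup C),
        (∀ y ∈ (P : Subgroup C), y * x * y⁻¹ = x ∨ y * x * y⁻¹ = x * z) → x ∈ Q) →
      normalizer (Q : Set C) ≤ M) : M = ⊤ := by
  classical
  haveI : Fact (Nat.Prime 2) := ⟨Nat.prime_two⟩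
  set O := Cfsg.oddCore C with hO
  set q := QuotientGroup.mk' O with hq
  have hOodd : Odd (Nat.card O) := Nat.coprime_two_right.1 (coprime_card_pPrimeCore (G := C) 2)
  have hcharP : CharPGroup 2 (C ⧸ O) := charP_iff.2 ⟨pPrimeCore_quotient_eq_bot, by
    have h := pLayer_map_q (p := 2) (G := C)
    rw [hpl, Subgroup.map_bot] at h
    exact h.symm⟩
  set Rb := Cfsg.pCore 2 (C ⧸ O) with hRb
  haveI : Rb.Normal := pCore_normal' 2
  set Pb := P.mapSurjective (QuotientGroup.mk'_surjective O) with hPb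
  have hRP : Rb ≤ (Pb : Subgroup (C ⧸ O)) := by
    haveI : IsPGroup 2 Rb := isPGroup_pCore 2
    exact Cfsg.Lib.Thompson.le_sylow_of_normal (isPGroup_pCore 2) Pb
  set D := Rb.comap q with hD
  set R₀ := D ⊓ (P : Subgroup C) with hR₀
  have hOD : O ≤ D := fun x hx => by
    show q x ∈ Rb
    rw [show q x = 1 from (QuotientGroup.eq_one_iff x).2 hx]
    exact one_mem _
  have hqR : R₀.map q = Rb := by
    refine le_antisymm (by rintro _ ⟨x, hx, rfl⟩; exact hx.1) fun r hr => ?_
    obtain ⟨p, hp, hpr⟩ : r ∈ (P : Subgroup C).map q := hRP hr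
    exact ⟨p, ⟨show q p ∈ Rb from hpr ▸ hr, hp⟩, hpr⟩
  have hinj : ∀ x ∈ (P : Subgroup C), q x = 1 → x = 1 := by
    intro x hx hx1
    obtain ⟨j, hj⟩ := IsPGroup.iff_orderOf.1 P.2 ⟨x, hx⟩
    rw [Subgroup.orderOf_mk] at hj
    have h1 := Subgroup.orderOf_dvd_natCard O ((QuotientGroup.eq_one_iff x).1 hx1)
    rw [hj] at h1
    exact orderOf_eq_one_iff.1 (hj.trans (Nat.eq_one_of_dvd_coprimes
      ((Nat.coprime_two_left.2 hOodd).pow_left j) dvd_rfl h1))
  by_cases hV : ∃ V : Subgroup C, IsKleinFour V ∧ V ≤ R₀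
  · have hR₀n : R₀ ≤ normalizer (O : Set C) := fun x _ => le_normalizer_of_normal (mem_top x)
    have hDeq : O ⊔ R₀ = D := by
      refine le_antisymm (sup_le hOD inf_le_left) fun x hx => ?_
      obtain ⟨p, hp, hpe⟩ : q x ∈ R₀.map q := hqR.symm ▸ hx
      rw [← mul_inv_cancel_right x p⁻¹, inv_inv]
      refine mul_mem_sup ((QuotientGroup.eq_one_iff _).1 ?_) hp
      rw [← QuotientGroup.mk'_apply, map_mul, map_inv, ← hq, hpe, mul_inv_cancel]
    haveI : D.Normal := (inferInstance : Rb.Normal).comap q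
    have hidx : ¬ 2 ∣ (R₀.subgroupOf D).index := by
      intro h
      refine hOodd.not_two_dvd_nat (h.trans ?_)
      have h1 := (R₀.subgroupOf D).card_mul_index
      have h2 := Cfsg.Lib.Coprime.card_sup_mul_card_inf hR₀n
      rw [Nat.card_congr (subgroupOfEquivOfLe (inf_le_left : R₀ ≤ D)).toEquiv] at h1
      rw [hDeq, ← h1, mul_comm (Nat.card O), mul_assoc] at h2
      exact ⟨_, (Nat.eq_of_mul_eq_mul_left Nat.card_pos h2).symm⟩
    set R₁ := ((P.2.to_le (inf_le_right : R₀ ≤ P)).comap_subtype (K := D)).toSylow hidx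
    have hsup := Sylow.normalizer_sup_eq_top R₁
    rw [show (R₁ : Subgroup D) = R₀.subgroupOf D from IsPGroup.toSylow_coe _ _] at hsup
    rw [subgroupOf_map_subtype, inf_eq_left.2 (inf_le_left : R₀ ≤ D)] at hsup
    rw [eq_top_iff, ← hsup]
    refine sup_le (hN R₀ inf_le_right hV fun z hz hzz x hx hxy => ⟨?_, hx⟩) ?_
    · -- the stabiliser of the chain through `z` is a normal 2-subgroup
      exact map_mem_pCore_of_stab hpl P hz hzz hx hxy
    rw [← hDeq]
    exact sup_le hOM (inf_le_right.trans hPM)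
  · have huniq : ∀ x y : Rb, orderOf x = 2 → orderOf y = 2 → x = y := by
      intro x y hx hy
      haveI : IsPGroup 2 Rb := isPGroup_pCore 2
      have hex : ∀ w : Rb, orderOf w = 2 → ∃ p ∈ R₀, q p = (w : C ⧸ O) ∧ p * p = 1 ∧ p ≠ 1 := by
        intro w hw
        obtain ⟨p, hp, hpe⟩ : (w : C ⧸ O) ∈ R₀.map q := hqR.symm ▸ w.2
        refine ⟨p, hp, hpe, hinj _ (mul_mem hp.2 hp.2) ?_, fun e => ?_⟩
        · rw [map_mul, hpe, ← pow_two, ← Subgroup.coe_pow]
          have h2 := pow_orderOf_eq_one w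
          rw [hw] at h2
          rw [h2]; rfl
        · rw [e, map_one] at hpe
          rw [show w = 1 from Subtype.ext hpe.symm, orderOf_one] at hw
          omega
      obtain ⟨px, hpx, hqx, hx2, hx1⟩ := hex x hx
      obtain ⟨py, hpy, hqy, hy2, hy1⟩ := hex y hy
      have hctr : ∀ a ∈ R₀, ∀ b ∈ R₀, a * a = 1 → b * b = 1 → a ≠ 1 → b ≠ 1 → a * b = b * a → a = b := by
        intro a ha b hb ha2 hb2 ha1 hb1 hab
        by_contra hne
        obtain ⟨V, hV', -, -, hle⟩ := exists_klein ha2 hb2 ha1 hb1 hne hab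
        exact hV ⟨V, hV', hle R₀ ha hb⟩
      -- all involutions of `R₀` equal a central one
      haveI : Nontrivial R₀ := ⟨⟨⟨px, hpx⟩, 1, fun e => hx1 (congrArg Subtype.val e)⟩⟩
      haveI := (P.2.to_le (inf_le_right : R₀ ≤ P)).center_nontrivial
      obtain ⟨j, hj⟩ := IsPGroup.iff_card.1 ((P.2.to_le (inf_le_right : R₀ ≤ P)).to_subgroup (center R₀))
      obtain ⟨w, hw⟩ := exists_prime_orderOf_dvd_card' (G := center R₀) 2 (hj ▸ dvd_pow_self 2 fun e => by
        rw [e, pow_zero] at hj; exact (Finite.one_lt_card (α := center R₀)).ne' hj)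
      have hw1 : ((w : R₀) : C) ≠ 1 := fun e => by
        rw [show w = 1 from Subtype.ext (Subtype.ext e), orderOf_one] at hw; omega
      have hw2 : ((w : R₀) : C) * ((w : R₀) : C) = 1 := by
        have : w ^ 2 = 1 := hw ▸ pow_orderOf_eq_one w
        rw [pow_two] at this
        exact congrArg (fun z : center R₀ => ((z : R₀) : C)) this
      have key : ∀ p ∈ R₀, p * p = 1 → p ≠ 1 → p = ((w : R₀) : C) := fun p hp h2 h1 =>
        hctr p hp _ (w : R₀).2 h2 hw2 h1 hw1 (congrArg Subtype.val (mem_center_iff.1 w.2 ⟨p, hp⟩))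
      exact Subtype.ext (by rw [← hqx, ← hqy, key px hpx hx2 hx1, key py hpy hy2 hy1])
    obtain ⟨g, hg⟩ : ∃ g : C, A ≤ ((g • P : Sylow 2 C) : Subgroup C) := by
      obtain ⟨T, hT⟩ := (show IsPGroup 2 A from fun x => ⟨1, Subtype.ext (by rw [pow_one]; exact hA.2 x x.2)⟩).exists_le_sylow
      obtain ⟨g, rfl⟩ := MulAction.exists_smul_eq C P T
      exact ⟨g, hT⟩
    have hAinj : ∀ x ∈ A, q x = 1 → x = 1 := by
      intro x hx hx1
      by_contra hne
      have h1 := Subgroup.orderOf_dvd_natCard O ((QuotientGroup.eq_one_iff x).1 hx1)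
      rw [orderOf_eq_prime (hA.2 x hx) hne] at h1
      exact hOodd.not_two_dvd_nat h1
    have hAb : Cfsg.IsElementaryAbelian 2 (A.map q) := by
      haveI := hA.1
      refine ⟨⟨⟨?_⟩⟩, ?_⟩
      · rintro ⟨_, a, ha, rfl⟩ ⟨_, b, hb, rfl⟩
        refine Subtype.ext (show q a * q b = q b * q a from ?_)
        rw [← map_mul, ← map_mul]
        exact congrArg q (congrArg Subtype.val (mul_comm' (⟨a, ha⟩ : A) ⟨b, hb⟩))
      · rintro _ ⟨a, ha, rfl⟩
        rw [← map_pow, hA.2 a ha, map_one]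
    have hAcard : Nat.card (A.map q) = Nat.card A := by
      refine (Nat.card_congr (Equiv.ofBijective (q.subgroupMap A) ⟨?_, q.subgroupMap_surjective A⟩)).symm
      rw [← MonoidHom.ker_eq_bot_iff, Subgroup.eq_bot_iff_forall]
      exact fun x hx => Subtype.ext (hAinj x x.2 (congrArg Subtype.val hx))
    have h2 : IsPGroup 2 (C ⧸ O) :=
      isPGroup_of_unique Rb (isPGroup_pCore 2) hcharP huniq (A.map q) hAb (hAcard.symm ▸ hA8)
    have htop : (Pb : Subgroup (C ⧸ O)) = ⊤ :=
      (Pb.is_maximal' (h2.to_subgroup ⊤) le_top).symm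
    rw [eq_top_iff]
    intro x _
    obtain ⟨p, hp, hpe⟩ : q x ∈ (P : Subgroup C).map q := by
      have h := mem_top (q x)
      rw [← htop] at h
      exact h
    rw [← mul_inv_cancel_right x p⁻¹, inv_inv]
    refine mul_mem (hOM ((QuotientGroup.eq_one_iff _).1 ?_)) (hPM hp)
    rw [← QuotientGroup.mk'_apply, map_mul, map_inv, ← hq, hpe, mul_inv_cancel]

theorem eq_top_of_constrained (hpl : Cfsg.pLayer 2 C = ⊥) (P : Sylow 2 C) {A : Subgroup C}
    (hA : Cfsg.IsElementaryAbelian 2 A) (hA8 : 8 ≤ Nat.card A) {M : Subgroup C}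
    (hOM : Cfsg.oddCore C ≤ M) (hPM : (P : Subgroup C) ≤ M)
    (hN : ∀ Q : Subgroup C, Q ≤ (P : Subgroup C) → (∃ V : Subgroup C, IsKleinFour V ∧ V ≤ Q) →
      normalizer (Q : Set C) ≤ M) : M = ⊤ :=
  eq_top_of_constrained_core hpl P hA hA8 hOM hPM fun Q h1 h2 _ => hN Q h1 h2

end Cfsg.Lib.BenderSE
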