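/-
Groups of non-component type with connected Sylow 2-subgroup: constraint and balance.
-/
import Cfsg.Agent.Components.Misc.ConstrainedCores
import Cfsg.Agent.Components.CharP
import Cfsg.Agent.Components.PComponents
import Cfsg.Agent.S1293
import Cfsg.Agent.S1327
import Cfsg.Agent.PGroups.Basic

set_option autoImplicit false
set_option linter.unusedSectionVars false
set_option linter.style.haveILetI false

namespace Cfsg.Lib.BenderSE

open Subgroup Cfsg.Lib.Components

universe u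

variable {G : Type u} [Group G] [Finite G]

theorem pLayer_eq_bot_of_noComponent {X : Type*} [Group X] [Finite X]
    (h : ¬ Cfsg.HasComponent (X ⧸ Cfsg.oddCore X)) : Cfsg.pLayer 2 X = ⊥ := by
  haveI : Fact (Nat.Prime 2) := ⟨Nat.prime_two⟩
  rw [← le_bot_iff]
  exact sSup_le fun K hK => (h ⟨_, pcomp_image hK⟩).elim

/-- every involution centraliser has trivial 2-layer -/
theorem pLayer_centralizer_of_nonComponent (hc : ¬ Cfsg.IsComponentType G) {t : G} (ht : orderOf t = 2) :
    Cfsg.pLayer 2 ↥(centralizer ({t} : Set G)) = ⊥ :=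
  pLayer_eq_bot_of_noComponent fun h => hc ⟨t, ht, h⟩

theorem exists_central_involution {T : Subgroup G} (hT : IsPGroup 2 T) (hT1 : T ≠ ⊥) :
    ∃ z ∈ T, orderOf z = 2 ∧ ∀ y ∈ T, y * z = z * y := by
  haveI : Fact (Nat.Prime 2) := ⟨Nat.prime_two⟩
  haveI : Nontrivial T := (Subgroup.nontrivial_iff_ne_bot T).2 hT1
  obtain ⟨w, -, hwc, hwo⟩ := Cfsg.Lib.PGroups.exists_mem_center_of_normal_ne_bot hT (N := (⊤ : Subgroup T))
    top_ne_bot
  exact ⟨w, w.2, by rw [Subgroup.orderOf_coe, hwo], fun y hy =>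
    congrArg Subtype.val (mem_center_iff.1 hwc ⟨y, hy⟩)⟩

theorem pLayer_subgroup_of_normal {X : Type*} [Group X] [Finite X] (Y : Subgroup X) [Y.Normal]
    (h : Cfsg.pLayer 2 X = ⊥) : Cfsg.pLayer 2 Y = ⊥ := by
  haveI : Fact (Nat.Prime 2) := ⟨Nat.prime_two⟩
  rw [← le_bot_iff]
  refine sSup_le fun K hK => ?_
  have h1 := (pcomp_map_subtype_iff (Subgroup.Normal.isSubnormal (inferInstance : Y.Normal))).2 hK
  exact (pcomp_ne_bot h1 (le_bot_iff.1 (h ▸ le_sSup h1))).elim

theorem pLayer_congr {X Y : Type u} [Group X] [Finite X] [Group Y] [Finite Y] (e : X ≃* Y)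
    (h : Cfsg.pLayer 2 X = ⊥) : Cfsg.pLayer 2 Y = ⊥ := by
  haveI : Fact (Nat.Prime 2) := ⟨Nat.prime_two⟩
  rw [← le_bot_iff]
  refine sSup_le fun K hK => ?_
  have h1 := pcomp_map_equiv hK e.symm
  exact (pcomp_ne_bot h1 (le_bot_iff.1 (h ▸ le_sSup h1))).elim

/-- `C_G(T)` is normal in `N_C(T)` when `C` contains both -/
theorem centralizer_in {C T : Subgroup G} (hTC : T ≤ C) (hC : centralizer (T : Set G) ≤ C) :
    ∃ Y : Subgroup ↥(normalizer ((T.subgroupOf C : Subgroup C) : Set C)),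
      Y.Normal ∧ Nonempty (Y ≃* ↥(centralizer (T : Set G))) := by
  set C' := centralizer (T : Set G)
  set M₁ := normalizer ((T.subgroupOf C : Subgroup C) : Set C)
  have hle : C'.subgroupOf C ≤ M₁ := fun x hx => centralizer_le_normalizer _ (mem_centralizer_iff.2
    fun y hy => Subtype.ext (mem_centralizer_iff.1 (mem_subgroupOf.1 hx) _ hy))
  refine ⟨(C'.subgroupOf C).subgroupOf M₁, ⟨fun x hx g => ?_⟩,
    ⟨(subgroupOfEquivOfLe hle).trans (subgroupOfEquivOfLe hC)⟩⟩
  refine mem_subgroupOf.2 (mem_subgroupOf.2 (mem_centralizer_iff.2 fun y hy => ?_))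
  have hy' : ((g : C) : G)⁻¹ * y * (g : C) ∈ (T : Set G) :=
    (mem_normalizer_iff''.1 g.2 (⟨y, hTC hy⟩ : C)).1 hy
  have h2 := mem_centralizer_iff.1 (mem_subgroupOf.1 (mem_subgroupOf.1 hx)) _ hy'
  simp only [Subgroup.coe_mul, Subgroup.coe_inv]
  calc y * (((g : C) : G) * ((x : C) : G) * ((g : C) : G)⁻¹)
      = ((g : C) : G) * ((((g : C) : G)⁻¹ * y * (g : C)) * ((x : C) : G)) * ((g : C) : G)⁻¹ := by group
    _ = ((g : C) : G) * (((x : C) : G) * (((g : C) : G)⁻¹ * y * (g : C))) * ((g : C) : G)⁻¹ := by rw [h2]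
    _ = _ := by group

/-- every 2-local is constrained -/
theorem constrained_of_nonComponent (hc : ¬ Cfsg.IsComponentType G) :
    ∀ T : Subgroup G, IsPGroup 2 T → T ≠ ⊥ → Cfsg.IsPConstrained 2 ↥(normalizer (T : Set G)) := by
  intro T hT hT1
  haveI : Fact (Nat.Prime 2) := ⟨Nat.prime_two⟩
  rw [Cfsg.Agent.S1327.result 2]
  obtain ⟨z, hzT, hz, hzc⟩ := exists_central_involution hT hT1
  set C := centralizer ({z} : Set G)
  set C' := centralizer (T : Set G)
  set N := normalizer (T : Set G)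
  have hTC : T ≤ C := fun y hy => mem_centralizer_singleton_iff.2 (hzc y hy)
  have hC'C : C' ≤ C := centralizer_le (Set.singleton_subset_iff.2 hzT)
  -- the centraliser of `T`
  have hC' : Cfsg.pLayer 2 C' = ⊥ := by
    set T' := T.subgroupOf C
    have hT'1 : T' ≠ ⊥ := fun h => hT1 ((subgroupOf_eq_bot.1 h).eq_bot_of_le hTC)
    have h1 := (Cfsg.Agent.S1293.result 2 (pLayer_centralizer_of_nonComponent hc hz) T' hT.comap_subtype hT'1).1
    obtain ⟨Y, hYn, ⟨e⟩⟩ := centralizer_in hTC hC'C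
    haveI := hYn
    exact pLayer_congr e (pLayer_subgroup_of_normal Y h1)
  rw [← le_bot_iff]
  refine sSup_le fun K hK => ?_
  haveI : (C'.subgroupOf N).Normal := normal_subgroupOf_of_le_normalizer (normalizer_le_normalizer_centralizer' T)
  have hTcore : T.subgroupOf N ≤ Cfsg.pCore 2 N := by
    haveI : (T.subgroupOf N).Normal := normal_subgroupOf_of_le_normalizer le_rfl
    exact le_pCore hT.comap_subtype
  have hKY : K ≤ C'.subgroupOf N := by
    intro x hx
    refine mem_subgroupOf.2 (mem_centralizer_iff.2 fun y hy => ?_)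
    exact congrArg Subtype.val (mem_centralizer_iff.1
      (commutator_eq_bot_iff_le_centralizer.1 (pcomp_commute_pCore hK) hx)
      (⟨y, le_normalizer hy⟩ : N) (hTcore (mem_subgroupOf.2 hy)))
  have h2 : IsPComponent 2 (K.subgroupOf (C'.subgroupOf N)) := by
    rw [← pcomp_map_subtype_iff (Subgroup.Normal.isSubnormal inferInstance), map_subgroupOf_eq_of_le hKY]
    exact hK
  have h3 := pcomp_map_equiv h2 (subgroupOfEquivOfLe (centralizer_le_normalizer (T : Set G)))
  exact (pcomp_ne_bot h3 (le_bot_iff.1 (hC' ▸ le_sSup h3))).elim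

/-- characteristic 2 type from trivial cores -/
theorem charTwoType_of_cores (h2 : Even (Nat.card G)) (hc : ¬ Cfsg.IsComponentType G)
    (hO : ∀ t : G, orderOf t = 2 → Cfsg.centralizerPPrimeCore 2 t = ⊥) :
    Cfsg.IsCharacteristicTwoType G := by
  haveI : Fact (Nat.Prime 2) := ⟨Nat.prime_two⟩
  refine ⟨h2, fun T hT hT1 => ?_⟩
  obtain ⟨z, hzT, hz, hzc⟩ := exists_central_involution hT hT1
  set C := centralizer ({z} : Set G)
  set C' := centralizer (T : Set G)
  set N := normalizer (T : Set G)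
  have hO0 : Cfsg.pPrimeCore 2 C = ⊥ := by
    have h := hO z hz
    rwa [Cfsg.centralizerPPrimeCore, Subgroup.map_eq_bot_iff_of_injective _ (Subgroup.subtype_injective _)] at h
  have hC : CharPGroup 2 C := by
    refine charP_iff.2 ⟨hO0, le_bot_iff.1 (sSup_le fun K hK => ?_)⟩
    let e : C ≃* C ⧸ Cfsg.pPrimeCore 2 C := MulEquiv.ofBijective (QuotientGroup.mk' _)
      ⟨(MonoidHom.ker_eq_bot_iff _).mp (by rw [QuotientGroup.ker_mk', hO0]), QuotientGroup.mk'_surjective _⟩
    exact (hc ⟨z, hz, _, (comp_map_equiv_iff (e := e)).2 hK⟩).elim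
  have hTC : T ≤ C := fun y hy => mem_centralizer_singleton_iff.2 (hzc y hy)
  have hC'C : C' ≤ C := centralizer_le (Set.singleton_subset_iff.2 hzT)
  have hC'char : CharPGroup 2 C' := by
    obtain ⟨Y, hYn, ⟨e⟩⟩ := centralizer_in hTC hC'C
    haveI := hYn
    exact charP_congr e (charP_subnormal (charP_normalizer_subgroup hC hT.comap_subtype)
      (Subgroup.Normal.isSubnormal hYn))
  haveI : (T.subgroupOf N).Normal := normal_subgroupOf_of_le_normalizer le_rfl
  refine charP_of_centralizer_le (U := C'.subgroupOf N) ?_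
    (charP_congr (subgroupOfEquivOfLe (centralizer_le_normalizer (T : Set G))).symm hC'char)
  intro x hx
  refine mem_subgroupOf.2 (mem_centralizer_iff.2 fun y hy => ?_)
  exact congrArg Subtype.val (mem_centralizer_iff.1 hx (⟨y, le_normalizer hy⟩ : N)
    (le_pCore (show IsPGroup 2 (T.subgroupOf N) from hT.comap_subtype) (mem_subgroupOf.2 hy)))

end Cfsg.Lib.BenderSE
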