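/-
Groups of non-component type with connected Sylow 2-subgroup: all cores of involution centralisers are
trivial.  If the four-subgroups of the group are connected this is the signalizer functor theorem; otherwise
a component of their graph gives a strongly embedded subgroup, and REG applies.
-/
import Cfsg.Agent.BenderSE.Dependents.NonComponent
import Cfsg.Agent.BenderSE.Dependents.ConstrainedCentraliser
import Cfsg.Agent.BenderSE.Dependents.Rows
import Cfsg.Agent.Components.Misc.ConstrainedCores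
import Cfsg.Agent.OddChar.PF.OddOrder
import Cfsg.Agent.S1324

set_option autoImplicit false
set_option linter.unusedSectionVars false
set_option linter.style.haveILetI false

namespace Cfsg.Lib.BenderSE.FourConn

open Subgroup Cfsg.Lib.Components Cfsg.Lib.Sft Cfsg.Lib.Misc.FourConnected

universe u

variable {G : Type u} [Group G]

/-- conjugation of a subgroup -/
abbrev conjBy (g : G) (V : Subgroup G) : Subgroup G := V.map (MulAut.conj g).toMonoidHom

theorem conjBy_mul (g h : G) (V : Subgroup G) : conjBy g (conjBy h V) = conjBy (g * h) V := by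
  rw [conjBy, conjBy, conjBy, map_map]
  congr 1
  exact MonoidHom.ext fun x => by simp [mul_assoc]

theorem conjBy_one (V : Subgroup G) : conjBy 1 V = V := by
  rw [conjBy, map_one]; exact Subgroup.map_id V

theorem conj_mem_conjBy {g x : G} {V : Subgroup G} (hx : x ∈ V) : g * x * g⁻¹ ∈ conjBy g V := ⟨x, hx, rfl⟩

theorem elementary_of_klein {V : Subgroup G} (hV : IsKleinFour V) : Cfsg.IsElementaryAbelian 2 V :=
  haveI := hV
  ⟨⟨⟨fun x y => Subtype.ext (comm_of_klein (A := V) _ x.2 _ y.2)⟩⟩,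
    fun x hx => by rw [pow_two]; exact sq_of_klein hx⟩

theorem card_klein {V : Subgroup G} (hV : IsKleinFour V) : Nat.card V = 4 :=
  haveI := hV; IsKleinFour.card_four

theorem isPGroup_elementary {A : Subgroup G} (hA : Cfsg.IsElementaryAbelian 2 A) : IsPGroup 2 A :=
  fun x => ⟨1, Subtype.ext (by rw [pow_one]; exact hA.2 x x.2)⟩

theorem sq_of_two {x : G} (h : orderOf x = 2) : x * x = 1 := by
  rw [← pow_two, ← h, pow_orderOf_eq_one]

theorem ne_one_of_two {x : G} (h : orderOf x = 2) : x ≠ 1 := fun e => by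
  rw [e, orderOf_one] at h; omega

theorem exists_first_step {U V : Subgroup G} (h : Relation.ReflTransGen Adj U V) (hne : U ≠ V) :
    ∃ W, Adj U W ∧ W ≠ U := by
  induction h using Relation.ReflTransGen.head_induction_on with
  | refl => exact absurd rfl hne
  | head h _ ih =>
    rename_i a c _
    by_cases hc : c = a
    · subst hc; exact ih hne
    · exact ⟨c, h, hc⟩

theorem klein_subgroupOf {R X : Subgroup G} (hX : IsKleinFour X) (h : X ≤ R) : IsKleinFour (X.subgroupOf R) :=
  haveI := hX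
  ⟨by rw [Nat.card_congr (subgroupOfEquivOfLe h).toEquiv]; exact IsKleinFour.card_four,
    (Monoid.exponent_eq_of_mulEquiv (subgroupOfEquivOfLe h)).trans IsKleinFour.exponent_two⟩

theorem chain_conj (g : G) {U V : Subgroup G} (h : Relation.ReflTransGen Adj U V) :
    Relation.ReflTransGen Adj (conjBy g U) (conjBy g V) :=
  chain_map (f := (MulAut.conj g).toMonoidHom) (MulAut.conj g).injective h

variable [Finite G]

section Sylow

variable (S : Sylow 2 G) (hS : Cfsg.IsFourConnected (S : Subgroup G))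

include hS

theorem chain_base {U V : Subgroup G} (hU : IsKleinFour U) (hV : IsKleinFour V)
    (hUS : U ≤ (S : Subgroup G)) (hVS : V ≤ (S : Subgroup G)) : Relation.ReflTransGen Adj U V := by
  have h := chain_map (S : Subgroup G).subtype_injective
    (hS _ _ (klein_subgroupOf hU hUS) (klein_subgroupOf hV hVS))
  rwa [map_subgroupOf_eq_of_le hUS, map_subgroupOf_eq_of_le hVS] at h

/-- the four-subgroups of any Sylow 2-subgroup are connected -/
theorem chain_sylow (R : Sylow 2 G) {U V : Subgroup G} (hU : IsKleinFour U) (hV : IsKleinFour V)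
    (hUR : U ≤ (R : Subgroup G)) (hVR : V ≤ (R : Subgroup G)) : Relation.ReflTransGen Adj U V := by
  haveI : Fact (Nat.Prime 2) := ⟨Nat.prime_two⟩
  obtain ⟨g, rfl⟩ := MulAction.exists_smul_eq G S R
  have hdown : ∀ {X : Subgroup G}, X ≤ ((g • S : Sylow 2 G) : Subgroup G) → conjBy g⁻¹ X ≤ (S : Subgroup G) := by
    rintro X hX _ ⟨x, hx, rfl⟩
    obtain ⟨s, hs, rfl⟩ := hX hx
    simp [mul_assoc]
    exact hs
  have h := chain_conj g (chain_base S hS (klein_conj g⁻¹ hU) (klein_conj g⁻¹ hV) (hdown hUR) (hdown hVR))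
  rwa [conjBy_mul, conjBy_mul, mul_inv_cancel, conjBy_one, conjBy_one] at h

variable (h3 : ¬ Cfsg.PRankLE 2 2 G)

include h3

omit hS in
theorem exists_eight : ∃ E : Subgroup G, E ≤ (S : Subgroup G) ∧ Cfsg.IsElementaryAbelian 2 E ∧ 8 ≤ Nat.card E := by
  haveI : Fact (Nat.Prime 2) := ⟨Nat.prime_two⟩
  rw [Cfsg.PRankLE] at h3
  push Not at h3
  obtain ⟨B, hB, hB2, hcard⟩ := h3
  have hBe : Cfsg.IsElementaryAbelian 2 B := ⟨hB, hB2⟩
  obtain ⟨j, hj⟩ := IsPGroup.iff_card.1 (isPGroup_elementary hBe)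
  obtain ⟨R, hR⟩ := (isPGroup_elementary hBe).exists_le_sylow
  obtain ⟨g, rfl⟩ := MulAction.exists_smul_eq G S R
  refine ⟨conjBy g⁻¹ B, ?_, ⟨⟨⟨?_⟩⟩, ?_⟩, ?_⟩
  · rintro _ ⟨x, hx, rfl⟩
    obtain ⟨s, hs, rfl⟩ := hR hx
    simp [mul_assoc]
    exact hs
  · rintro ⟨_, a, ha, rfl⟩ ⟨_, b, hb, rfl⟩
    refine Subtype.ext (show MulAut.conj g⁻¹ a * MulAut.conj g⁻¹ b = MulAut.conj g⁻¹ b * MulAut.conj g⁻¹ a from ?_)
    rw [← map_mul, ← map_mul]
    exact congrArg (MulAut.conj g⁻¹) (congrArg Subtype.val (mul_comm' (⟨a, ha⟩ : B) ⟨b, hb⟩))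
  · rintro _ ⟨a, ha, rfl⟩
    rw [← map_pow, hB2 a ha, map_one]
  · rw [card_map_of_injective (MulAut.conj g⁻¹).injective]
    rw [hj] at hcard ⊢
    exact (show (8 : ℕ) = 2 ^ 3 by norm_num).le.trans
      (Nat.pow_le_pow_right two_pos ((Nat.pow_lt_pow_iff_right one_lt_two).1 hcard))

omit hS in
theorem exists_base : ∃ V : Subgroup G, IsKleinFour V ∧ V ≤ (S : Subgroup G) := by
  obtain ⟨E, hES, hE, hE8⟩ := exists_eight S h3
  haveI := hE.1
  obtain ⟨V, hV, hVE⟩ := exists_klein_of_card (H := E) (fun x hx => by rw [← pow_two]; exact hE.2 x hx)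
    (fun x hx y hy => congrArg Subtype.val (mul_comm' (⟨x, hx⟩ : E) ⟨y, hy⟩))
    (lt_of_lt_of_le (by norm_num) hE8)
  exact ⟨V, hV, hVE.trans hES⟩

/-- every four-subgroup of a Sylow 2-subgroup lies in an elementary abelian subgroup of order eight -/
theorem exists_eight_above (R : Sylow 2 G) {V : Subgroup G} (hV : IsKleinFour V) :
    V ≤ (R : Subgroup G) → ∃ A : Subgroup G, Cfsg.IsElementaryAbelian 2 A ∧ 8 ≤ Nat.card A ∧ V ≤ A ∧
      ∀ W : Subgroup G, IsKleinFour W → W ≤ A → Relation.ReflTransGen Adj V W := by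
  classical
  haveI : Fact (Nat.Prime 2) := ⟨Nat.prime_two⟩
  intro hVR
  obtain ⟨E, hER, hE, hE8⟩ := exists_eight R h3
  haveI := hE.1
  -- another four-subgroup of `R`
  obtain ⟨W, hW, hWR, hWne⟩ : ∃ W : Subgroup G, IsKleinFour W ∧ W ≤ (R : Subgroup G) ∧ V ≠ W := by
    by_contra h
    push Not at h
    have hle : E ≤ V := by
      intro x hx
      by_cases hx1 : x = 1
      · rw [hx1]; exact one_mem V
      obtain ⟨y, hy, hy1, hyx⟩ : ∃ y ∈ E, y ≠ 1 ∧ x ≠ y := by
        by_contra h'
        push Not at h'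
        have hsub : (E : Set G) ⊆ {1, x} := fun y hy => by
          by_cases hy1 : y = 1
          · exact Or.inl hy1
          · exact Or.inr (h' y hy hy1).symm
        have := Set.ncard_le_ncard hsub (by simp)
        rw [← Nat.card_coe_set_eq, Set.ncard_pair (Ne.symm hx1), SetLike.coe_sort_coe] at this
        omega
      obtain ⟨W, hW, hxW, -, hle⟩ := exists_klein (by rw [← pow_two]; exact hE.2 x hx)
        (by rw [← pow_two]; exact hE.2 y hy) hx1 hy1 hyx (congrArg Subtype.val (mul_comm' (⟨x, hx⟩ : E) ⟨y, hy⟩))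
      exact (h W hW ((hle E hx hy).trans hER)).symm ▸ hxW
    have := card_le_of_le hle
    rw [card_klein hV] at this
    omega
  obtain ⟨V', hadj, hne⟩ := exists_first_step (chain_sylow S hS R hV hW hVR hWR) hWne
  have hA := Cfsg.Lib.Sft.elementary_sup (p := 2) (elementary_of_klein hV) (elementary_of_klein hadj.2.1) hadj.2.2
  refine ⟨V ⊔ V', hA, ?_, le_sup_left, fun W hW hWA => Relation.ReflTransGen.single ⟨hV, hW, fun a ha b hb => ?_⟩⟩
  · obtain ⟨j, hj⟩ := IsPGroup.iff_card.1 (isPGroup_elementary hA)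
    by_contra h
    have hj2 : j ≤ 2 := by
      by_contra h'
      exact h ((show (8 : ℕ) = 2 ^ 3 by norm_num).le.trans (hj ▸ Nat.pow_le_pow_right two_pos (by omega)))
    have h4 : Nat.card ↥(V ⊔ V') ≤ 4 := by
      rw [hj]; exact (Nat.pow_le_pow_right two_pos hj2).trans (by norm_num)
    exact hne ((eq_of_le_of_card_ge le_sup_right (h4.trans (card_klein hadj.2.1).ge)).trans
      (eq_of_le_of_card_ge le_sup_left (h4.trans (card_klein hV).ge)).symm)
  · haveI := hA.1
    exact congrArg Subtype.val (mul_comm' (⟨a, (le_sup_left : V ≤ V ⊔ V') ha⟩ : ↥(V ⊔ V')) ⟨b, hWA hb⟩)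

omit hS in
/-- every involution lies in a four-subgroup of every Sylow 2-subgroup containing it -/
theorem exists_klein_at (R : Sylow 2 G) {t : G} (ht : orderOf t = 2) (htR : t ∈ (R : Subgroup G)) :
    ∃ V : Subgroup G, IsKleinFour V ∧ V ≤ (R : Subgroup G) ∧ t ∈ V := by
  obtain ⟨U, hU, hUR⟩ := exists_base R h3
  haveI := hU
  have hR1 : (R : Subgroup G) ≠ ⊥ := fun h => by
    rw [h, mem_bot] at htR; exact ne_one_of_two ht htR
  obtain ⟨z, hzR, hz, hzc⟩ := exists_central_involution R.2 hR1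
  obtain ⟨y, hyR, hy, hy1, hty, hc⟩ : ∃ y ∈ (R : Subgroup G), y * y = 1 ∧ y ≠ 1 ∧ t ≠ y ∧ t * y = y * t := by
    by_cases htz : t = z
    · obtain ⟨u, hu, hu1, hut⟩ : ∃ u ∈ U, u ≠ 1 ∧ t ≠ u := by
        by_contra h
        push Not at h
        have hsub : (U : Set G) ⊆ {1, t} := fun x hx => by
          by_cases hx1 : x = 1
          · exact Or.inl hx1
          · exact Or.inr (h x hx hx1).symm
        have := Set.ncard_le_ncard hsub (by simp)
        rw [← Nat.card_coe_set_eq, Set.ncard_pair (ne_one_of_two ht).symm, SetLike.coe_sort_coe, card_klein hU] at this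
        omega
      exact ⟨u, hUR hu, sq_of_klein hu, hu1, hut, by rw [htz]; exact (hzc u (hUR hu)).symm⟩
    · exact ⟨z, hzR, sq_of_two hz, ne_one_of_two hz, htz, hzc t htR⟩
  obtain ⟨V, hV, htV, -, hle⟩ := exists_klein (sq_of_two ht) hy (ne_one_of_two ht) hy1 hty hc
  exact ⟨V, hV, hle _ htR hyR, htV⟩

end Sylow

/-- the subgroup stabilising the component of `U` -/
def componentStab (U : Subgroup G) : Subgroup G where
  carrier := {g | Relation.ReflTransGen Adj U (conjBy g U)}
  one_mem' := by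
    show Relation.ReflTransGen Adj U (conjBy 1 U)
    rw [conjBy_one]
  mul_mem' := fun {g h} hg hh => by
    show Relation.ReflTransGen Adj U (conjBy (g * h) U)
    rw [← conjBy_mul]
    exact Relation.ReflTransGen.trans hg (chain_conj g hh)
  inv_mem' := fun {g} hg => by
    show Relation.ReflTransGen Adj U (conjBy g⁻¹ U)
    have h := chain_conj g⁻¹ hg
    rw [conjBy_mul, inv_mul_cancel, conjBy_one] at h
    exact chain_symm h

theorem mem_componentStab {U V : Subgroup G} {g : G} (h1 : Relation.ReflTransGen Adj U V)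
    (h2 : Relation.ReflTransGen Adj U (conjBy g V)) : g ∈ componentStab U :=
  h2.trans (chain_symm (chain_conj g h1))

section Component

variable (S : Sylow 2 G) (hS : Cfsg.IsFourConnected (S : Subgroup G)) (h3 : ¬ Cfsg.PRankLE 2 2 G)
  {U : Subgroup G} (hU : IsKleinFour U) (hUS : U ≤ (S : Subgroup G))

include hS

theorem normalizer_le {Q V : Subgroup G} (hQ : IsPGroup 2 Q) (hV : IsKleinFour V) (hVQ : V ≤ Q)
    (hVU : Relation.ReflTransGen Adj U V) : normalizer (Q : Set G) ≤ componentStab U := by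
  intro g hg
  obtain ⟨R, hQR⟩ := hQ.exists_le_sylow
  refine mem_componentStab hVU (hVU.trans (chain_sylow S hS R hV (klein_conj g hV) (hVQ.trans hQR) ?_))
  rintro _ ⟨x, hx, rfl⟩
  exact hQR ((mem_normalizer_iff.1 hg x).1 (hVQ hx))

include hU hUS

theorem sylow_le : (S : Subgroup G) ≤ componentStab U :=
  le_normalizer.trans (normalizer_le S hS S.2 hU hUS Relation.ReflTransGen.refl)

/-- every four-subgroup of the stabiliser lies in the component -/
theorem chain_of_le {V : Subgroup G} (hV : IsKleinFour V) (hVM : V ≤ componentStab U) :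
    Relation.ReflTransGen Adj U V := by
  haveI : Fact (Nat.Prime 2) := ⟨Nat.prime_two⟩
  set M := componentStab U
  have hSM := sylow_le S hS hU hUS
  obtain ⟨R, hR⟩ := ((isPGroup_elementary (elementary_of_klein hV)).comap_subtype (K := M)).exists_le_sylow
  obtain ⟨m, rfl⟩ := MulAction.exists_smul_eq M (S.subtype hSM) R
  have hdown : conjBy (m : G)⁻¹ V ≤ (S : Subgroup G) := by
    rintro _ ⟨x, hx, rfl⟩
    obtain ⟨s, hs, hse⟩ := hR (show (⟨x, hVM hx⟩ : M) ∈ V.subgroupOf M from hx)
    have : (s : G) ∈ (S : Subgroup G) := hs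
    have h' : (m : G) * (s : G) * (m : G)⁻¹ = x := congrArg Subtype.val hse
    rw [← h']
    simpa [mul_assoc] using this
  have h := chain_conj (m : G) (chain_base S hS hU (klein_conj _ hV) hUS hdown)
  rw [conjBy_mul, mul_inv_cancel, conjBy_one] at h
  exact Relation.ReflTransGen.trans m.2 h

theorem stab_ne_top (hconn : ¬ Cfsg.IsFourConnected G) : componentStab U ≠ ⊤ := fun h => hconn fun A B hA hB =>
  (chain_symm (chain_of_le S hS hU hUS hA (h ▸ le_top))).trans (chain_of_le S hS hU hUS hB (h ▸ le_top))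

include h3

/-- the centraliser of an involution of the stabiliser -/
theorem centralizer_le_stab (hc : ¬ Cfsg.IsComponentType G) {t : G} (ht : orderOf t = 2)
    (htM : t ∈ componentStab U) : centralizer ({t} : Set G) ≤ componentStab U := by
  haveI : Fact (Nat.Prime 2) := ⟨Nat.prime_two⟩
  set M := componentStab U with hM
  -- a four-subgroup and an elementary subgroup of order eight at `t`, in the component
  have hSM := sylow_le S hS hU hUS
  obtain ⟨R, hR⟩ := ((IsPGroup.of_card (n := 1) (by rw [pow_one, Nat.card_zpowers, ht]) :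
    IsPGroup 2 (zpowers t)).comap_subtype (K := M)).exists_le_sylow
  obtain ⟨m, rfl⟩ := MulAction.exists_smul_eq M (S.subtype hSM) R
  set R' : Sylow 2 G := (m : G) • S with hR'
  have hR'M : (R' : Subgroup G) ≤ M := by
    rintro _ ⟨x, hx, rfl⟩
    exact mul_mem (mul_mem m.2 (hSM hx)) (inv_mem m.2)
  have htR : t ∈ (R' : Subgroup G) := by
    obtain ⟨s, hs, hse⟩ := hR (show (⟨t, htM⟩ : M) ∈ (zpowers t).subgroupOf M from mem_zpowers t)
    exact ⟨s, hs, congrArg Subtype.val hse⟩
  obtain ⟨V, hV, hVR, htV⟩ := exists_klein_at h3 R' ht htR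
  have hVU := chain_of_le S hS hU hUS hV (hVR.trans hR'M)
  obtain ⟨A, hA, hA8, hVA, hAch⟩ := exists_eight_above S hS h3 R' hV hVR
  set C := centralizer ({t} : Set G) with hCdef
  haveI := hA.1
  have hAC : A ≤ C := fun a ha => mem_centralizer_singleton_iff.2
    (congrArg Subtype.val (mul_comm' (⟨a, ha⟩ : A) ⟨t, hVA htV⟩))
  have hVC : V ≤ C := hVA.trans hAC
  obtain ⟨P, hP⟩ := ((isPGroup_elementary hA).comap_subtype (K := C)).exists_le_sylow
  set P' := (P : Subgroup C).map C.subtype with hP'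
  have hP'p : IsPGroup 2 P' := P.2.map _
  have hVP : V ≤ P' := fun x hx => ⟨⟨x, hVC hx⟩, hP (show (⟨x, hVC hx⟩ : C) ∈ A.subgroupOf C from hVA hx), rfl⟩
  obtain ⟨T, hT⟩ := hP'p.exists_le_sylow
  -- the core lies in the stabiliser
  have hOM : Cfsg.centralizerPPrimeCore 2 t ≤ M := by
    rw [Cfsg.Agent.S1324.result 2 A (Cfsg.centralizerPPrimeCore 2 t) hA ((by norm_num : 2 ^ 2 ≤ 8).trans hA8)
      (Nat.coprime_two_right.1 (centralizerPPrimeCore_card_coprime t)).not_two_dvd_nat
      (hAC.trans (centralizer_le_normalizer_centralizerPPrimeCore t))]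
    refine iSup_le fun B => ?_
    have hB : Cfsg.IsElementaryAbelian 2 (B : Subgroup G) :=
      ⟨⟨⟨fun x y => Subtype.ext (congrArg (fun z : A => (z : G)) (mul_comm' (⟨x, B.2.1 x.2⟩ : A) ⟨y, B.2.1 y.2⟩))⟩⟩,
        fun x hx => hA.2 x (B.2.1 hx)⟩
    have h2 : 2 < Nat.card (B : Subgroup G) := by
      have h1 := Subgroup.relIndex_mul_relIndex ⊥ (B : Subgroup G) A bot_le B.2.1
      simp only [relIndex_bot_left] at h1
      have := Nat.mul_le_mul_left (Nat.card (B : Subgroup G)) B.2.2
      omega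
    haveI := hB.1
    obtain ⟨W, hW, hWB⟩ := exists_klein_of_card (H := (B : Subgroup G))
      (fun x hx => by rw [← pow_two]; exact hB.2 x hx)
      (fun x hx y hy => congrArg Subtype.val (mul_comm' (⟨x, hx⟩ : (B : Subgroup G)) ⟨y, hy⟩)) h2
    exact (inf_le_right.trans (centralizer_le_normalizer _)).trans (normalizer_le S hS (isPGroup_elementary hB)
      hW hWB (hVU.trans (hAch W hW (hWB.trans B.2.1))))
  have htop : M.subgroupOf C = ⊤ := by
    refine eq_top_of_constrained (pLayer_centralizer_of_nonComponent hc ht) P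
      (A := A.subgroupOf C) ⟨⟨⟨fun x y => Subtype.ext (Subtype.ext (congrArg (fun z : A => (z : G))
        (mul_comm' (⟨_, mem_subgroupOf.1 x.2⟩ : A) ⟨_, mem_subgroupOf.1 y.2⟩)))⟩⟩,
        fun x hx => Subtype.ext (by rw [Subgroup.coe_pow]; exact hA.2 _ (mem_subgroupOf.1 hx))⟩
      (by rw [Nat.card_congr (subgroupOfEquivOfLe hAC).toEquiv]; exact hA8) ?_ ?_ ?_
    · exact fun x hx => mem_subgroupOf.2 (hOM ⟨x, hx, rfl⟩)
    · exact fun x hx => mem_subgroupOf.2 ((le_normalizer.trans (normalizer_le S hS T.2 hV (hVP.trans hT) hVU)) (hT ⟨x, hx, rfl⟩))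
    · rintro Q hQP ⟨W, hW, hWQ⟩ g hg
      have hWP : W.map C.subtype ≤ P' := Subgroup.map_mono (hWQ.trans hQP)
      refine mem_subgroupOf.2 (normalizer_le S hS ((P.2.to_le hQP).map C.subtype)
        (klein_map C.subtype_injective hW) (Subgroup.map_mono hWQ)
        (hVU.trans (chain_sylow S hS T hV (klein_map C.subtype_injective hW) (hVP.trans hT) (hWP.trans hT))) ?_)
      exact le_normalizer_map C.subtype ⟨g, hg, rfl⟩
  exact subgroupOf_eq_top.1 htop

/-- THE STRONGLY EMBEDDED SUBGROUP -/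
theorem stab_embedded (hc : ¬ Cfsg.IsComponentType G) (hconn : ¬ Cfsg.IsFourConnected G) :
    Cfsg.IsStronglyEmbedded (componentStab U) := by
  haveI : Fact (Nat.Prime 2) := ⟨Nat.prime_two⟩
  set M := componentStab U with hM
  have hSM := sylow_le S hS hU hUS
  refine ⟨stab_ne_top S hS hU hUS hconn, ?_, fun g hg => ?_⟩
  · have h := card_dvd_of_le (hUS.trans hSM)
    rw [card_klein hU] at h
    exact even_iff_two_dvd.2 ((by norm_num : 2 ∣ 4).trans h)
  · rw [← Nat.not_even_iff_odd]
    intro hev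
    obtain ⟨x, hx, hxo⟩ := Cfsg.Lib.StrongEmb.exists_involution_of_even hev
    obtain ⟨y, hy, rfl⟩ := hx.2
    have hyo : orderOf y = 2 := by rw [← hxo]; exact (orderOf_injective _ (MulAut.conj g).injective y).symm
    -- a four-subgroup at `y` inside the stabiliser
    obtain ⟨R, hR⟩ := ((IsPGroup.of_card (n := 1) (by rw [pow_one, Nat.card_zpowers, hyo]) :
      IsPGroup 2 (zpowers y)).comap_subtype (K := M)).exists_le_sylow
    obtain ⟨m, rfl⟩ := MulAction.exists_smul_eq M (S.subtype hSM) R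
    have hyR : y ∈ (((m : G) • S : Sylow 2 G) : Subgroup G) := by
      obtain ⟨s, hs, hse⟩ := hR (show (⟨y, hy⟩ : M) ∈ (zpowers y).subgroupOf M from mem_zpowers y)
      exact ⟨s, hs, congrArg Subtype.val hse⟩
    obtain ⟨V, hV, hVR, hyV⟩ := exists_klein_at h3 ((m : G) • S) hyo hyR
    have hVM : V ≤ M := hVR.trans (by
      rintro _ ⟨x, hx, rfl⟩
      exact mul_mem (mul_mem m.2 (hSM hx)) (inv_mem m.2))
    refine hg (mem_componentStab (chain_of_le S hS hU hUS hV hVM)
      (chain_of_le S hS hU hUS (klein_conj g hV) ?_))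
    refine le_trans ?_ (centralizer_le_stab S hS h3 hU hUS hc hxo hx.1)
    rintro _ ⟨v, hv, rfl⟩
    haveI := hV
    refine mem_centralizer_singleton_iff.2 ?_
    show MulAut.conj g v * MulAut.conj g y = MulAut.conj g y * MulAut.conj g v
    rw [← map_mul, ← map_mul, comm_of_klein v hv y hyV]

end Component

theorem oddCore_core {t : G} : Odd (Nat.card ↥(Cfsg.centralizerPPrimeCore 2 t)) :=
  Nat.coprime_two_right.1 (centralizerPPrimeCore_card_coprime t)

/-- a strongly embedded subgroup kills all cores, from REG -/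
theorem core_eq_bot_of_embedded (reg : RegProp.{u}) {M : Subgroup G} (hM : Cfsg.IsStronglyEmbedded M)
    (h2 : HasCommutingInvolutions G) (hO : Cfsg.oddCore G = ⊥) {t : G} (ht : orderOf t = 2) :
    Cfsg.centralizerPPrimeCore 2 t = ⊥ := by
  have hset : Setting M := ⟨hM, by rw [normalCore_eq_oddCore hM h2, hO], h2⟩
  obtain ⟨L, Q, F⟩ := exists_frame reg hset
  -- involutions of the stabiliser
  have key : ∀ s : G, orderOf s = 2 → s ∈ M → Cfsg.centralizerPPrimeCore 2 s = ⊥ := by
    intro s hs hsM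
    refine F.eq_bot_of_odd hset ((centralizerPPrimeCore_le_centralizer s).trans
      (Cfsg.Lib.StrongEmb.centralizer_le hM hs hsM)) ?_ oddCore_core
    refine le_trans (fun x hx => ?_) (centralizer_le_normalizer_centralizerPPrimeCore s)
    exact mem_centralizer_singleton_iff.2 ((F.qinvol s hs hsM).2 x hx).symm
  obtain ⟨i, hiM, hi⟩ := Cfsg.Lib.StrongEmb.exists_involution_of_even hM.2.1
  obtain ⟨g, hg⟩ := isConj_iff.1 (Cfsg.Lib.StrongEmb.all_conj hM hi ht)
  rw [← hg, show g * i * g⁻¹ = MulAut.conj g i from rfl, ← centralizerPPrimeCore_map_equiv (MulAut.conj g) i,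
    key i hi hiM, Subgroup.map_bot]

/-- the disconnected case, from REG -/
theorem core_eq_bot_of_disconnected (reg : RegProp.{u}) (h3 : ¬ Cfsg.PRankLE 2 2 G) (hO : Cfsg.oddCore G = ⊥)
    (hc : ¬ Cfsg.IsComponentType G) (S : Sylow 2 G) (hS : Cfsg.IsFourConnected (S : Subgroup G))
    (hconn : ¬ Cfsg.IsFourConnected G) {t : G} (ht : orderOf t = 2) :
    Cfsg.centralizerPPrimeCore 2 t = ⊥ := by
  obtain ⟨U, hU, hUS⟩ := exists_base S h3
  have hM := stab_embedded S hS h3 hU hUS hc hconn
  set M := componentStab U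
  have h2 : HasCommutingInvolutions G := by
    haveI := hU
    obtain ⟨a, ha, b, hb, hab⟩ : ∃ a ∈ U, ∃ b ∈ U, a ≠ b ∧ a ≠ 1 ∧ b ≠ 1 := by
      classical
      haveI := Fintype.ofFinite U
      have h4 : 2 < Fintype.card U := by rw [← Nat.card_eq_fintype_card, card_klein hU]; norm_num
      obtain ⟨a, ha⟩ := Fintype.exists_ne_of_one_lt_card (show 1 < Fintype.card U by omega) (1 : U)
      obtain ⟨b, -, hb⟩ := Finset.exists_mem_notMem_of_card_lt_card
        (s := ({1, a} : Finset U)) (t := Finset.univ) (by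
          rw [Finset.card_univ]; exact lt_of_le_of_lt Finset.card_le_two h4)
      simp only [Finset.mem_insert, Finset.mem_singleton, not_or] at hb
      exact ⟨a, a.2, b, b.2, fun e => hb.2 (Subtype.ext e.symm), fun e => ha (Subtype.ext e),
        fun e => hb.1 (Subtype.ext e)⟩
    exact ⟨a, b, Cfsg.Lib.InvolCalc.order_two_of_mul_self (sq_of_klein ha) hab.2.1,
      Cfsg.Lib.InvolCalc.order_two_of_mul_self (sq_of_klein hb) hab.2.2, hab.1, comm_of_klein a ha b hb⟩
  exact core_eq_bot_of_embedded reg hM h2 hO ht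

section Connected

variable (hFT : ∀ Y : Subgroup G, Odd (Nat.card Y) → Group.IsSolvable ↥Y)
  (hbal : ∀ a b : G, orderOf a = 2 → orderOf b = 2 → a * b = b * a →
    Cfsg.centralizerPPrimeCore 2 a ⊓ centralizer {b} ≤ Cfsg.centralizerPPrimeCore 2 b)

include hFT in
theorem functor_conditions (a : G) :
    Cfsg.centralizerPPrimeCore 2 a ≤ centralizer ({a} : Set G) ∧
      ¬ 2 ∣ Nat.card ↥(Cfsg.centralizerPPrimeCore 2 a) ∧ Group.IsSolvable ↥(Cfsg.centralizerPPrimeCore 2 a) :=
  ⟨centralizerPPrimeCore_le_centralizer a, oddCore_core.not_two_dvd_nat, hFT _ oddCore_core⟩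

include hFT hbal

theorem closure_eq {A E : Subgroup G} (hA : Cfsg.IsElementaryAbelian 2 A) (hA3 : 8 ≤ Nat.card A)
    (hEA : E ≤ A) (hE2 : 4 ≤ Nat.card E) :
    closureOf (Cfsg.centralizerPPrimeCore 2) E = closureOf (Cfsg.centralizerPPrimeCore 2) A := by
  haveI : Fact (Nat.Prime 2) := ⟨Nat.prime_two⟩
  exact closureOf_eq (fun a _ => functor_conditions hFT a)
    (fun a g _ => (centralizerPPrimeCore_map_equiv (MulAut.conj g) a).symm)
    (fun a b ha hb hab => hbal a b ha.1 hb.1 hab) hA hA3 hEA hE2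

theorem closure_step {U V : Subgroup G} (h : Adj U V) :
    closureOf (Cfsg.centralizerPPrimeCore 2) U = closureOf (Cfsg.centralizerPPrimeCore 2) V := by
  haveI : Fact (Nat.Prime 2) := ⟨Nat.prime_two⟩
  obtain ⟨hU, hV, hc⟩ := h
  have hA := Cfsg.Lib.Sft.elementary_sup (p := 2) (elementary_of_klein hU) (elementary_of_klein hV) hc
  by_cases h8 : 8 ≤ Nat.card ↥(U ⊔ V)
  · rw [closure_eq hFT hbal hA h8 le_sup_left (card_klein hU).ge,
      closure_eq hFT hbal hA h8 le_sup_right (card_klein hV).ge]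
  · obtain ⟨k, hk⟩ := IsPGroup.iff_card.1 (isPGroup_elementary hA)
    have hk2 : k ≤ 2 := by
      by_contra hk'
      exact h8 ((show (8 : ℕ) = 2 ^ 3 by norm_num).le.trans (hk ▸ Nat.pow_le_pow_right two_pos (by omega)))
    have h4 : Nat.card ↥(U ⊔ V) ≤ 4 := by rw [hk]; exact (Nat.pow_le_pow_right two_pos hk2).trans (by norm_num)
    rw [(eq_of_le_of_card_ge le_sup_left (h4.trans (card_klein hU).ge) : U = U ⊔ V).trans
      (eq_of_le_of_card_ge le_sup_right (h4.trans (card_klein hV).ge) : V = U ⊔ V).symm]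

/-- the connected case: balance and connectivity kill all cores -/
theorem core_eq_bot_of_connected (h3 : ¬ Cfsg.PRankLE 2 2 G) (hO : Cfsg.oddCore G = ⊥)
    (hconn : Cfsg.IsFourConnected G) {t : G} (ht : orderOf t = 2) : Cfsg.centralizerPPrimeCore 2 t = ⊥ := by
  haveI : Fact (Nat.Prime 2) := ⟨Nat.prime_two⟩
  obtain ⟨S, hS⟩ := (IsPGroup.of_card (n := 1) (by rw [pow_one, Nat.card_zpowers, ht]) :
    IsPGroup 2 (zpowers t)).exists_le_sylow
  obtain ⟨E, hES, hE, hE8⟩ := exists_eight S h3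
  haveI := hE.1
  obtain ⟨U, hU, hUE⟩ := exists_klein_of_card (H := E) (fun x hx => by rw [← pow_two]; exact hE.2 x hx)
    (fun x hx y hy => congrArg Subtype.val (mul_comm' (⟨x, hx⟩ : E) ⟨y, hy⟩))
    (lt_of_lt_of_le (by norm_num) hE8)
  set W := closureOf (Cfsg.centralizerPPrimeCore 2) U with hW
  have hall : ∀ V : Subgroup G, IsKleinFour V → closureOf (Cfsg.centralizerPPrimeCore 2) V = W := by
    intro V hV
    have hch : Relation.ReflTransGen Adj U V := hconn U V hU hV
    induction hch with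
    | refl => rfl
    | tail _ h ih => exact (closure_step hFT hbal h).symm.trans (ih h.1)
  have hodd : Odd (Nat.card W) := by
    rw [hW, closure_eq hFT hbal hE hE8 hUE (card_klein hU).ge]
    obtain ⟨X, hX, hle⟩ := exists_member hE hE8 (functor_of_equivariant
      (θ := Cfsg.centralizerPPrimeCore 2) (fun a _ => functor_conditions hFT a)
      (fun a g _ => (centralizerPPrimeCore_map_equiv (MulAut.conj g) a).symm)
      (fun a b ha hb hab => hbal a b ha.1 hb.1 hab) hE hE8)
    refine Nat.not_even_iff_odd.mp fun he => hX.2.1 ((even_iff_two_dvd.mp he).trans ?_)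
    exact card_dvd_of_le (iSup_le fun e => hle e.1 e.2.1 e.2.2)
  haveI hn : W.Normal := by
    refine ⟨fun x hx g => ?_⟩
    suffices hle : W.map (MulAut.conj g).toMonoidHom ≤ W from hle ⟨x, hx, rfl⟩
    conv_rhs => rw [← hall _ (klein_conj g hU)]
    rw [hW, closureOf, Subgroup.map_iSup]
    refine iSup_le fun b => ?_
    rw [centralizerPPrimeCore_map_equiv (MulAut.conj g) b.1]
    exact le_iSup (fun e : {e : G // e ∈ U.map (MulAut.conj g).toMonoidHom ∧ e ≠ 1} =>
      Cfsg.centralizerPPrimeCore 2 e.1) ⟨MulAut.conj g b.1, ⟨b.1, b.2.1, rfl⟩,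
        fun e => b.2.2 ((MulAut.conj g).injective (by rw [e, map_one]))⟩
  have hW0 : W = ⊥ := le_bot_iff.1 (hO ▸ le_pPrimeCore (Nat.coprime_two_right.2 hodd))
  obtain ⟨V, hV, -, htV⟩ := exists_klein_at h3 S ht (hS (mem_zpowers t))
  rw [← le_bot_iff, ← hW0, ← hall V hV]
  exact le_iSup (fun e : {e : G // e ∈ V ∧ e ≠ 1} => Cfsg.centralizerPPrimeCore 2 e.1) ⟨t, htV, ne_one_of_two ht⟩

end Connected

/-- S0504 from REG -/
theorem noncomponent_charTwo_of_reg (reg : RegProp.{u}) (h3 : ¬ Cfsg.PRankLE 2 2 G) (hO : Cfsg.oddCore G = ⊥)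
    (hc : ¬ Cfsg.IsComponentType G) (S : Sylow 2 G) (hS : Cfsg.IsFourConnected (S : Subgroup G)) :
    Cfsg.IsCharacteristicTwoType G := by
  refine charTwoType_of_cores ?_ hc fun t ht => ?_
  · obtain ⟨U, hU, -⟩ := exists_base S h3
    have h := Subgroup.card_subgroup_dvd_card U
    rw [card_klein hU] at h
    exact even_iff_two_dvd.2 ((by norm_num : 2 ∣ 4).trans h)
  · by_cases hconn : Cfsg.IsFourConnected G
    · exact core_eq_bot_of_connected (fun Y h => Cfsg.Agent.PF.isSolvable_of_odd Y h)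
        (fun a b ha hb hab => Cfsg.Lib.Misc.ConstrainedCores.balance (constrained_of_nonComponent hc) ha hb hab)
        h3 hO hconn ht
    · exact core_eq_bot_of_disconnected reg h3 hO hc S hS hconn ht

end Cfsg.Lib.BenderSE.FourConn
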