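/-
Trivial cores of involution centralisers in groups with constrained or solvable involution centralisers whose
Sylow 2-subgroups have a normal abelian subgroup of rank at least three.  Conditional on REG.
-/
import Cfsg.Agent.BenderSE.Dependents.FourConnected
import Cfsg.Agent.Components.Misc.FourConnected

set_option autoImplicit false
set_option linter.unusedSectionVars false
set_option linter.style.haveILetI false

namespace Cfsg.Lib.BenderSE.CoreRows

open Subgroup Cfsg.Lib.Components Cfsg.Lib.BenderSE.FourConn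

universe u

variable {G : Type u} [Group G] [Finite G]

theorem not_hasComponent_of_pLayer {X : Type*} [Group X] [Finite X] (h : Cfsg.pLayer 2 X = ⊥) :
    ¬ Cfsg.HasComponent (X ⧸ Cfsg.oddCore X) := by
  haveI : Fact (Nat.Prime 2) := ⟨Nat.prime_two⟩
  rintro ⟨C, hC⟩
  obtain ⟨K, hK, -⟩ := exists_pcomp (p := 2) (C := C) hC
  exact pcomp_ne_bot hK (le_bot_iff.1 (h ▸ le_sSup hK))

/-- constrained 2-locals exclude component type -/
theorem nonComponent_of_constrained
    (h2c : ∀ T : Subgroup G, IsPGroup 2 T → T ≠ ⊥ → Cfsg.IsPConstrained 2 ↥(normalizer (T : Set G))) :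
    ¬ Cfsg.IsComponentType G := fun ⟨_, ht, hcomp⟩ =>
  not_hasComponent_of_pLayer (Cfsg.Lib.Misc.ConstrainedCores.pLayer_centralizer h2c ht) hcomp

/-- solvable involution centralisers exclude component type -/
theorem nonComponent_of_solvable
    (hsol : ∀ t : G, orderOf t = 2 → Group.IsSolvable (centralizer ({t} : Set G))) :
    ¬ Cfsg.IsComponentType G := by
  rintro ⟨t, ht, K, -, hperf, hsimple⟩
  haveI := hsol t ht
  haveI := hperf
  haveI : Group.IsSolvable ↥K := inferInstance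
  haveI := hsimple
  haveI : Nontrivial (↥K ⧸ Subgroup.center ↥K) := hsimple.toNontrivial
  haveI : Nontrivial ↥K := (QuotientGroup.mk'_surjective (Subgroup.center ↥K)).nontrivial
  exact Group.IsPerfect.not_isSolvable ↥K inferInstance

/-- a Sylow 2-subgroup with a normal abelian subgroup of rank three is four-connected -/
theorem connected_of_abelian (S : Sylow 2 G) (A : Subgroup ↥(S : Subgroup G)) (hAn : A.Normal)
    (hAab : IsMulCommutative ↥A) (hA3 : ¬ Cfsg.PRankLE 2 2 ↥A) :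
    Cfsg.IsFourConnected ↥(S : Subgroup G) ∧ ¬ Cfsg.PRankLE 2 2 G := by
  haveI : Fact (Nat.Prime 2) := ⟨Nat.prime_two⟩
  haveI := hAn
  rw [Cfsg.PRankLE] at hA3
  push Not at hA3
  obtain ⟨B, hBc, hB2, hB⟩ := hA3
  let Om : Subgroup ↥(S : Subgroup G) :=
    { carrier := {a | a ∈ A ∧ a ^ 2 = 1}
      one_mem' := ⟨one_mem A, one_pow 2⟩
      mul_mem' := fun {a b} ha hb => ⟨mul_mem ha.1 hb.1, by
        rw [(show Commute a b from congrArg Subtype.val
          (mul_comm' (⟨a, ha.1⟩ : A) ⟨b, hb.1⟩)).mul_pow, ha.2, hb.2, one_mul]⟩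
      inv_mem' := fun {a} ha => ⟨inv_mem ha.1, by rw [inv_pow, ha.2, inv_one]⟩ }
  haveI : Om.Normal := ⟨fun a ha g => ⟨hAn.conj_mem a ha.1 g, by rw [conj_pow, ha.2, mul_one, mul_inv_cancel]⟩⟩
  have hOc : IsMulCommutative ↥Om := ⟨⟨fun x y => by
    have h : (⟨x, x.2.1⟩ : A) * ⟨y, y.2.1⟩ = ⟨y, y.2.1⟩ * ⟨x, x.2.1⟩ := mul_comm' _ _
    refine Subtype.ext ?_
    have h' := congrArg Subtype.val h
    exact h'⟩⟩
  have hle : B.map A.subtype ≤ Om := by
    rintro _ ⟨b, hb, rfl⟩
    exact ⟨b.2, by rw [← map_pow, hB2 b hb, map_one]⟩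
  have h8 : 8 ≤ Nat.card Om := by
    obtain ⟨k, hk⟩ := IsPGroup.iff_card.1 ((S.2.to_le (map_subtype_le Om)).of_equiv
      (Om.equivMapOfInjective _ (S : Subgroup G).subtype_injective).symm)
    have h1 := card_le_of_le hle
    rw [card_map_of_injective A.subtype_injective] at h1
    have h2 : 2 ^ 2 < 2 ^ k := hk ▸ lt_of_lt_of_le hB h1
    rw [hk]
    exact (show (8 : ℕ) = 2 ^ 3 by norm_num).le.trans
      (Nat.pow_le_pow_right two_pos ((Nat.pow_lt_pow_iff_right one_lt_two).1 h2))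
  refine ⟨Cfsg.Lib.Misc.FourConnected.connected_of_normal S.2 Om hOc (fun e he => he.2) h8, fun h => ?_⟩
  have := h (Om.map (S : Subgroup G).subtype) ⟨⟨?_⟩⟩ ?_
  · rw [card_map_of_injective (S : Subgroup G).subtype_injective] at this
    omega
  · rintro ⟨_, a, ha, rfl⟩ ⟨_, b, hb, rfl⟩
    exact Subtype.ext (congrArg (fun z : Om => ((z : ↥(S : Subgroup G)) : G)) (mul_comm' (⟨a, ha⟩ : Om) ⟨b, hb⟩))
  · rintro _ ⟨a, ha, rfl⟩
    rw [← map_pow, ha.2, map_one]

/-- trivial cores in a core-free group of non-component type with such a Sylow 2-subgroup -/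
theorem cores_trivial_of_reg (reg : RegProp.{u}) (hO : Cfsg.oddCore G = ⊥) (hc : ¬ Cfsg.IsComponentType G)
    (S : Sylow 2 G) (A : Subgroup ↥(S : Subgroup G)) (hAn : A.Normal) (hAab : IsMulCommutative ↥A)
    (hA3 : ¬ Cfsg.PRankLE 2 2 ↥A) {t : G} (ht : orderOf t = 2) : Cfsg.centralizerPPrimeCore 2 t = ⊥ := by
  obtain ⟨hS, h3⟩ := connected_of_abelian S A hAn hAab hA3
  by_cases hconn : Cfsg.IsFourConnected G
  · exact core_eq_bot_of_connected (fun Y h => Cfsg.Agent.PF.isSolvable_of_odd Y h)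
      (fun a b ha hb hab => Cfsg.Lib.Misc.ConstrainedCores.balance (constrained_of_nonComponent hc) ha hb hab)
      h3 hO hconn ht
  · exact core_eq_bot_of_disconnected reg h3 hO hc S hS hconn ht

/-- S3109 from REG -/
theorem two_constrained_of_reg (reg : RegProp.{u}) [IsSimpleGroup G]
    (h2c : ∀ T : Subgroup G, IsPGroup 2 T → T ≠ ⊥ → Cfsg.IsPConstrained 2 ↥(normalizer (T : Set G)))
    (S : Sylow 2 G) (A : Subgroup ↥(S : Subgroup G)) (hAn : A.Normal) (hAab : IsMulCommutative ↥A)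
    (hA3 : ¬ Cfsg.PRankLE 2 2 ↥A) :
    ∀ t : G, orderOf t = 2 → Cfsg.centralizerPPrimeCore 2 t = ⊥ := by
  intro t ht
  refine cores_trivial_of_reg reg ?_ (nonComponent_of_constrained h2c) S A hAn hAab hA3 ht
  haveI : Fact (Nat.Prime 2) := ⟨Nat.prime_two⟩
  haveI : (Cfsg.oddCore G).Normal := inferInstanceAs (pPrimeCore 2 G).Normal
  rcases IsSimpleGroup.eq_bot_or_eq_top_of_normal (Cfsg.oddCore G) inferInstance with h | h
  · exact h
  · have h2 : (Nat.card ↥(pPrimeCore 2 G)).Coprime 2 :=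
      coprime_card_pPrimeCore 2
    rw [show pPrimeCore 2 G = ⊤ from h, Subgroup.card_top] at h2
    have h3 := Nat.dvd_gcd (ht ▸ orderOf_dvd_natCard t) (dvd_refl 2)
    rw [h2.gcd_eq_one] at h3
    omega

/-- S3332 from REG -/
theorem solvable_centralizers_of_reg (reg : RegProp.{u}) (hO : Cfsg.oddCore G = ⊥) (S : Sylow 2 G)
    (A : Subgroup G) (hAS : A ≤ S) (hAn : (A.subgroupOf S).Normal) (hAc : IsMulCommutative A)
    (hA3 : ¬ Cfsg.PRankLE 2 2 A)
    (hsol : ∀ t : G, orderOf t = 2 → Group.IsSolvable (centralizer ({t} : Set G))) :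
    ∀ t : G, orderOf t = 2 → Cfsg.oddCore (centralizer ({t} : Set G)) = ⊥ := by
  intro t ht
  let e := subgroupOfEquivOfLe hAS
  have hc' : IsMulCommutative ↥(A.subgroupOf (S : Subgroup G)) :=
    ⟨⟨fun x y => e.injective (by rw [map_mul, map_mul, mul_comm'])⟩⟩
  have h3' : ¬ Cfsg.PRankLE 2 2 ↥(A.subgroupOf (S : Subgroup G)) := fun h => hA3 fun B hB hB2 => by
    haveI := hB
    have := h (B.map e.symm.toMonoidHom) inferInstance ?_
    · rwa [card_map_of_injective e.symm.injective] at this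
    · rintro _ ⟨b, hb, rfl⟩
      rw [← map_pow, hB2 b hb, map_one]
  have h := cores_trivial_of_reg reg hO (nonComponent_of_solvable hsol) S _ hAn hc' h3' ht
  exact (Subgroup.map_eq_bot_iff_of_injective _ (centralizer ({t} : Set G)).subtype_injective).1 h

end Cfsg.Lib.BenderSE.CoreRows
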