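/-
A strongly closed subgroup whose involution centralisers generate a proper subgroup gives a strongly embedded
subgroup, granted Aschbacher's criterion.
-/
import Cfsg.Prelude.Def_TwoFusion
import Cfsg.Prelude.Def_Local
import Cfsg.Prelude.Def_Involutions
import Cfsg.Agent.PGroups.Basic

set_option autoImplicit false
set_option linter.style.haveILetI false
set_option linter.unusedSectionVars false

namespace Cfsg.Lib.BenderSE.ClosedCrit

open Subgroup

universe u

/-- Aschbacher's criterion, as a proposition -/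
def CriterionProp : Prop :=
  ∀ (G : Type u) [Group G] [Finite G] [IsSimpleGroup G] (M : Subgroup G), M ≠ ⊤ → ∀ z : G, orderOf z = 2 → z ∈ M →
    (∃ S : Sylow 2 G, z ∈ S ∧ ∀ s ∈ S, Commute s z) → (∀ g : G, g * z * g⁻¹ ∈ M → g ∈ M) →
    (∀ g : G, Commute z (g * z * g⁻¹) → g * z * g⁻¹ ≠ z →
      centralizer ({z * (g * z * g⁻¹)} : Set G) ≤ M) → ∃ H : Subgroup G, Cfsg.IsStronglyEmbedded H

variable {G : Type u} [Group G] [Finite G]

theorem centralizer_conj_mem {g x c : G} (hc : c ∈ centralizer ({x} : Set G)) :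
    g * c * g⁻¹ ∈ centralizer ({g * x * g⁻¹} : Set G) := by
  rw [mem_centralizer_singleton_iff] at hc ⊢
  show MulAut.conj g c * MulAut.conj g x = MulAut.conj g x * MulAut.conj g c
  rw [← map_mul, ← map_mul, hc]

/-- row 1174 from the criterion -/
theorem exists_stronglyEmbedded (crit : CriterionProp.{u}) [IsSimpleGroup G] (S : Sylow 2 G) (T : Subgroup G)
    (hT1 : T ≠ ⊥) (hT : Cfsg.IsStronglyClosed T (S : Subgroup G))
    (hprop : (⨆ t : {t : G // t ∈ T ∧ orderOf t = 2}, centralizer ({(t : G)} : Set G)) ≠ ⊤) :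
    ∃ H : Subgroup G, Cfsg.IsStronglyEmbedded H := by
  haveI : Fact (Nat.Prime 2) := ⟨Nat.prime_two⟩
  set H₀ := ⨆ t : {t : G // t ∈ T ∧ orderOf t = 2}, centralizer ({(t : G)} : Set G) with hH₀
  have hC : ∀ t ∈ T, orderOf t = 2 → centralizer ({t} : Set G) ≤ H₀ := fun t ht ht2 =>
    le_iSup (fun t : {t : G // t ∈ T ∧ orderOf t = 2} => centralizer ({(t : G)} : Set G)) ⟨t, ht, ht2⟩
  -- an involution of `T` central in `S`
  have hTn : (T.subgroupOf (S : Subgroup G)).Normal := ⟨fun x hx s => by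
    refine mem_subgroupOf.2 (hT.2 _ hx (s : G) ?_)
    exact mul_mem (mul_mem s.2 x.2) (inv_mem s.2)⟩
  have hT1' : T.subgroupOf (S : Subgroup G) ≠ ⊥ := fun h => hT1 (le_bot_iff.1 fun x hx => by
    have : (⟨x, hT.1 hx⟩ : ↥(S : Subgroup G)) ∈ T.subgroupOf (S : Subgroup G) := hx
    rw [h, mem_bot] at this
    exact mem_bot.2 (congrArg Subtype.val this))
  haveI := hTn
  obtain ⟨w, hwT, hwc, hwo⟩ := Cfsg.Lib.PGroups.exists_mem_center_of_normal_ne_bot S.2 hT1'
  set z : G := (w : G) with hz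
  have hz2 : orderOf z = 2 := by rw [hz, Subgroup.orderOf_coe, hwo]
  have hzT : z ∈ T := hwT
  have hzS : ∀ s ∈ (S : Subgroup G), Commute s z := fun s hs =>
    congrArg Subtype.val (mem_center_iff.1 hwc ⟨s, hs⟩)
  have hSC : (S : Subgroup G) ≤ centralizer ({z} : Set G) := fun s hs =>
    mem_centralizer_singleton_iff.2 (hzS s hs).eq
  set M := normalizer (H₀ : Set G) with hMdef
  have hSH : (S : Subgroup G) ≤ H₀ := hSC.trans (hC z hzT hz2)
  -- `N(S)` lies in `M`
  have hNS : normalizer ((S : Subgroup G) : Set G) ≤ M := by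
    intro n hn
    have hperm : ∀ t : G, t ∈ T → n * t * n⁻¹ ∈ T :=
      fun t ht => hT.2 t ht n ((mem_normalizer_iff.1 hn t).1 (hT.1 ht))
    suffices hle : H₀.map (MulAut.conj n).toMonoidHom ≤ H₀ by
      refine mem_normalizer_iff.2 fun x => ⟨fun hx => hle ⟨x, hx, rfl⟩, fun hx => ?_⟩
      have heq : H₀.map (MulAut.conj n).toMonoidHom = H₀ :=
        eq_of_le_of_card_ge hle (card_map_of_injective (MulAut.conj n).injective).ge
      obtain ⟨y, hy, hyx⟩ := (heq.symm ▸ hx : n * x * n⁻¹ ∈ H₀.map (MulAut.conj n).toMonoidHom)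
      rwa [← (MulAut.conj n).injective hyx]
    rw [hH₀, Subgroup.map_iSup]
    refine iSup_le fun t => ?_
    rintro _ ⟨c, hc, rfl⟩
    refine hC _ (hperm t t.2.1) ?_ (centralizer_conj_mem hc)
    exact ((orderOf_injective (MulAut.conj n).toMonoidHom (MulAut.conj n).injective (t : G))).trans t.2.2
  have hM : M ≠ ⊤ := fun h => by
    have hn : H₀.Normal := normalizer_eq_top_iff.1 h
    rcases IsSimpleGroup.eq_bot_or_eq_top_of_normal H₀ hn with h0 | h0
    · refine hT1 (le_bot_iff.1 ?_)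
      exact hT.1.trans (h0 ▸ hSH)
    · exact hprop h0
  have hzM : z ∈ M := le_normalizer (hSH (hT.1 hzT))
  have hSM : (S : Subgroup G) ≤ M := hSH.trans le_normalizer
  -- conjugates of `z` in `M` reach `T` inside `M`
  have hreach : ∀ g : G, g * z * g⁻¹ ∈ M → ∃ m ∈ M, m * g * z * (m * g)⁻¹ ∈ T := by
    intro g hg
    have hp : IsPGroup 2 (zpowers (g * z * g⁻¹)) := IsPGroup.of_card (n := 1) (by
      rw [pow_one, Nat.card_zpowers]
      exact (orderOf_injective (MulAut.conj g).toMonoidHom (MulAut.conj g).injective z).trans hz2)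
    obtain ⟨R, hR⟩ := (hp.comap_subtype (K := M)).exists_le_sylow
    obtain ⟨m, rfl⟩ := MulAction.exists_smul_eq M (S.subtype hSM) R
    obtain ⟨s, hs, hse⟩ := hR (show (⟨_, hg⟩ : M) ∈ (zpowers (g * z * g⁻¹)).subgroupOf M from mem_zpowers _)
    refine ⟨(m : G)⁻¹, inv_mem m.2, ?_⟩
    have hs' : (s : G) ∈ (S : Subgroup G) := hs
    have h' : (m : G) * (s : G) * (m : G)⁻¹ = g * z * g⁻¹ := congrArg Subtype.val hse
    refine hT.2 z hzT _ ?_
    have : (m : G)⁻¹ * g * z * ((m : G)⁻¹ * g)⁻¹ = (s : G) := by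
      calc (m : G)⁻¹ * g * z * ((m : G)⁻¹ * g)⁻¹ = (m : G)⁻¹ * (g * z * g⁻¹) * (m : G) := by group
        _ = (s : G) := by rw [← h']; group
    rw [this]; exact hs'
  have h2 : ∀ g : G, g * z * g⁻¹ ∈ M → g ∈ M := by
    intro g hg
    obtain ⟨m, hm, hmT⟩ := hreach g hg
    set k := m * g with hk
    have hk2 : orderOf (k * z * k⁻¹) = 2 := (orderOf_injective (MulAut.conj k).toMonoidHom (MulAut.conj k).injective z).trans hz2
    have hkS : ((k • S : Sylow 2 G) : Subgroup G) ≤ M := by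
      rintro _ ⟨s, hs, rfl⟩
      exact le_normalizer (hC _ hmT hk2 (centralizer_conj_mem (hSC hs)))
    obtain ⟨r, hr⟩ := MulAction.exists_smul_eq M (S.subtype hSM) ((k • S : Sylow 2 G).subtype hkS)
    have hrk : (r : G) • S = k • S := by
      rw [Sylow.smul_subtype hSM r] at hr
      exact Sylow.subtype_injective hr
    have hnorm : (r : G)⁻¹ * k ∈ normalizer ((S : Subgroup G) : Set G) :=
      Sylow.smul_eq_iff_mem_normalizer.1 (by rw [← smul_smul, ← hrk, inv_smul_smul])
    have : g = m⁻¹ * ((r : G) * ((r : G)⁻¹ * k)) := by rw [hk]; group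
    rw [this]
    exact mul_mem (inv_mem hm) (mul_mem r.2 (hNS hnorm))
  refine crit G M hM z hz2 hzM ⟨S, hT.1 hzT, hzS⟩ h2 fun g hcomm hne => ?_
  -- the conjugate and the product lie in a conjugate of `T` under `C(z)`
  set y := g * z * g⁻¹ with hy
  set C := centralizer ({z} : Set G)
  have hyC : y ∈ C := mem_centralizer_singleton_iff.2 hcomm.eq.symm
  have hy2 : orderOf y = 2 := (orderOf_injective (MulAut.conj g).toMonoidHom (MulAut.conj g).injective z).trans hz2
  have hp : IsPGroup 2 (zpowers y) := IsPGroup.of_card (n := 1) (by rw [pow_one, Nat.card_zpowers, hy2])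
  obtain ⟨R, hR⟩ := (hp.comap_subtype (K := C)).exists_le_sylow
  obtain ⟨c, rfl⟩ := MulAction.exists_smul_eq C (S.subtype hSC) R
  obtain ⟨s, hs, hse⟩ := hR (show (⟨y, hyC⟩ : C) ∈ (zpowers y).subgroupOf C from mem_zpowers y)
  have hs' : (s : G) ∈ (S : Subgroup G) := hs
  have h' : (c : G) * (s : G) * (c : G)⁻¹ = y := congrArg Subtype.val hse
  have hsT : (s : G) ∈ T := by
    have := hT.2 z hzT ((c : G)⁻¹ * g) ?_
    all_goals rw [show (c : G)⁻¹ * g * z * ((c : G)⁻¹ * g)⁻¹ = (s : G) from by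
      calc (c : G)⁻¹ * g * z * ((c : G)⁻¹ * g)⁻¹ = (c : G)⁻¹ * y * (c : G) := by rw [hy]; group
        _ = (s : G) := by rw [← h']; group] at *
    · exact this
    · exact hs'
  have hcz : (c : G) * z * (c : G)⁻¹ = z :=
    mul_inv_eq_iff_eq_mul.2 (mem_centralizer_singleton_iff.1 c.2)
  have hcM : (c : G) ∈ M := le_normalizer (hC z hzT hz2 c.2)
  have hprod : (c : G) * (z * (s : G)) * (c : G)⁻¹ = z * y := by
    calc (c : G) * (z * (s : G)) * (c : G)⁻¹ = ((c : G) * z * (c : G)⁻¹) * ((c : G) * (s : G) * (c : G)⁻¹) := by group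
      _ = z * y := by rw [hcz, h']
  have hzy : orderOf (z * (s : G)) = 2 := by
    have hzz : z * z = 1 := by rw [← pow_two, ← hz2, pow_orderOf_eq_one]
    have hss : (s : G) * (s : G) = 1 := by
      have h := (orderOf_injective (MulAut.conj (c : G)).toMonoidHom (MulAut.conj (c : G)).injective (s : G))
      rw [MulEquiv.coe_toMonoidHom, MulAut.conj_apply, h', hy2] at h
      rw [← pow_two, h, pow_orderOf_eq_one]
    refine orderOf_eq_prime ?_ fun h1 => hne ?_
    · rw [(show Commute z (s : G) from (hzS _ hs').symm).mul_pow, pow_two, pow_two, hzz, hss, one_mul]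
    · have hsz : (s : G) = z := by
        rw [← mul_left_cancel (a := z) (h1.trans hzz.symm)]
      rw [← h', hsz, hcz]
  intro x hx
  rw [← hprod] at hx
  have hmem : (c : G)⁻¹ * x * (c : G) ∈ centralizer ({z * (s : G)} : Set G) := by
    have h := centralizer_conj_mem (g := (c : G)⁻¹) hx
    rw [inv_inv] at h
    rwa [show (c : G)⁻¹ * ((c : G) * (z * (s : G)) * (c : G)⁻¹) * (c : G) = z * (s : G) by group] at h
  have h := le_normalizer (hC _ (mul_mem hzT hsT) hzy hmem)
  rw [show x = (c : G) * ((c : G)⁻¹ * x * (c : G)) * (c : G)⁻¹ by group]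
  exact mul_mem (mul_mem hcM h) (inv_mem hcM)

end Cfsg.Lib.BenderSE.ClosedCrit
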