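/-
Consequences of the strong embedding criterion (notes/criterion_dependants_h8.md): common setting, and the
simple case, where the subgroup itself is strongly embedded; row 1791.
-/
import Cfsg.Agent.BenderSE.Dependents.ClosedCriterion
import Cfsg.Agent.BenderSE.Dependents.Rows
import Cfsg.Agent.BenderSE.Induction
import Cfsg.Prelude.Def_EvenType
import Cfsg.Prelude.Def_SporadicB

set_option autoImplicit false
set_option linter.style.haveILetI false
set_option linter.unusedSectionVars false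

namespace Cfsg.Lib.BenderSE.CritDep

open Subgroup Cfsg.Lib.StrongEmb Cfsg.Lib.InvolCalc
open Cfsg.Lib.BenderSE.ClosedCrit (CriterionProp)

universe u

variable {G : Type u} [Group G] [Finite G] {H : Subgroup G} {z : G}

/-- a 2-central involution whose conjugates in `H` come from `H` only -/
structure Pointed (H : Subgroup G) (z : G) : Prop where
  two : orderOf z = 2
  central : ∃ S : Sylow 2 G, z ∈ S ∧ ∀ s ∈ S, Commute s z
  mem : z ∈ H
  ne : H ≠ ⊤
  self : ∀ g : G, g * z * g⁻¹ ∈ H → g ∈ H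

theorem Pointed.centralizer_le (W : Pointed H z) : centralizer ({z} : Set G) ≤ H := fun c hc =>
  W.self c (by rw [mem_centralizer_singleton_iff.1 hc, mul_inv_cancel_right]; exact W.mem)

theorem Pointed.even (W : Pointed H z) : Even (Nat.card H) :=
  even_iff_two_dvd.2 (W.two ▸ Subgroup.orderOf_dvd_natCard H W.mem)

theorem Pointed.sylow_le (W : Pointed H z) :
    ∃ S : Sylow 2 G, (S : Subgroup G) ≤ H ∧ z ∈ S ∧ ∀ s ∈ S, Commute s z := by
  obtain ⟨S, hzS, hS⟩ := W.central
  exact ⟨S, fun s hs => W.centralizer_le (mem_centralizer_singleton_iff.2 (hS s hs).eq), hzS, hS⟩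

/-- if every involution of `H` is conjugate to `z`, then `H` is strongly embedded -/
theorem Pointed.embedded_of_class (W : Pointed H z) (h : ∀ t ∈ H, orderOf t = 2 → IsConj z t) :
    Cfsg.IsStronglyEmbedded H := by
  refine of_conditions W.ne W.even (fun t ht ht2 => ?_) (fun t ht s hs ht2 hs2 _ => ?_)
  · obtain ⟨g, rfl⟩ := isConj_iff.1 (h t ht ht2)
    intro c hc
    have hg := W.self g ht
    have h1 : g⁻¹ * c * g ∈ centralizer ({z} : Set G) := by
      have := ClosedCrit.centralizer_conj_mem (g := g⁻¹) hc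
      rwa [inv_inv, show g⁻¹ * (g * z * g⁻¹) * g = z by group] at this
    have := mul_mem (mul_mem hg (W.centralizer_le h1)) (inv_mem hg)
    rwa [show g * (g⁻¹ * c * g) * g⁻¹ = c by group] at this
  · obtain ⟨g, rfl⟩ := isConj_iff.1 (h t ht ht2)
    obtain ⟨k, rfl⟩ := isConj_iff.1 (h s hs hs2)
    exact ⟨k * g⁻¹, mul_mem (W.self k hs) (inv_mem (W.self g ht)), by group⟩

/-- the criterion for simple groups of order at most `m` -/
def CriterionUpTo (m : ℕ) : Prop :=
  ∀ (L : Type u) [Group L] [Finite L] [IsSimpleGroup L], Nat.card L ≤ m →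
    ∀ M : Subgroup L, M ≠ ⊤ → ∀ z : L, orderOf z = 2 → z ∈ M →
      (∃ S : Sylow 2 L, z ∈ S ∧ ∀ s ∈ S, Commute s z) → (∀ g : L, g * z * g⁻¹ ∈ M → g ∈ M) →
      (∀ g : L, Commute z (g * z * g⁻¹) → g * z * g⁻¹ ≠ z →
        centralizer ({z * (g * z * g⁻¹)} : Set L) ≤ M) → ∃ H : Subgroup L, Cfsg.IsStronglyEmbedded H

theorem criterionUpTo_of (crit : CriterionProp.{u}) (m : ℕ) : CriterionUpTo.{u} m :=
  fun L _ _ _ _ M => crit L M

/-- the criterion up to the order of a simple group makes `H` itself strongly embedded -/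
theorem Pointed.embedded_of_upTo {m : ℕ} (crit : CriterionUpTo.{u} m) [IsSimpleGroup G]
    (hm : Nat.card G ≤ m) (W : Pointed H z)
    (h3 : ∀ g : G, Commute z (g * z * g⁻¹) → g * z * g⁻¹ ≠ z →
      centralizer ({z * (g * z * g⁻¹)} : Set G) ≤ H) : Cfsg.IsStronglyEmbedded H := by
  obtain ⟨K, hK⟩ := crit G hm H W.ne z W.two W.mem W.central W.self h3
  exact W.embedded_of_class fun t _ ht => all_conj hK W.two ht

/-- the criterion makes `H` itself strongly embedded in a simple group -/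
theorem Pointed.embedded_of_simple (crit : CriterionProp.{u}) [IsSimpleGroup G] (W : Pointed H z)
    (h3 : ∀ g : G, Commute z (g * z * g⁻¹) → g * z * g⁻¹ ≠ z →
      centralizer ({z * (g * z * g⁻¹)} : Set G) ≤ H) : Cfsg.IsStronglyEmbedded H :=
  W.embedded_of_upTo (criterionUpTo_of crit _) le_rfl h3

/-- a strongly embedded subgroup is strongly 2-embedded -/
theorem spe_of_se (hH : Cfsg.IsStronglyEmbedded H) : Cfsg.IsStronglyPEmbedded 2 H := by
  haveI : Fact (Nat.Prime 2) := ⟨Nat.prime_two⟩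
  exact Cfsg.Lib.Embedded.sPE_iff_conj.2 ⟨hH.1, even_iff_two_dvd.1 hH.2.1, fun g hg h =>
    (Nat.not_even_iff_odd.2 (hH.2.2 g hg)) (even_iff_two_dvd.2 h)⟩

theorem map_conj_conj (M : Subgroup G) (g k : G) :
    (M.map (MulAut.conj k).toMonoidHom).map (MulAut.conj g).toMonoidHom =
      M.map (MulAut.conj (g * k)).toMonoidHom := by
  rw [Subgroup.map_map]
  congr 1
  ext x
  simp [mul_assoc]

theorem map_conj_self {M : Subgroup G} {g : G} (hg : g ∈ M) : M.map (MulAut.conj g).toMonoidHom = M :=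
  Cfsg.Lib.Embedded.map_conj_le_of_mem hg le_rfl |> fun h =>
    Subgroup.eq_of_le_of_card_ge h (card_map_of_injective (MulAut.conj g).injective).ge

/-- ROW 1791 from the criterion -/
theorem zEmbedded_of_crit (crit : CriterionProp.{u}) (step : CommStep.{u}) [IsSimpleGroup G]
    (hG : ¬ IsMulCommutative G) (M : Subgroup G) (z : G) (hz : Cfsg.IsTwoCentralInvolution z)
    (hM : Cfsg.IsStronglyZEmbedded (conjugatesOf z) M) :
    Cfsg.IsStronglyPEmbedded 2 M ∧
    (∀ a b c d : G, M.map (MulAut.conj a).toMonoidHom ≠ M.map (MulAut.conj b).toMonoidHom →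
      M.map (MulAut.conj c).toMonoidHom ≠ M.map (MulAut.conj d).toMonoidHom →
      ∃ g : G, (M.map (MulAut.conj a).toMonoidHom).map (MulAut.conj g).toMonoidHom =
          M.map (MulAut.conj c).toMonoidHom ∧
        (M.map (MulAut.conj b).toMonoidHom).map (MulAut.conj g).toMonoidHom =
          M.map (MulAut.conj d).toMonoidHom) := by
  haveI : Fact (Nat.Prime 2) := ⟨Nat.prime_two⟩
  obtain ⟨hz2, P, hzP, hPc⟩ := hz
  obtain ⟨hne, ⟨z₁, hz₁, hz₁M⟩, hC, ⟨T, hT⟩, hH⟩ := hM
  obtain ⟨g₁, rfl⟩ := isConj_iff.1 (hz₁ : IsConj z z₁)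
  -- replace `z` by a conjugate in `M`
  set w := g₁ * z * g₁⁻¹ with hw
  have hw2 : orderOf w = 2 := by rw [hw, orderOf_conj', hz2]
  have hwc : ∃ S : Sylow 2 G, w ∈ S ∧ ∀ s ∈ S, Commute s w := by
    refine ⟨g₁ • P, ⟨z, hzP, rfl⟩, ?_⟩
    rintro _ ⟨s, hs, rfl⟩
    exact (show Commute s z from hPc s hs).map (MulAut.conj g₁).toMonoidHom
  have hconj : ∀ g : G, g * w * g⁻¹ ∈ conjugatesOf z := fun g =>
    (isConj_iff.2 ⟨g * g₁, by rw [hw]; group⟩ : IsConj z (g * w * g⁻¹))
  have hCw : centralizer ({w} : Set G) ≤ M := hC w (by simpa using hconj 1) hz₁M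
  -- `T` is a Sylow subgroup of `G`
  obtain ⟨S, hwS, hSw⟩ := hwc
  have hSM : (S : Subgroup G) ≤ M := fun s hs => hCw (mem_centralizer_singleton_iff.2 (hSw s hs).eq)
  have hself : ∀ g : G, g * w * g⁻¹ ∈ M → g ∈ M := by
    intro g hg
    -- move both conjugates into `T`
    have key : ∀ x : G, x ∈ M → orderOf x = 2 →
        ∃ m ∈ M, m * x * m⁻¹ ∈ (T : Subgroup M).map M.subtype := by
      intro x hx hx2
      have hp : IsPGroup 2 (zpowers (⟨x, hx⟩ : M)) := IsPGroup.of_card (n := 1) (by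
        rw [Nat.card_zpowers, Subgroup.orderOf_mk, hx2, pow_one])
      obtain ⟨R, hR⟩ := hp.exists_le_sylow
      obtain ⟨m, rfl⟩ := MulAction.exists_smul_eq M R T
      exact ⟨m, m.2, ⟨m * ⟨x, hx⟩ * m⁻¹, ⟨_, hR (mem_zpowers _), rfl⟩, rfl⟩⟩
    obtain ⟨m, hm, hmT⟩ := key w hz₁M hw2
    obtain ⟨n, hn, hnT⟩ := key _ hg (by rw [orderOf_conj', hw2])
    obtain ⟨x, hx, hxe⟩ := hT {m * w * m⁻¹} (n * g * m⁻¹)
      (Set.singleton_subset_iff.2 hmT) (by
        rw [Set.image_singleton, Set.singleton_subset_iff]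
        rw [SetLike.mem_coe, show n * g * m⁻¹ * (m * w * m⁻¹) * (n * g * m⁻¹)⁻¹ =
          n * (g * w * g⁻¹) * n⁻¹ by group]
        exact hnT)
    rw [Set.image_singleton, Set.image_singleton, Set.singleton_eq_singleton_iff] at hxe
    have hc : (x * m)⁻¹ * (n * g) ∈ centralizer ({w} : Set G) := by
      rw [mem_centralizer_singleton_iff]
      have e : n * g * w = x * (m * w * m⁻¹) * x⁻¹ * (n * g) := by rw [← hxe]; group
      calc (x * m)⁻¹ * (n * g) * w = (x * m)⁻¹ * (n * g * w) := by group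
        _ = w * ((x * m)⁻¹ * (n * g)) := by rw [e]; group
    have := mul_mem (mul_mem hx hm) (hCw hc)
    rw [mul_inv_cancel_left] at this
    exact (mul_mem_cancel_left hn).1 this
  have W : Pointed M w := ⟨hw2, ⟨S, hwS, hSw⟩, hz₁M, hne, hself⟩
  have hna : ∀ t : G, orderOf t = 2 → centralizer ({t} : Set G) ≠ ⊤ := fun t ht h => hG (by
    have hc : t ∈ center G := mem_center_iff.2 fun g =>
      mem_centralizer_singleton_iff.1 (h ▸ mem_top g)
    rcases IsSimpleGroup.eq_bot_or_eq_top_of_normal (center G) inferInstance with hb | hb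
    · rw [hb, mem_bot] at hc
      rw [hc, orderOf_one] at ht
      omega
    · exact ⟨⟨fun a b => (mem_center_iff.1 (hb ▸ mem_top b : b ∈ center G) a)⟩⟩)
  have hse : Cfsg.IsStronglyEmbedded M := W.embedded_of_simple crit fun g hcom hne' => by
    set y := g * w * g⁻¹ with hy
    by_contra hnot
    have hyM : y ∈ M := hCw (mem_centralizer_singleton_iff.2 hcom.eq.symm)
    have hy2 : orderOf y = 2 := by rw [hy, orderOf_conj', hw2]
    set u := w * y with hu
    have hu2 : orderOf u = 2 := order_two_of_mul_self (by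
      show w * y * (w * y) = 1
      calc w * y * (w * y) = w * (y * w) * y := by group
        _ = w * (w * y) * y := by rw [hcom.eq]
        _ = (w * w) * (y * y) := by group
        _ = 1 := by rw [sq_of_order_two hw2, sq_of_order_two hy2, mul_one]) fun h => hne' (by
      rw [hu] at h
      exact (eq_inv_of_mul_eq_one_right h).trans (inv_of_order_two hw2))
    have hwu : w ∈ centralizer ({u} : Set G) := mem_centralizer_singleton_iff.2
      ((Commute.refl w).mul_right hcom).eq
    have hyu : y ∈ centralizer ({u} : Set G) := mem_centralizer_singleton_iff.2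
      ((hcom.symm).mul_right (Commute.refl y)).eq
    have hwcl : w ∈ conjugatesOf z := by simpa using hconj 1
    obtain ⟨-, hsp⟩ := hH (centralizer ({u} : Set G)) (hna u hu2) ⟨w, hwcl, hwu, hz₁M⟩ hnot
    set K := closure (conjugatesOf z ∩ (centralizer ({u} : Set G) : Set G)) with hK
    have hwK : w ∈ K := subset_closure ⟨hwcl, hwu⟩
    have hyK : y ∈ K := subset_closure ⟨hconj g, hyu⟩
    have huK : u ∈ K := mul_mem hwK hyK
    have hKu : K ≤ centralizer ({u} : Set G) := (closure_le _).2 Set.inter_subset_right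
    have hs := se_of_spe hsp
    refine hs.1 (eq_top_iff.2 fun k _ => ?_)
    exact Cfsg.Lib.StrongEmb.centralizer_le hs (t := ⟨u, huK⟩) (by rw [Subgroup.orderOf_mk, hu2])
      (mem_subgroupOf.2 (mem_inf.2 ⟨huK, mul_mem hz₁M hyM⟩))
      (mem_centralizer_singleton_iff.2 (Subtype.ext (mem_centralizer_singleton_iff.1 (hKu k.2))))
  refine ⟨spe_of_se hse, fun a b c d hab hcd => ?_⟩
  have h2 : HasCommutingInvolutions G := comm_of_nonab hse hG
  have hne' : ∀ p q : G, M.map (MulAut.conj p).toMonoidHom ≠ M.map (MulAut.conj q).toMonoidHom →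
      p⁻¹ * q ∉ M := fun p q h hm => h (by
    conv_rhs => rw [← mul_inv_cancel_left p q, ← map_conj_conj, map_conj_self hm])
  obtain ⟨h, hh, hhm⟩ := transitive_of_commStep step hse h2 _ _ (hne' a b hab) (hne' c d hcd)
  refine ⟨c * h * a⁻¹, ?_, ?_⟩
  · rw [map_conj_conj, inv_mul_cancel_right, ← map_conj_conj, map_conj_self hh]
  · rw [map_conj_conj, show c * h * a⁻¹ * b = d * ((c⁻¹ * d)⁻¹ * (h * (a⁻¹ * b))) by group,
      ← map_conj_conj, map_conj_self hhm]

end Cfsg.Lib.BenderSE.CritDep
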