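/-
The general form of the strong embedding criterion (row 1913) from the criterion for simple groups
(notes/criterion_dependants_h8.md).
-/
import Cfsg.Agent.BenderSE.Dependents.CriterionBasic
import Cfsg.Agent.RankOne.Inverted
import Cfsg.Agent.InvolCalc.ZStarApps
import Cfsg.Agent.OddLocal.SmallAction

set_option autoImplicit false
set_option linter.style.haveILetI false
set_option linter.unusedSectionVars false

namespace Cfsg.Lib.BenderSE.CritDep

open Subgroup Cfsg.Lib.StrongEmb Cfsg.Lib.InvolCalc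
open Cfsg.Lib.BenderSE.ClosedCrit (CriterionProp centralizer_conj_mem)

universe u

variable {G : Type u} [Group G] [Finite G] {H : Subgroup G} {z : G}

/-- the subgroup generated by the conjugates of `z` centralising `v` -/
def localGen (z v : G) : Subgroup G := closure {x : G | IsConj z x ∧ x * v = v * x}

/-- the hypothesis on the centralisers of involutions not contained in `H` -/
def LocalEmbedded (H : Subgroup G) (z : G) : Prop :=
  ∀ v : G, orderOf v = 2 → v * z = z * v → ¬ centralizer ({v} : Set G) ≤ H →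
    Cfsg.IsStronglyEmbedded (H.subgroupOf (localGen z v))

/-- strong embedding restricts along an injective homomorphism -/
theorem embedded_comap {A B : Type*} [Group A] [Group B] [Finite A] [Finite B] (f : A →* B)
    (hf : Function.Injective f) {HB : Subgroup B} (hB : Cfsg.IsStronglyEmbedded HB)
    (hne : HB.comap f ≠ ⊤) {t : A} (ht : orderOf t = 2) (htH : f t ∈ HB) :
    Cfsg.IsStronglyEmbedded (HB.comap f) := by
  refine ⟨hne, even_iff_two_dvd.2 (ht ▸ Subgroup.orderOf_dvd_natCard _ (mem_comap.2 htH)), fun g hg => ?_⟩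
  refine (hB.2.2 (f g) hg).of_dvd_nat ?_
  rw [← card_map_of_injective (K := HB.comap f ⊓ (HB.comap f).map (MulAut.conj g).toMonoidHom) hf]
  refine card_dvd_of_le ?_
  rintro _ ⟨x, hx, rfl⟩
  obtain ⟨hx1, hx2⟩ := mem_inf.1 hx
  refine mem_inf.2 ⟨hx1, ?_⟩
  obtain ⟨y, hy, rfl⟩ := hx2
  exact ⟨f y, hy, by simp⟩

/-- a Sylow subgroup normalising `Y` meets it in a Sylow subgroup -/
theorem exists_sylow_inf (S : Sylow 2 G) (Y : Subgroup G) (hS : (S : Subgroup G) ≤ normalizer (Y : Set G)) :
    ∃ Q : Sylow 2 Y, (Q : Subgroup Y) = (S : Subgroup G).subgroupOf Y := by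
  haveI : Fact (Nat.Prime 2) := ⟨Nat.prime_two⟩
  have hp : IsPGroup 2 ((S : Subgroup G).subgroupOf Y) := S.2.comap_subtype
  refine ⟨hp.toSylow ?_, IsPGroup.toSylow_coe hp _⟩
  set K := (S : Subgroup G) ⊔ Y with hK
  haveI hYn : (Y.subgroupOf K).Normal := (normal_subgroupOf_iff_le_normalizer le_sup_right).2
    (sup_le hS le_normalizer)
  have h1 : (Y.subgroupOf K).relIndex (Y.subgroupOf K ⊔ (S : Subgroup G).subgroupOf K) =
      (Y.subgroupOf K).relIndex ((S : Subgroup G).subgroupOf K) := relIndex_sup_left _ _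
  have hsup : Y.subgroupOf K ⊔ (S : Subgroup G).subgroupOf K = ⊤ := by
    rw [← subgroupOf_sup le_sup_right le_sup_left, subgroupOf_eq_top, sup_comm]
  rw [hsup, relIndex_top_right, relIndex_subgroupOf le_sup_left] at h1
  have h2 : Y.relIndex K = Y.relIndex (S : Subgroup G) := h1
  have e1 := card_mul_index (Y.subgroupOf K)
  have e2 := card_mul_index ((S : Subgroup G).subgroupOf K)
  have e3 := card_mul_index (Y.subgroupOf (S : Subgroup G))
  have e4 := card_mul_index ((S : Subgroup G).subgroupOf Y)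
  rw [Nat.card_congr (subgroupOfEquivOfLe (le_sup_right : Y ≤ K)).toEquiv, ← relIndex, h2] at e1
  rw [Nat.card_congr (subgroupOfEquivOfLe (le_sup_left : (S : Subgroup G) ≤ K)).toEquiv, ← relIndex] at e2
  rw [← relIndex] at e3
  rw [← relIndex] at e4
  have hc : Nat.card ((S : Subgroup G).subgroupOf Y) = Nat.card (Y.subgroupOf (S : Subgroup G)) := by
    rw [← card_map_of_injective (Subgroup.subtype_injective Y) (K := (S : Subgroup G).subgroupOf Y),
      ← card_map_of_injective (Subgroup.subtype_injective (S : Subgroup G))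
        (K := Y.subgroupOf (S : Subgroup G)), subgroupOf_map_subtype, subgroupOf_map_subtype, inf_comm]
  have h3 : (S : Subgroup G).relIndex Y = (S : Subgroup G).relIndex K := by
    have e5 : Nat.card Y * Y.relIndex (S : Subgroup G) =
        Nat.card (S : Subgroup G) * (S : Subgroup G).relIndex K := e1.trans e2.symm
    rw [← e4, ← e3, hc] at e5
    have e6 : Nat.card (Y.subgroupOf (S : Subgroup G)) * Y.relIndex (S : Subgroup G) *
        (S : Subgroup G).relIndex Y = Nat.card (Y.subgroupOf (S : Subgroup G)) * Y.relIndex (S : Subgroup G) *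
        (S : Subgroup G).relIndex K := by
      rw [← e5]; ring
    exact Nat.eq_of_mul_eq_mul_left (Nat.mul_pos Nat.card_pos
      (Nat.pos_of_ne_zero index_ne_zero_of_finite)) e6
  intro h
  rw [show ((S : Subgroup G).subgroupOf Y).index = (S : Subgroup G).relIndex Y from rfl, h3] at h
  exact S.not_dvd_index (h.trans ⟨_, (relIndex_mul_index (le_sup_left : (S : Subgroup G) ≤ K)).symm⟩)

theorem conj_conj (z g k : G) : k * (g * z * g⁻¹) * k⁻¹ = k * g * z * (k * g)⁻¹ := by group

/-- an involution of `H` commutes with a conjugate of `z` under `H` -/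
theorem Pointed.exists_commuting (W : Pointed H z) {t : G} (ht : orderOf t = 2) (htH : t ∈ H) :
    ∃ h ∈ H, Commute (h * z * h⁻¹) t := by
  haveI : Fact (Nat.Prime 2) := ⟨Nat.prime_two⟩
  obtain ⟨S, hSH, hzS, hS⟩ := W.sylow_le
  have hp : IsPGroup 2 (zpowers (⟨t, htH⟩ : H)) := IsPGroup.of_card (n := 1) (by
    rw [Nat.card_zpowers, Subgroup.orderOf_mk, ht, pow_one])
  obtain ⟨R, hR⟩ := hp.exists_le_sylow
  obtain ⟨h, rfl⟩ := MulAction.exists_smul_eq H (S.subtype hSH) R
  obtain ⟨s, hs, hse⟩ := hR (mem_zpowers _)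
  refine ⟨h, h.2, ?_⟩
  have e : (h : G) * (s : G) * (h : G)⁻¹ = t := congrArg Subtype.val hse
  rw [← e]
  exact (show Commute (s : G) z from hS s hs).symm.map (MulAut.conj (h : G)).toMonoidHom

/-- (F): an involution with centraliser in `H` fixes the point of `H` only -/
theorem Pointed.single (W : Pointed H z) {t g : G} (ht : orderOf t = 2)
    (hC : centralizer ({t} : Set G) ≤ H) (hg : g⁻¹ * t * g ∈ H) : g ∈ H := by
  obtain ⟨h, hh, hcom⟩ := W.exists_commuting (t := g⁻¹ * t * g)
    (by rw [show g⁻¹ * t * g = g⁻¹ * t * g⁻¹⁻¹ by group, orderOf_conj', ht]) hg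
  have h1 : Commute (g * h * z * (g * h)⁻¹) t := by
    have h2 := hcom.map (MulAut.conj g).toMonoidHom
    simp only [MulEquiv.coe_toMonoidHom, MulAut.conj_apply] at h2
    rwa [conj_conj, show g * (g⁻¹ * t * g) * g⁻¹ = t by group] at h2
  exact (mul_mem_cancel_right hh).1 (W.self _ (hC (mem_centralizer_singleton_iff.2 h1.eq)))

theorem mem_localGen {v g : G} (h : g * z * g⁻¹ * v = v * (g * z * g⁻¹)) :
    g * z * g⁻¹ ∈ localGen z v :=
  subset_closure ⟨isConj_iff.2 ⟨g, rfl⟩, h⟩

theorem mem_localGen_self {v : G} (h : v * z = z * v) : z ∈ localGen z v :=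
  subset_closure ⟨IsConj.refl z, h.symm⟩

theorem localGen_le (v : G) : localGen z v ≤ centralizer ({v} : Set G) :=
  (closure_le _).2 fun _ hx => mem_centralizer_singleton_iff.2 hx.2

/-- all involutions of `⟨z^G ∩ C(v)⟩` are conjugates of `z` -/
theorem Pointed.isConj_of_mem (W : Pointed H z) (hL : LocalEmbedded H z) {v t : G} (hv : orderOf v = 2)
    (hvz : v * z = z * v) (hC : ¬ centralizer ({v} : Set G) ≤ H) (ht : orderOf t = 2)
    (htK : t ∈ localGen z v) : ∃ k ∈ localGen z v, k * z * k⁻¹ = t := by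
  obtain ⟨k, hk⟩ := isConj_iff.1 (all_conj (hL v hv hvz hC)
    (a := (⟨z, mem_localGen_self hvz⟩ : localGen z v)) (b := ⟨t, htK⟩)
    (by rw [Subgroup.orderOf_mk, W.two]) (by rw [Subgroup.orderOf_mk, ht]))
  exact ⟨k, k.2, congrArg Subtype.val hk⟩

theorem order_two_mul {x y : G} (hx : orderOf x = 2) (hy : orderOf y = 2) (hc : Commute x y)
    (hne : y ≠ x) : orderOf (x * y) = 2 := order_two_of_mul_self (by
  calc x * y * (x * y) = x * (y * x) * y := by group
    _ = x * (x * y) * y := by rw [hc.eq]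
    _ = (x * x) * (y * y) := by group
    _ = 1 := by rw [sq_of_order_two hx, sq_of_order_two hy, mul_one]) fun h =>
  hne ((eq_inv_of_mul_eq_one_right h).trans (inv_of_order_two hx))

/-- (h3): the product of two commuting conjugates has its centraliser in `H` -/
theorem Pointed.centralizer_mul_le (W : Pointed H z) (hL : LocalEmbedded H z) (g : G)
    (hc : Commute z (g * z * g⁻¹)) (hne : g * z * g⁻¹ ≠ z) :
    centralizer ({z * (g * z * g⁻¹)} : Set G) ≤ H := by
  by_contra hnot
  set y := g * z * g⁻¹ with hy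
  have hyH : y ∈ H := W.centralizer_le (mem_centralizer_singleton_iff.2 hc.eq.symm)
  have hu := order_two_mul W.two (by rw [hy, orderOf_conj', W.two]) hc hne
  have hvz : z * y * z = z * (z * y) := by rw [mul_assoc, ← hc.eq]
  have hs := hL _ hu hvz hnot
  have hyK : y ∈ localGen z (z * y) := subset_closure ⟨isConj_iff.2 ⟨g, rfl⟩,
    (hc.symm.mul_right (Commute.refl y)).eq⟩
  have huK : z * y ∈ localGen z (z * y) := mul_mem (mem_localGen_self hvz) hyK
  refine hs.1 (eq_top_iff.2 fun k _ => ?_)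
  exact Cfsg.Lib.StrongEmb.centralizer_le hs (t := ⟨z * y, huK⟩) (by rw [Subgroup.orderOf_mk, hu])
    (mem_subgroupOf.2 (mul_mem W.mem hyH))
    (mem_centralizer_singleton_iff.2 (Subtype.ext (mem_centralizer_singleton_iff.1 (localGen_le _ k.2))))

/-- the conjugates of `z` form one class of a normal subgroup containing it -/
theorem Pointed.one_class (W : Pointed H z) (hL : LocalEmbedded H z) (X : Subgroup G) [hX : X.Normal]
    (hzX : z ∈ X) (g : G) : ∃ x ∈ X, x * z * x⁻¹ = g * z * g⁻¹ := by
  have key : ∀ g : G, g ∉ H → ∃ x ∈ X, x * z * x⁻¹ = g * z * g⁻¹ := by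
    intro g hg
    set d := g * z * g⁻¹ with hd
    have hdX : d ∈ X := hX.conj_mem z hzX g
    have hd2 : orderOf d = 2 := by rw [hd, orderOf_conj', W.two]
    rcases Nat.even_or_odd (orderOf (z * d)) with he | ho
    · obtain ⟨hv, hvz, hvd⟩ := central_spec W.two hd2 he
      set v := (z * d) ^ (orderOf (z * d) / 2)
      have hC : ¬ centralizer ({v} : Set G) ≤ H := fun h =>
        hg (W.self g (h (mem_centralizer_singleton_iff.2 hvd.eq.symm)))
      obtain ⟨k, hk, hkd⟩ := W.isConj_of_mem hL hv hvz.eq hC hd2 (mem_localGen hvd.eq.symm)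
      refine ⟨k, ?_, hkd⟩
      refine (closure_le _).2 ?_ hk
      rintro x ⟨hx, -⟩
      obtain ⟨c, rfl⟩ := isConj_iff.1 hx
      exact hX.conj_mem z hzX c
    · obtain ⟨x, hx, hxd⟩ := conj_of_odd W.two hd2 ho
      refine ⟨x, (closure_le _).2 ?_ hx, hxd⟩
      rintro y (rfl | hy)
      · exact hzX
      · rw [Set.mem_singleton_iff] at hy; rw [hy]; exact hdX
  by_cases hg : g ∈ H
  · obtain ⟨x, hxX, hxH⟩ : ∃ x ∈ X, x ∉ H := by
      by_contra h
      push Not at h
      exact W.ne (eq_top_iff.2 fun c _ => W.self c (h _ (hX.conj_mem z hzX c)))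
    obtain ⟨x', hx', he⟩ := key (x * g) fun h => hxH ((mul_mem_cancel_right hg).1 h)
    exact ⟨x⁻¹ * x', mul_mem (inv_mem hxX) hx', by
      rw [← conj_conj z x' x⁻¹, he]; group⟩
  · exact key g hg

/-- the setting restricted to a subgroup normalised by a Sylow subgroup centralising `z` -/
theorem Pointed.restrict (W : Pointed H z) (hL : LocalEmbedded H z) (Y : Subgroup G)
    (hzY : z ∈ Y) (S : Sylow 2 G) (hzS : z ∈ S) (hS : ∀ s ∈ S, Commute s z)
    (hSY : (S : Subgroup G) ≤ normalizer (Y : Set G)) (hYH : ¬ Y ≤ H) :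
    Pointed (H.subgroupOf Y) ⟨z, hzY⟩ ∧ LocalEmbedded (H.subgroupOf Y) (⟨z, hzY⟩ : Y) := by
  obtain ⟨Q, hQ⟩ := exists_sylow_inf S Y hSY
  refine ⟨⟨by rw [Subgroup.orderOf_mk, W.two], ⟨Q, ?_, ?_⟩, mem_subgroupOf.2 W.mem,
    fun h => hYH (subgroupOf_eq_top.1 h), fun g hg => W.self _ hg⟩, ?_⟩
  · show (⟨z, hzY⟩ : Y) ∈ (Q : Subgroup Y)
    rw [hQ]; exact hzS
  · intro s hs
    replace hs : s ∈ (Q : Subgroup Y) := hs
    rw [hQ] at hs
    exact Subtype.ext (hS (s : G) hs).eq
  · intro v hv hvz hC
    obtain ⟨c, hc, hcH⟩ : ∃ c ∈ centralizer ({v} : Set Y), c ∉ H.subgroupOf Y := by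
      by_contra h
      push Not at h
      exact hC h
    have hv' : orderOf (v : G) = 2 := by rw [Subgroup.orderOf_coe, hv]
    have hcv : (c : G) * v = v * c := congrArg Subtype.val (mem_centralizer_singleton_iff.1 hc)
    have hB := hL v hv' (congrArg Subtype.val hvz)
      fun h => hcH (mem_subgroupOf.2 (h (mem_centralizer_singleton_iff.2 hcv)))
    have hle : (localGen (⟨z, hzY⟩ : Y) v).map Y.subtype ≤ localGen z (v : G) := by
      rw [localGen, MonoidHom.map_closure]
      refine closure_mono ?_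
      rintro _ ⟨x, ⟨hx, hxv⟩, rfl⟩
      exact ⟨Y.subtype.map_isConj hx, congrArg Subtype.val hxv⟩
    let f : localGen (⟨z, hzY⟩ : Y) v →* localGen z (v : G) :=
      { toFun := fun x => ⟨((x : Y) : G), hle ⟨x, x.2, rfl⟩⟩
        map_one' := rfl
        map_mul' := fun _ _ => rfl }
    have hf : Function.Injective f := fun x y h => Subtype.ext (Subtype.ext (congrArg Subtype.val h :))
    have hzK : (⟨z, hzY⟩ : Y) ∈ localGen (⟨z, hzY⟩ : Y) v := mem_localGen_self hvz
    have hcz : c * ⟨z, hzY⟩ * c⁻¹ ∈ localGen (⟨z, hzY⟩ : Y) v := mem_localGen (by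
      refine Subtype.ext ?_
      show (c : G) * z * (c : G)⁻¹ * v = v * ((c : G) * z * (c : G)⁻¹)
      exact (((show Commute (c : G) v from hcv).mul_left
        (show Commute (v : G) z from congrArg Subtype.val hvz).symm).mul_left
        (show Commute (c : G) v from hcv).inv_left).eq)
    refine embedded_comap f hf hB (fun h => ?_) (t := ⟨⟨z, hzY⟩, hzK⟩)
      (by rw [Subgroup.orderOf_mk, Subgroup.orderOf_mk, W.two]) W.mem
    exact hcH (W.self _ (show (c : G) * z * (c : G)⁻¹ ∈ H from
      h.ge (x := ⟨_, hcz⟩) (mem_top _)))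

/-- no four-group of single-point involutions centralises a `v` when the conjugates of `z` avoid an
index two subgroup -/
theorem Pointed.no_four (W : Pointed H z) (hL : LocalEmbedded H z) (X : Subgroup G) [hX : X.Normal]
    (hzX : z ∉ X) (hG : X ⊔ zpowers z = ⊤) {v t : G} (hv : orderOf v = 2) (ht : orderOf t = 2)
    (hvz : Commute v z) (hvt : Commute v t) (hzt : Commute z t)
    (htH : centralizer ({t} : Set G) ≤ H) (hztH : centralizer ({z * t} : Set G) ≤ H) :
    centralizer ({v} : Set G) ≤ H := by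
  by_contra hC
  set K := localGen z v with hK
  have hs := hL v hv hvz.eq hC
  have hD : ∀ i ∈ K, orderOf i = 2 → i ∉ X := by
    intro i hi hi2 hiX
    obtain ⟨k, -, rfl⟩ := W.isConj_of_mem hL hv hvz.eq hC hi2 hi
    refine hzX ?_
    have := hX.conj_mem _ hiX k⁻¹
    rwa [show k⁻¹ * (k * z * k⁻¹) * k⁻¹⁻¹ = z by group] at this
  have hrank : ¬ HasCommutingInvolutions K := by
    rintro ⟨p, q, hp, hq, hne, hpq⟩
    have hp' : orderOf (p : G) = 2 := by rw [Subgroup.orderOf_coe, hp]
    have hq' : orderOf (q : G) = 2 := by rw [Subgroup.orderOf_coe, hq]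
    have hnX : ∀ i : G, i ∉ X → ∃ x ∈ X, i = x * z := by
      intro i hi
      have hmem : i ∈ ((X ⊔ zpowers z : Subgroup G) : Set G) := by rw [hG]; exact Set.mem_univ i
      rw [normal_mul] at hmem
      obtain ⟨x, hx, w, hw, rfl⟩ := hmem
      obtain ⟨n, rfl⟩ := mem_zpowers_iff.1 hw
      rcases Int.even_or_odd n with ⟨m, rfl⟩ | ⟨m, rfl⟩
      · refine absurd ?_ hi
        simp only
        rw [← two_mul, zpow_mul, zpow_two, sq_of_order_two W.two, one_zpow, mul_one]
        exact hx
      · exact ⟨x, hx, by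
          rw [zpow_add, zpow_mul, zpow_two, sq_of_order_two W.two, one_zpow, one_mul, zpow_one]⟩
    obtain ⟨x, hx, hxp⟩ := hnX _ (hD _ p.2 hp')
    obtain ⟨x', hx', hxq⟩ := hnX _ (hD _ q.2 hq')
    refine hD _ (mul_mem p.2 q.2)
      (order_two_mul hp' hq' (congrArg Subtype.val hpq) fun e => hne (Subtype.ext e.symm)) ?_
    rw [hxp, hxq, show x * z * (x' * z) = x * (z * x' * z⁻¹) * (z * z) by group, sq_of_order_two W.two,
      mul_one]
    exact mul_mem hx (hX.conj_mem x' hx' z)
  have htop := sup_eq_top_of_rankOne hs hrank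
  refine hs.1 (eq_top_iff.2 ?_)
  rw [← htop]
  refine sup_le (fun r hr => ?_) le_rfl
  -- the odd core lies in `H`
  set R := (Cfsg.oddCore K).map K.subtype with hR
  have hRodd : Odd (Nat.card R) := by
    rw [hR, card_map_of_injective K.subtype_injective]
    exact Cfsg.Lib.ZStarApps.odd_card_pPrimeCore
  have hnK : ∀ g : G, Commute g v → ∀ x ∈ R, g * x * g⁻¹ ∈ R := by
    intro g hgv x hx
    haveI : (Cfsg.oddCore K).Characteristic := Cfsg.Lib.Components.pPrimeCore_characteristic
    have hgK : g ∈ normalizer (K : Set G) := mem_normalizer_of_maps_to fun y hy => by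
      have hle : K ≤ K.comap (MulAut.conj g).toMonoidHom := (closure_le _).2 fun w hw => subset_closure
        ⟨hw.1.trans (isConj_iff.2 ⟨g, rfl⟩), ((hgv.mul_left hw.2).mul_left hgv.inv_left).eq⟩
      exact hle hy
    exact (mem_normalizer_iff.1 (Cfsg.Lib.OddP.le_normalizer_map_of_char (Cfsg.oddCore K) hgK) x).1 hx
  obtain ⟨a, b, c, d, ha, hb, hc, hd, -, -, -, -, he⟩ := Cfsg.Lib.RankOne.four_generation
    (sq_of_order_two W.two) (sq_of_order_two ht) hzt.eq hRodd (hnK z hvz.symm) (hnK t hvt.symm)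
    (x := (r : G)) (mem_map_of_mem _ hr)
  rw [mem_subgroupOf, he]
  exact mul_mem (mul_mem (mul_mem (W.centralizer_le (mem_centralizer_singleton_iff.2 ha))
    (htH (mem_centralizer_singleton_iff.2 hb))) (hztH (mem_centralizer_singleton_iff.2 hc)))
    (htH (mem_centralizer_singleton_iff.2 hd))

/-- an index two subgroup avoiding `z` and two commuting conjugates: impossible -/
theorem Pointed.false_of_index_two (W : Pointed H z) (hL : LocalEmbedded H z) (X : Subgroup G)
    [hX : X.Normal] (hzX : z ∉ X) (hG : X ⊔ zpowers z = ⊤) {x : G} (hc : Commute z (x * z * x⁻¹))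
    (hne : x * z * x⁻¹ ≠ z) (hzyX : z * (x * z * x⁻¹) ∈ X) : False := by
  haveI : Fact (Nat.Prime 2) := ⟨Nat.prime_two⟩
  obtain ⟨S, hSH, hzS, hS⟩ := W.sylow_le
  set C := centralizer ({z} : Set G) with hCdef
  have hSC : (S : Subgroup G) ≤ C := fun s hs => mem_centralizer_singleton_iff.2 (hS s hs).eq
  -- a commuting conjugate in `S`
  obtain ⟨y, g, hyS, hyg, hcy, hney, hzy⟩ : ∃ y g : G, y ∈ S ∧ g * z * g⁻¹ = y ∧ Commute z y ∧ y ≠ z ∧
      z * y ∈ X := by
    set y₀ := x * z * x⁻¹ with hy₀
    have hyC : y₀ ∈ C := mem_centralizer_singleton_iff.2 hc.eq.symm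
    have hp : IsPGroup 2 (zpowers (⟨y₀, hyC⟩ : C)) := IsPGroup.of_card (n := 1) (by
      rw [Nat.card_zpowers, Subgroup.orderOf_mk, hy₀, orderOf_conj', W.two, pow_one])
    obtain ⟨R, hR⟩ := hp.exists_le_sylow
    obtain ⟨k, rfl⟩ := MulAction.exists_smul_eq C (S.subtype hSC) R
    obtain ⟨s, hs, hse⟩ := hR (mem_zpowers _)
    have e : (k : G) * (s : G) * (k : G)⁻¹ = y₀ := congrArg Subtype.val hse
    have hkz : (k : G)⁻¹ * z * k = z := by
      rw [mul_assoc, ← mem_centralizer_singleton_iff.1 k.2, inv_mul_cancel_left]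
    refine ⟨s, (k : G)⁻¹ * x, hs, ?_, (hS (s : G) hs).symm, fun e' => hne ?_, ?_⟩
    · rw [← conj_conj z x (k : G)⁻¹, ← hy₀, ← e]; group
    · rw [← e, e', mem_centralizer_singleton_iff.1 k.2, mul_inv_cancel_right]
    · have := hX.conj_mem _ hzyX (k : G)⁻¹
      rwa [inv_inv, show (k : G)⁻¹ * (z * y₀) * k = (k : G)⁻¹ * z * k * ((k : G)⁻¹ * y₀ * k) by group, hkz,
        show (k : G)⁻¹ * y₀ * k = s by rw [← e]; group] at this
  have hy2 : orderOf y = 2 := by rw [← hyg, orderOf_conj', W.two]
  have hyH : centralizer ({y} : Set G) ≤ H := by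
    have hgH : g ∈ H := W.self g (by rw [hyg]; exact hSH hyS)
    intro c hc'
    rw [← hyg] at hc'
    have h1 := centralizer_conj_mem (g := g⁻¹) hc'
    rw [inv_inv, show g⁻¹ * (g * z * g⁻¹) * g = z by group] at h1
    have := mul_mem (mul_mem hgH (W.centralizer_le h1)) (inv_mem hgH)
    rwa [show g * (g⁻¹ * c * g) * g⁻¹ = c by group] at this
  have hzyH : centralizer ({z * y} : Set G) ≤ H := by
    have := W.centralizer_mul_le hL g (by rw [hyg]; exact hcy) (by rw [hyg]; exact hney)
    rwa [hyg] at this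
  have hzy2 : orderOf (z * y) = 2 := order_two_mul W.two hy2 hcy hney
  -- a central involution in `X ∩ S`
  have hT : X.subgroupOf (S : Subgroup G) ≠ ⊥ := fun h => by
    have h1 : (⟨z * y, mul_mem hzS hyS⟩ : ↥(S : Subgroup G)) ∈ X.subgroupOf (S : Subgroup G) := hzy
    rw [h, mem_bot] at h1
    rw [show z * y = 1 from congrArg Subtype.val h1, orderOf_one] at hzy2
    omega
  haveI : (X.subgroupOf (S : Subgroup G)).Normal := hX.subgroupOf _
  obtain ⟨w, hwX, hwc, hwo⟩ := Cfsg.Lib.PGroups.exists_mem_center_of_normal_ne_bot S.2 hT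
  set e := (w : G) with he
  have he2 : orderOf e = 2 := by rw [he, Subgroup.orderOf_coe, hwo]
  have heX : e ∈ X := hwX
  have heS : ∀ s ∈ (S : Subgroup G), Commute s e := fun s hs =>
    congrArg Subtype.val (mem_center_iff.1 hwc ⟨s, hs⟩)
  have hze : Commute z e := heS z hzS
  have hye : Commute y e := heS y hyS
  have hzene : e ≠ z := fun h => hzX (h ▸ heX)
  have hze2 : orderOf (z * e) = 2 := order_two_mul W.two he2 hze hzene
  have heC : centralizer ({e} : Set G) ≤ H :=
    W.no_four hL X hzX hG he2 hy2 hze.symm hye.symm hcy hyH hzyH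
  have hzeC : centralizer ({z * e} : Set G) ≤ H :=
    W.no_four hL X hzX hG hze2 hy2 ((Commute.refl z).mul_left hze.symm)
      (hcy.mul_left hye.symm) hcy hyH hzyH
  -- a conjugate at another point
  obtain ⟨g₁, hg₁⟩ : ∃ g₁ : G, g₁ ∉ H := by
    by_contra h
    push Not at h
    exact W.ne ((Subgroup.eq_top_iff' H).2 h)
  set d := g₁ * z * g₁⁻¹ with hd
  have hd2 : orderOf d = 2 := by rw [hd, orderOf_conj', W.two]
  have hdX : d ∉ X := fun h => hzX (by
    have := hX.conj_mem _ h g₁⁻¹
    rwa [hd, show g₁⁻¹ * (g₁ * z * g₁⁻¹) * g₁⁻¹⁻¹ = z by group] at this)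
  rcases Nat.even_or_odd (orderOf (e * d)) with hev | hodd
  · obtain ⟨hv, hve, hvd⟩ := central_spec he2 hd2 hev
    set v := (e * d) ^ (orderOf (e * d) / 2)
    set Ce := centralizer ({e} : Set G) with hCe
    have hSCe : (S : Subgroup G) ≤ Ce := fun s hs => mem_centralizer_singleton_iff.2 (heS s hs).eq
    have hvC : v ∈ Ce := mem_centralizer_singleton_iff.2 hve.eq
    have hp : IsPGroup 2 (zpowers (⟨v, hvC⟩ : Ce)) := IsPGroup.of_card (n := 1) (by
      rw [Nat.card_zpowers, Subgroup.orderOf_mk, hv, pow_one])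
    obtain ⟨R, hR⟩ := hp.exists_le_sylow
    obtain ⟨k, rfl⟩ := MulAction.exists_smul_eq Ce (S.subtype hSCe) R
    obtain ⟨s, hs, hse⟩ := hR (mem_zpowers _)
    have hks : (k : G) * (s : G) * (k : G)⁻¹ = v := congrArg Subtype.val hse
    have hsS : (s : G) ∈ S := hs
    have hs2 : orderOf (s : G) = 2 := by rw [← orderOf_conj' (k : G), hks, hv]
    have hCs := W.no_four hL X hzX hG hs2 he2 (hS _ hsS) (heS _ hsS) hze heC hzeC
    have hkH : (k : G) ∈ H := heC k.2
    have h1 : (k : G)⁻¹ * d * k ∈ centralizer ({(s : G)} : Set G) := by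
      rw [mem_centralizer_singleton_iff]
      have h2 : Commute d v := hvd.symm
      rw [← hks] at h2
      have h3 := h2.map (MulAut.conj (k : G)⁻¹).toMonoidHom
      simpa [mul_assoc] using h3.eq
    have := mul_mem (mul_mem hkH (hCs h1)) (inv_mem hkH)
    rw [show (k : G) * ((k : G)⁻¹ * d * k) * (k : G)⁻¹ = d by group] at this
    exact hg₁ (W.self g₁ this)
  · obtain ⟨c, -, hcd⟩ := conj_of_odd he2 hd2 hodd
    exact hdX (hcd ▸ hX.conj_mem e heX c)

/-- all involutions of the normal closure of `z` are conjugates of `z` -/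
def ClassProp (H : Subgroup G) (z : G) : Prop :=
  ∀ i ∈ Subgroup.normalClosure ({z} : Set G), orderOf i = 2 → IsConj z i

/-- a conjugate modulo an odd normal subgroup is a conjugate -/
theorem isConj_of_mod {O : Subgroup G} (hO : Odd (Nat.card O)) {i j : G} (hi : orderOf i = 2)
    (hj : orderOf j = 2) (h : i * j ∈ O) : IsConj i j := by
  obtain ⟨d, -, hd⟩ := conj_of_odd hi hj (hO.of_dvd_nat (Subgroup.orderOf_dvd_natCard O h))
  exact isConj_iff.2 ⟨d, hd⟩

theorem isolated_case (hz : Cfsg.IsIsolatedInvolution z) (hN : Subgroup.normalClosure ({z} : Set G) = ⊤)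
    {i : G} (hi : orderOf i = 2) : IsConj z i := by
  set O := Cfsg.oddCore G with hO
  have htop : O ⊔ zpowers z = ⊤ := by
    rw [eq_top_iff, ← hN]
    refine (closure_le _).2 fun x hx => ?_
    obtain ⟨r, hr, hrx⟩ := Group.mem_conjugatesOfSet_iff.1 hx
    rw [Set.mem_singleton_iff] at hr
    subst hr
    obtain ⟨g, rfl⟩ := isConj_iff.1 hrx
    have h1 := Cfsg.Lib.ZStarApps.zstarProp hz g
    rw [SetLike.mem_coe, show g * r * g⁻¹ = (r * g * r⁻¹ * g⁻¹)⁻¹ * r by group]
    exact mul_mem (mem_sup_left (inv_mem h1)) (mem_sup_right (mem_zpowers r))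
  have hmem : i ∈ ((O ⊔ zpowers z : Subgroup G) : Set G) := by rw [htop]; exact Set.mem_univ i
  rw [normal_mul] at hmem
  obtain ⟨o, ho, w, hw, rfl⟩ := hmem
  obtain ⟨n, rfl⟩ := mem_zpowers_iff.1 hw
  rcases Int.even_or_odd n with ⟨m, rfl⟩ | ⟨m, rfl⟩
  · exfalso
    simp only at hi
    rw [← two_mul, zpow_mul, zpow_two, sq_of_order_two hz.1, one_zpow, mul_one] at hi
    have := (Cfsg.Lib.ZStarApps.odd_card_pPrimeCore (G := G)).of_dvd_nat (Subgroup.orderOf_dvd_natCard O ho)
    rw [hi] at this
    exact absurd this (by decide)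
  · rw [zpow_add, zpow_mul, zpow_two, sq_of_order_two hz.1, one_zpow, one_mul, zpow_one] at hi ⊢
    refine (isConj_of_mod Cfsg.Lib.ZStarApps.odd_card_pPrimeCore hi hz.1 ?_).symm
    rwa [mul_assoc, sq_of_order_two hz.1, mul_one]

/-- GENERAL CRITERION: all involutions of `⟨z^G⟩` are conjugates of `z` -/
theorem class_of_upTo {m : ℕ} (crit : CriterionUpTo.{u} m) : ∀ (n : ℕ) {G : Type u} [Group G] [Finite G],
    Nat.card G = n → n ≤ m → ∀ (H : Subgroup G) (z : G), Pointed H z → LocalEmbedded H z → ClassProp H z := by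
  intro n
  induction n using Nat.strong_induction_on with
  | _ n ih =>
  intro G _ _ hn hnm H z W hL
  haveI : Fact (Nat.Prime 2) := ⟨Nat.prime_two⟩
  obtain ⟨S, hSH, hzS, hS⟩ := W.sylow_le
  set N := Subgroup.normalClosure ({z} : Set G) with hNdef
  have hzN : z ∈ N := subset_normalClosure (Set.mem_singleton z)
  have hlt : ∀ Y : Subgroup G, Y ≠ ⊤ → Nat.card Y < n := fun Y hY => by
    rw [← hn]
    exact lt_of_le_of_ne (card_le_card_group _) fun h => hY ((Subgroup.card_eq_iff_eq_top Y).1 h)
  intro i hiN hi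
  by_cases hN : N = ⊤
  swap
  · have hNH : ¬ N ≤ H := fun h => W.ne (eq_top_iff.2 fun g _ =>
      W.self g (h (Subgroup.Normal.conj_mem inferInstance z hzN g)))
    obtain ⟨W', hL'⟩ := W.restrict hL N hzN S hzS hS
      (by rw [normalizer_eq_top]; exact le_top) hNH
    have h1 := ih _ (hlt N hN) rfl ((hlt N hN).le.trans hnm) (H.subgroupOf N) ⟨z, hzN⟩ W' hL' ⟨i, hiN⟩ ?_
      (by rw [Subgroup.orderOf_mk, hi])
    · exact N.subtype.map_isConj h1
    -- the normal closure inside `N` is everything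
    have hle : N ≤ (Subgroup.normalClosure ({(⟨z, hzN⟩ : N)} : Set N)).map N.subtype := by
      refine (closure_le _).2 fun x hx => ?_
      obtain ⟨r, hr, hrx⟩ := Group.mem_conjugatesOfSet_iff.1 hx
      rw [Set.mem_singleton_iff] at hr
      subst hr
      obtain ⟨g, rfl⟩ := isConj_iff.1 hrx
      obtain ⟨y, hy, hye⟩ := W.one_class hL N hzN g
      rw [← hye]
      exact ⟨⟨y, hy⟩ * ⟨r, hzN⟩ * ⟨y, hy⟩⁻¹, Subgroup.Normal.conj_mem inferInstance _
        (subset_normalClosure (Set.mem_singleton _)) _, rfl⟩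
    obtain ⟨y, hy, hyi⟩ := hle hiN
    obtain rfl : y = ⟨i, hiN⟩ := Subtype.ext hyi
    exact hy
  by_cases hiso : ∀ g : G, Commute z (g * z * g⁻¹) → g * z * g⁻¹ = z
  · exact isolated_case ⟨W.two, hiso⟩ hN hi
  push Not at hiso
  obtain ⟨g₀, hc₀, hne₀⟩ := hiso
  set O := Cfsg.oddCore G with hOdef
  have hOodd : Odd (Nat.card O) := Cfsg.Lib.ZStarApps.odd_card_pPrimeCore
  -- the odd core lies in `H`
  have hOH : O ≤ H := fun r hr => by
    have hn' : ∀ g : G, ∀ x ∈ O, g * x * g⁻¹ ∈ O := fun g x hx =>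
      Subgroup.Normal.conj_mem inferInstance x hx g
    obtain ⟨a, b, c, d, ha, hb, hc, hd, -, -, -, -, he⟩ := Cfsg.Lib.RankOne.four_generation
      (sq_of_order_two W.two) (sq_of_order_two (by rw [orderOf_conj', W.two] : orderOf (g₀ * z * g₀⁻¹) = 2))
      hc₀.eq hOodd (hn' z) (hn' (g₀ * z * g₀⁻¹)) hr
    have hg₀ : g₀ ∈ H := W.self g₀ (W.centralizer_le (mem_centralizer_singleton_iff.2 hc₀.eq.symm))
    have key : ∀ x : G, x * (g₀ * z * g₀⁻¹) = g₀ * z * g₀⁻¹ * x → x ∈ H := fun x hx => by
      have h1 := centralizer_conj_mem (g := g₀⁻¹)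
        (mem_centralizer_singleton_iff.2 hx : x ∈ centralizer ({g₀ * z * g₀⁻¹} : Set G))
      rw [inv_inv, show g₀⁻¹ * (g₀ * z * g₀⁻¹) * g₀ = z by group] at h1
      have := mul_mem (mul_mem hg₀ (W.centralizer_le h1)) (inv_mem hg₀)
      rwa [show g₀ * (g₀⁻¹ * x * g₀) * g₀⁻¹ = x by group] at this
    rw [he]
    exact mul_mem (mul_mem (mul_mem (W.centralizer_le (mem_centralizer_singleton_iff.2 ha)) (key b hb))
      (W.centralizer_mul_le hL g₀ hc₀ hne₀ (mem_centralizer_singleton_iff.2 hc))) (key d hd)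
  have hzO : z ∉ O := fun h => by
    have := hOodd.of_dvd_nat (Subgroup.orderOf_dvd_natCard O h)
    rw [W.two] at this
    exact absurd this (by decide)
  by_cases hX : ∃ X : Subgroup G, X.Normal ∧ O < X ∧ X ≠ ⊤
  · obtain ⟨X, hXn, hOX, hXtop⟩ := hX
    have hzX : z ∉ X := fun h => hXtop (eq_top_iff.2 (hN ▸ Subgroup.normalClosure_le_normal
      (Set.singleton_subset_iff.2 h)))
    by_cases hcen : ∀ x ∈ X, z * x * z⁻¹ * x⁻¹ ∈ O
    · -- `X / O` is central
      let Z : Subgroup G := (centralizer ((X.map (QuotientGroup.mk' O) : Subgroup (G ⧸ O)) : Set (G ⧸ O))).comap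
        (QuotientGroup.mk' O)
      haveI hXmn : (X.map (QuotientGroup.mk' O)).Normal := hXn.map _ (QuotientGroup.mk'_surjective O)
      have hZ : Z = ⊤ := by
        rw [eq_top_iff, ← hN]
        refine Subgroup.normalClosure_le_normal (Set.singleton_subset_iff.2 ?_)
        refine mem_comap.2 (mem_centralizer_iff.2 ?_)
        rintro _ ⟨x, hx, rfl⟩
        rw [← map_mul, ← map_mul, eq_comm, ← mul_inv_eq_one, ← map_inv, ← map_mul,
          QuotientGroup.mk'_apply, QuotientGroup.eq_one_iff,
          show z * x * (x * z)⁻¹ = z * x * z⁻¹ * x⁻¹ by group]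
        exact hcen x hx
      have hXeven : Even (Nat.card X) := by
        rw [← Nat.not_odd_iff_even]
        intro hodd
        exact not_le_of_gt hOX (Cfsg.Lib.Components.le_pPrimeCore (Nat.coprime_two_right.2 hodd))
      obtain ⟨w₀, hw₀X, hw₀⟩ := exists_involution_of_even hXeven
      obtain ⟨R, hR⟩ := (IsPGroup.of_card (n := 1) (show Nat.card (zpowers w₀) = 2 ^ 1 by
        rw [Nat.card_zpowers, hw₀, pow_one])).exists_le_sylow
      obtain ⟨k, hk⟩ := MulAction.exists_smul_eq G R S
      set w := k * w₀ * k⁻¹ with hw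
      have hwS : w ∈ S := by
        rw [← hk]; exact ⟨w₀, hR (mem_zpowers w₀), rfl⟩
      have hwX : w ∈ X := hXn.conj_mem w₀ hw₀X k
      have hw2 : orderOf w = 2 := by rw [hw, orderOf_conj', hw₀]
      -- every element is in `O C(w)`
      have hsup : ∀ g : G, ∃ o ∈ O ⊔ zpowers w, o⁻¹ * g ∈ centralizer ({w} : Set G) := by
        intro g
        have hg : g * w * g⁻¹ * w⁻¹ ∈ O := by
          have h1 : g ∈ Z := hZ ▸ mem_top g
          have h2 := mem_centralizer_iff.1 (mem_comap.1 h1) (QuotientGroup.mk' O w) ⟨w, hwX, rfl⟩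
          rw [← map_mul, ← map_mul, eq_comm, ← mul_inv_eq_one, ← map_inv, ← map_mul,
            QuotientGroup.mk'_apply, QuotientGroup.eq_one_iff] at h2
          rwa [show g * w * (w * g)⁻¹ = g * w * g⁻¹ * w⁻¹ by group] at h2
        have hgw2 : orderOf (g * w * g⁻¹) = 2 := by rw [orderOf_conj', hw2]
        have hmem : g * w * g⁻¹ * w ∈ O := by rwa [inv_of_order_two hw2] at hg
        obtain ⟨d, hd, hde⟩ := conj_of_odd hw2 hgw2 (hOodd.of_dvd_nat (Subgroup.orderOf_dvd_natCard O (by
          rw [← inv_mem_iff, mul_inv_rev, inv_of_order_two hw2, inv_of_order_two hgw2]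
          exact hmem)))
        refine ⟨d, (closure_le _).2 ?_ hd, ?_⟩
        · rintro x (rfl | hx)
          · exact mem_sup_right (mem_zpowers _)
          · rw [Set.mem_singleton_iff] at hx
            rw [hx, show g * w * g⁻¹ = g * w * g⁻¹ * w⁻¹ * w by group]
            exact mul_mem (mem_sup_left hg) (mem_sup_right (mem_zpowers _))
        · rw [mem_centralizer_singleton_iff]
          calc d⁻¹ * g * w = d⁻¹ * (g * w * g⁻¹) * g := by group
            _ = d⁻¹ * (d * w * d⁻¹) * g := by rw [hde]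
            _ = w * (d⁻¹ * g) := by group
      have hwH : w ∈ H := hSH hwS
      have hC : ¬ centralizer ({w} : Set G) ≤ H := fun h => W.ne (eq_top_iff.2 fun g _ => by
        obtain ⟨o, ho, hog⟩ := hsup g
        have := mul_mem ((sup_le hOH (zpowers_le.2 hwH) : O ⊔ zpowers w ≤ H) ho) (h hog)
        rwa [mul_inv_cancel_left] at this)
      have hwz : Commute w z := hS w hwS
      set K := localGen z w with hKdef
      have hLn : (O ⊔ K).Normal := by
        refine ⟨fun x hx g => ?_⟩
        have hnorm : ∀ c : G, c ∈ O ⊔ zpowers w ∨ c ∈ centralizer ({w} : Set G) →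
            ∀ x ∈ O ⊔ K, c * x * c⁻¹ ∈ O ⊔ K := by
          intro c hc x hx
          have hle : O ⊔ K ≤ (O ⊔ K).comap (MulAut.conj c).toMonoidHom := by
            refine sup_le (fun r hr => mem_sup_left (Subgroup.Normal.conj_mem inferInstance r hr c))
              ((closure_le _).2 fun y hy => ?_)
            show c * y * c⁻¹ ∈ O ⊔ K
            rcases hc with hc | hc
            · rw [← SetLike.mem_coe, normal_mul] at hc
              obtain ⟨o, ho, e, he, rfl⟩ := hc
              obtain ⟨m, rfl⟩ := mem_zpowers_iff.1 he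
              rw [show o * w ^ m * y * (o * w ^ m)⁻¹ = o * (w ^ m * y * (w ^ m)⁻¹) * o⁻¹ by group,
                ((show Commute y w from hy.2).zpow_right m).eq.symm, mul_inv_cancel_right,
                show o * y * o⁻¹ = o * (y * o⁻¹ * y⁻¹) * y by group]
              exact mul_mem (mem_sup_left (mul_mem ho (Subgroup.Normal.conj_mem inferInstance _ (inv_mem ho) y)))
                (mem_sup_right (subset_closure hy))
            · exact mem_sup_right (subset_closure ⟨hy.1.trans (isConj_iff.2 ⟨c, rfl⟩),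
                (((show Commute c w from mem_centralizer_singleton_iff.1 hc).mul_left hy.2).mul_left
                  (show Commute c w from mem_centralizer_singleton_iff.1 hc).inv_left).eq⟩)
          exact hle hx
        obtain ⟨o, ho, hog⟩ := hsup g
        rw [show g * x * g⁻¹ = o * ((o⁻¹ * g) * x * (o⁻¹ * g)⁻¹) * o⁻¹ by group]
        exact hnorm o (Or.inl ho) _ (hnorm _ (Or.inr hog) x hx)
      have htop : O ⊔ K = ⊤ := eq_top_iff.2 (hN ▸ Subgroup.normalClosure_le_normal
        (Set.singleton_subset_iff.2 (mem_sup_right (mem_localGen_self hwz.eq))))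
      have hmem : i ∈ ((O ⊔ K : Subgroup G) : Set G) := by rw [htop]; exact Set.mem_univ i
      rw [normal_mul] at hmem
      obtain ⟨o, ho, k', hk', rfl⟩ := hmem
      -- an involution of `K` in the coset
      have hk2 : k' * k' ∈ O := by
        have h1 : QuotientGroup.mk' O (o * k') * QuotientGroup.mk' O (o * k') = 1 := by
          rw [← map_mul, sq_of_order_two hi, map_one]
        rw [map_mul, show QuotientGroup.mk' O o = 1 from (QuotientGroup.eq_one_iff o).2 ho, one_mul,
          ← map_mul] at h1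
        exact (QuotientGroup.eq_one_iff _).1 h1
      obtain ⟨m, hm⟩ := hOodd.of_dvd_nat (Subgroup.orderOf_dvd_natCard O hk2)
      set j := k' ^ (2 * m + 1) with hj
      have hjj : j * j = 1 := by
        rw [hj, ← (Commute.refl k').mul_pow, ← hm, pow_orderOf_eq_one]
      have hjO : j * k'⁻¹ ∈ O := by
        rw [hj, pow_succ, mul_inv_cancel_right, pow_mul, sq]
        exact pow_mem hk2 m
      have hio : o * k' * j ∈ O := by
        rw [show o * k' * j = o * (k' * (j * k'⁻¹) * k'⁻¹) * (k' * k') by group]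
        exact mul_mem (mul_mem ho (Subgroup.Normal.conj_mem inferInstance _ hjO k')) hk2
      have hj2 : orderOf j = 2 := order_two_of_mul_self hjj fun h => by
        rw [h, mul_one] at hio
        have := hOodd.of_dvd_nat (Subgroup.orderOf_dvd_natCard O hio)
        rw [hi] at this
        exact absurd this (by decide)
      obtain ⟨q, -, hq⟩ := W.isConj_of_mem hL hw2 hwz.eq hC hj2 (pow_mem hk' _)
      exact (isConj_iff.2 ⟨q, hq⟩).trans (isConj_of_mod hOodd hi hj2 hio).symm
    · -- a commuting conjugate under `X`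
      exfalso
      set Y := X ⊔ zpowers z with hY
      have hzY : z ∈ Y := mem_sup_right (mem_zpowers z)
      have hmemY : ∀ y ∈ Y, ∃ x ∈ X, ∃ m : ℤ, y = x * z ^ m := fun y hy => by
        have hy' : y ∈ ((X ⊔ zpowers z : Subgroup G) : Set G) := hy
        rw [normal_mul] at hy'
        obtain ⟨x, hx, w, hw, rfl⟩ := hy'
        obtain ⟨m, rfl⟩ := mem_zpowers_iff.1 hw
        exact ⟨x, hx, m, rfl⟩
      obtain ⟨x, hx, hcx, hnex⟩ : ∃ x ∈ X, Commute z (x * z * x⁻¹) ∧ x * z * x⁻¹ ≠ z := by
        by_contra hno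
        push Not at hno
        refine hcen fun x hx => ?_
        have hzi : Cfsg.IsIsolatedInvolution (⟨z, hzY⟩ : Y) := ⟨by rw [Subgroup.orderOf_mk, W.two],
          fun g hg => by
            obtain ⟨x', hx', m, hgm⟩ := hmemY g g.2
            have e : (g : G) * z * (g : G)⁻¹ = x' * z * x'⁻¹ := by
              rw [hgm, show x' * z ^ m * z * (x' * z ^ m)⁻¹ = x' * (z ^ m * z * (z ^ m)⁻¹) * x'⁻¹ by group,
                ((Commute.refl z).zpow_left m).eq, mul_inv_cancel_right]
            refine Subtype.ext ?_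
            show (g : G) * z * (g : G)⁻¹ = z
            rw [e]
            refine hno x' hx' ?_
            rw [← e]
            exact congrArg Subtype.val hg⟩
        have h1 := Cfsg.Lib.ZStarApps.zstarProp hzi ⟨x, mem_sup_left hx⟩
        -- the odd core of `Y` meets `X` in `O`
        haveI : (Cfsg.oddCore Y).Normal := inferInstance
        set P := ((Cfsg.oddCore Y).map Y.subtype ⊓ X).subgroupOf X with hP
        haveI : P.Normal := ⟨fun p hp q => by
          obtain ⟨⟨y, hy, hye⟩, hpX⟩ := mem_inf.1 (mem_subgroupOf.1 hp)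
          refine mem_subgroupOf.2 (mem_inf.2 ⟨⟨⟨q, mem_sup_left q.2⟩ * y * ⟨q, mem_sup_left q.2⟩⁻¹,
            Subgroup.Normal.conj_mem inferInstance y hy _, ?_⟩, ?_⟩)
          · show (q : G) * (y : G) * (q : G)⁻¹ = _
            rw [show (y : G) = p from hye]; rfl
          · exact SetLike.coe_mem _⟩
        have hPodd : (Nat.card P).Coprime 2 := Nat.coprime_two_right.2 (by
          refine Odd.of_dvd_nat (Cfsg.Lib.ZStarApps.odd_card_pPrimeCore (G := Y)) ?_
          rw [hP, Nat.card_congr (subgroupOfEquivOfLe inf_le_right).toEquiv,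
            ← card_map_of_injective Y.subtype_injective (K := Cfsg.pPrimeCore 2 Y)]
          exact card_dvd_of_le inf_le_left)
        haveI : (Cfsg.oddCore X).Characteristic := Cfsg.Lib.Components.pPrimeCore_characteristic
        haveI hOXn : ((Cfsg.oddCore X).map X.subtype).Normal :=
          ConjAct.normal_of_characteristic_of_normal
        have hle : (Cfsg.oddCore X).map X.subtype ≤ O := Cfsg.Lib.Components.le_pPrimeCore (by
          rw [card_map_of_injective X.subtype_injective]
          exact Nat.coprime_two_right.2 Cfsg.Lib.ZStarApps.odd_card_pPrimeCore)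
        refine hle ⟨⟨_, mul_mem (hXn.conj_mem x hx z) (inv_mem hx)⟩,
          Cfsg.Lib.Components.le_pPrimeCore hPodd (mem_subgroupOf.2 (mem_inf.2 ⟨⟨_, h1, ?_⟩, ?_⟩)), rfl⟩
        · rfl
        · exact mul_mem (hXn.conj_mem x hx z) (inv_mem hx)
      set y := x * z * x⁻¹ with hy
      have hzyX : z * y ∈ X := by
        rw [hy, show z * (x * z * x⁻¹) = z * x * z⁻¹ * (z * z) * x⁻¹ by group, sq_of_order_two W.two, mul_one]
        exact mul_mem (hXn.conj_mem x hx z) (inv_mem hx)
      have hy2 : orderOf y = 2 := by rw [hy, orderOf_conj', W.two]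
      have hzy2 : orderOf (z * y) = 2 := order_two_mul W.two hy2 hcx hnex
      by_cases hYtop : Y = ⊤
      · exact W.false_of_index_two hL X hzX hYtop hcx hnex hzyX
      have hYH : ¬ Y ≤ H := fun h => W.ne (eq_top_iff.2 fun g _ =>
        W.single hzy2 (W.centralizer_mul_le hL x hcx hnex) (h (mem_sup_left (by
          have := hXn.conj_mem _ hzyX g⁻¹
          rwa [inv_inv] at this))))
      have hSY : (S : Subgroup G) ≤ normalizer (Y : Set G) := fun s hs =>
        mem_normalizer_of_maps_to fun q hq => by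
          have hle : Y ≤ Y.comap (MulAut.conj s).toMonoidHom := sup_le
            (fun r hr => mem_sup_left (hXn.conj_mem r hr s)) (zpowers_le.2 (by
              show s * z * s⁻¹ ∈ Y
              rw [(hS s hs).eq, mul_inv_cancel_right]; exact hzY))
          exact hle hq
      obtain ⟨W', hL'⟩ := W.restrict hL Y hzY S hzS hS hSY hYH
      have hzc : (⟨z, hzY⟩ : Y) ∈ Subgroup.normalClosure ({(⟨z, hzY⟩ : Y)} : Set Y) :=
        subset_normalClosure (Set.mem_singleton _)
      have hyc : (⟨x, mem_sup_left hx⟩ : Y) * ⟨z, hzY⟩ * ⟨x, mem_sup_left hx⟩⁻¹ ∈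
          Subgroup.normalClosure ({(⟨z, hzY⟩ : Y)} : Set Y) :=
        Subgroup.Normal.conj_mem inferInstance _ hzc _
      have h1 := ih _ (hlt Y hYtop) rfl ((hlt Y hYtop).le.trans hnm) (H.subgroupOf Y) ⟨z, hzY⟩ W' hL' _ (mul_mem hzc hyc)
        (by rw [← Subgroup.orderOf_coe]; exact hzy2)
      obtain ⟨q, hq⟩ := isConj_iff.1 h1
      have hq' : (q : G) * z * (q : G)⁻¹ = z * y := congrArg Subtype.val hq
      have := hXn.conj_mem _ hzyX (q : G)⁻¹
      rw [← hq', show (q : G)⁻¹ * ((q : G) * z * (q : G)⁻¹) * (q : G)⁻¹⁻¹ = z by group] at this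
      exact hzX this
  · -- the quotient by the odd core is simple
    push Not at hX
    set π := QuotientGroup.mk' O with hπ
    haveI : Nontrivial (G ⧸ O) := ⟨⟨π z, 1, fun h => hzO ((QuotientGroup.eq_one_iff z).1 h)⟩⟩
    haveI : IsSimpleGroup (G ⧸ O) := ⟨fun Q hQ => by
      have hle : O ≤ Q.comap π := fun r hr => by
        rw [mem_comap, show π r = 1 from (QuotientGroup.eq_one_iff r).2 hr]; exact one_mem Q
      by_cases h : O = Q.comap π
      · left
        refine comap_injective (QuotientGroup.mk'_surjective O) ?_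
        rw [← h, MonoidHom.comap_bot, QuotientGroup.ker_mk']
      · right
        refine comap_injective (QuotientGroup.mk'_surjective O) ?_
        rw [hX _ (hQ.comap π) (lt_of_le_of_ne hle h), comap_top]⟩
    have hπH : ∀ g : G, π g ∈ H.map π → g ∈ H := fun g hg => by
      obtain ⟨h, hh, he⟩ := hg
      have := hOH ((QuotientGroup.eq_one_iff (h⁻¹ * g)).1 (by
        rw [← QuotientGroup.mk'_apply, map_mul, map_inv, he, inv_mul_cancel]))
      simpa using mul_mem hh this
    have hπ2 : orderOf (π z) = 2 := order_two_of_mul_self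
      (by rw [← map_mul, sq_of_order_two W.two, map_one]) fun h => hzO ((QuotientGroup.eq_one_iff z).1 h)
    have W' : Pointed (H.map π) (π z) := by
      refine ⟨hπ2, ⟨S.mapSurjective (QuotientGroup.mk'_surjective O), ⟨z, hzS, rfl⟩, ?_⟩,
        mem_map_of_mem _ W.mem, fun h => W.ne (eq_top_iff.2 fun g _ => hπH g (h ▸ mem_top _)), fun g hg => ?_⟩
      · rintro _ ⟨s, hs, rfl⟩
        exact (hS s hs).map π
      · obtain ⟨g, rfl⟩ := QuotientGroup.mk'_surjective O g
        exact mem_map_of_mem _ (W.self g (hπH _ (by rwa [map_mul, map_mul, map_inv])))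
    have hse : Cfsg.IsStronglyEmbedded (H.map π) := W'.embedded_of_upTo crit
      ((Nat.le_of_dvd Nat.card_pos (Subgroup.card_quotient_dvd_card O)).trans (hn.le.trans hnm)) fun g hcom hne => by
      obtain ⟨g, rfl⟩ := QuotientGroup.mk'_surjective O g
      rw [← map_inv, ← map_mul, ← map_mul] at hcom hne ⊢
      set y := g * z * g⁻¹ with hy
      -- a commuting lift
      set C := (centralizer ({π z} : Set (G ⧸ O))).comap π with hC
      have hyC : y ∈ C := mem_comap.2 (mem_centralizer_singleton_iff.2 hcom.eq.symm)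
      have hSC : (S : Subgroup G) ≤ C := fun s hs =>
        mem_comap.2 (mem_centralizer_singleton_iff.2 ((hS s hs).map π).eq)
      have hp : IsPGroup 2 (zpowers (⟨y, hyC⟩ : C)) := IsPGroup.of_card (n := 1) (by
        rw [Nat.card_zpowers, Subgroup.orderOf_mk, hy, orderOf_conj', W.two, pow_one])
      obtain ⟨R, hR⟩ := hp.exists_le_sylow
      obtain ⟨k, rfl⟩ := MulAction.exists_smul_eq C (S.subtype hSC) R
      obtain ⟨s, hs, hse⟩ := hR (mem_zpowers _)
      have hks : (k : G) * (s : G) * (k : G)⁻¹ = y := congrArg Subtype.val hse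
      have hkz : π ((k : G) * z * (k : G)⁻¹) = π z := by
        rw [map_mul, map_mul, map_inv, mem_centralizer_singleton_iff.1 (mem_comap.1 k.2), mul_inv_cancel_right]
      have hzk : z * ((k : G) * z * (k : G)⁻¹) ∈ O := by
        refine (QuotientGroup.eq_one_iff _).1 ?_
        rw [← QuotientGroup.mk'_apply, map_mul, hkz, ← map_mul, sq_of_order_two W.two, map_one]
      obtain ⟨d, hd, hdz⟩ := conj_of_odd W.two (by rw [orderOf_conj', W.two])
        (hOodd.of_dvd_nat (Subgroup.orderOf_dvd_natCard O hzk))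
      have hdπ : ∀ r : G, π (d⁻¹ * r * d) = (π d)⁻¹ * π r * π d := fun r => by
        rw [map_mul, map_mul, map_inv]
      have hdc : Commute (π d) (π y) := by
        have hle : Subgroup.closure ({z, (k : G) * z * (k : G)⁻¹} : Set G) ≤
            (centralizer ({π y} : Set (G ⧸ O))).comap π := (closure_le _).2 (by
          rintro r (rfl | hr)
          · exact mem_comap.2 (mem_centralizer_singleton_iff.2 hcom.eq)
          · rw [Set.mem_singleton_iff] at hr
            refine mem_comap.2 (mem_centralizer_singleton_iff.2 ?_)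
            rw [hr, hkz]; exact hcom.eq)
        exact mem_centralizer_singleton_iff.1 (mem_comap.1 (hle hd))
      set y' := d⁻¹ * y * d with hy'
      have hyπ : π y' = π y := by
        rw [hdπ, mul_assoc, ← hdc.eq, inv_mul_cancel_left]
      have hcy : Commute z y' := by
        have h1 : Commute ((k : G) * z * (k : G)⁻¹) y := by
          rw [← hks]; exact (hS (s : G) hs).symm.map (MulAut.conj (k : G)).toMonoidHom
        rw [← hdz] at h1
        have h2 := h1.map (MulAut.conj d⁻¹).toMonoidHom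
        simpa [hy', mul_assoc] using h2
      have hy'g : d⁻¹ * g * z * (d⁻¹ * g)⁻¹ = y' := by rw [hy', hy]; group
      have hne' : y' ≠ z := fun h => hne (by rw [← hyπ, h])
      have h3 : centralizer ({z * y'} : Set G) ≤ H := by
        have := W.centralizer_mul_le hL (d⁻¹ * g) (by rw [hy'g]; exact hcy) (by rw [hy'g]; exact hne')
        rwa [hy'g] at this
      set u := z * y' with hu
      have hu2 : orderOf u = 2 := order_two_mul W.two
        (by rw [← hy'g, orderOf_conj', W.two]) hcy hne'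
      have huH : u ∈ H := mul_mem W.mem (W.centralizer_le (mem_centralizer_singleton_iff.2 hcy.eq.symm))
      intro c hc
      obtain ⟨c, rfl⟩ := QuotientGroup.mk'_surjective O c
      refine mem_map_of_mem _ ?_
      have hcu : u * (c * u * c⁻¹) ∈ O := by
        refine (QuotientGroup.eq_one_iff _).1 ?_
        have hπu : π u = π z * π y := by rw [hu, map_mul, hyπ]
        show π (u * (c * u * c⁻¹)) = 1
        rw [map_mul π u, map_mul π (c * u), map_mul π c, map_inv π c, hπu,
          mem_centralizer_singleton_iff.1 hc, mul_inv_cancel_right, ← hπu, ← map_mul, sq_of_order_two hu2, map_one]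
      obtain ⟨e, he, heu⟩ := conj_of_odd hu2 (by rw [orderOf_conj', hu2])
        (hOodd.of_dvd_nat (Subgroup.orderOf_dvd_natCard O hcu))
      have heH : e ∈ H := (closure_le _).2 (by
        rintro r (rfl | hr)
        · exact huH
        · rw [Set.mem_singleton_iff] at hr
          rw [hr, show c * u * c⁻¹ = u⁻¹ * (u * (c * u * c⁻¹)) by group]
          exact mul_mem (inv_mem huH) (hOH hcu)) he
      have h4 := h3 (show e⁻¹ * c ∈ centralizer ({u} : Set G) from mem_centralizer_singleton_iff.2 (by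
        calc e⁻¹ * c * u = e⁻¹ * (c * u * c⁻¹) * c := by group
          _ = e⁻¹ * (e * u * e⁻¹) * c := by rw [heu]
          _ = u * (e⁻¹ * c) := by group))
      simpa using mul_mem heH h4
    have hiO : i ∉ O := fun h => by
      have := hOodd.of_dvd_nat (Subgroup.orderOf_dvd_natCard O h)
      rw [hi] at this
      exact absurd this (by decide)
    obtain ⟨g, hg⟩ := isConj_iff.1 (all_conj hse hπ2 (b := π i) (order_two_of_mul_self
      (by rw [← map_mul, sq_of_order_two hi, map_one]) fun h => hiO ((QuotientGroup.eq_one_iff i).1 h)))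
    obtain ⟨g, rfl⟩ := QuotientGroup.mk'_surjective O g
    refine (isConj_iff.2 ⟨g, rfl⟩ : IsConj z (g * z * g⁻¹)).trans (isConj_of_mod hOodd ?_ hi ?_)
    · rw [orderOf_conj', W.two]
    · refine (QuotientGroup.eq_one_iff _).1 ?_
      rw [← QuotientGroup.mk'_apply, map_mul, map_mul, map_mul, map_inv, hg, ← map_mul, sq_of_order_two hi,
        map_one]

theorem class_of_crit (crit : CriterionProp.{u}) (n : ℕ) {G : Type u} [Group G] [Finite G]
    (hn : Nat.card G = n) (H : Subgroup G) (z : G) (W : Pointed H z) (hL : LocalEmbedded H z) : ClassProp H z :=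
  class_of_upTo (criterionUpTo_of crit n) n hn le_rfl H z W hL

/-- the class property gives the strongly embedded subgroup of the normal closure -/
theorem Pointed.embedded_of_classProp (W : Pointed H z) (hC : ClassProp H z) :
    Cfsg.IsStronglyEmbedded (H.subgroupOf (Subgroup.normalClosure ({z} : Set G))) := by
  set N := Subgroup.normalClosure ({z} : Set G) with hN
  have hzN : z ∈ N := subset_normalClosure (Set.mem_singleton z)
  refine ⟨fun h => W.ne (eq_top_iff.2 fun g _ => W.self g ?_), ?_, fun g hg => ?_⟩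
  · exact subgroupOf_eq_top.1 h (Subgroup.Normal.conj_mem inferInstance z hzN g)
  · exact even_iff_two_dvd.2 ((show orderOf (⟨z, hzN⟩ : N) = 2 by rw [Subgroup.orderOf_mk, W.two]) ▸
      Subgroup.orderOf_dvd_natCard _ (mem_subgroupOf.2 W.mem))
  · rw [← Nat.not_even_iff_odd]
    intro hev
    obtain ⟨t, ht, ht2⟩ := exists_involution_of_even hev
    obtain ⟨ht1, y, hy, hye⟩ := mem_inf.1 ht
    obtain ⟨k, hk⟩ := isConj_iff.1 (hC t t.2 (by rw [Subgroup.orderOf_coe, ht2]))
    have hkH : k ∈ H := W.self k (by rw [hk]; exact ht1)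
    have hye' : (g : G) * (y : G) * (g : G)⁻¹ = t := congrArg Subtype.val hye
    have hy2 : (g : G)⁻¹ * k * z * ((g : G)⁻¹ * k)⁻¹ ∈ H := by
      rw [← conj_conj z k (g : G)⁻¹, hk, ← hye']
      convert mem_subgroupOf.1 hy using 1
      group
    exact hg (mem_subgroupOf.2 (inv_mem_iff.1 ((mul_mem_cancel_right hkH).1 (W.self _ hy2))))

/-- ROW 1913 from the criterion -/
theorem general_of_crit (crit : CriterionProp.{u}) (P : Sylow 2 G) (z : G) (hz2 : orderOf z = 2)
    (hzP : z ∈ (Subgroup.center ↥(P : Subgroup G)).map (P : Subgroup G).subtype)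
    (H : Subgroup G) (hH : H ≠ ⊤) (hi : ∀ g : G, z ∈ H.map (MulAut.conj g).toMonoidHom ↔ g ∈ H)
    (hii : ∀ u : G, orderOf u = 2 → u * z = z * u → ¬ Subgroup.centralizer ({u} : Set G) ≤ H →
      Cfsg.IsStronglyEmbedded (H.subgroupOf (Subgroup.closure {x : G | IsConj z x ∧ x * u = u * x}))) :
    Cfsg.IsStronglyEmbedded (H.subgroupOf (Subgroup.normalClosure ({z} : Set G))) := by
  obtain ⟨w, hw, rfl⟩ := hzP
  have hzH : (w : G) ∈ H := by
    have := mem_conj_iff.1 ((hi 1).2 (one_mem H))
    simpa using this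
  have W : Pointed H (w : G) := ⟨hz2, ⟨P, w.2, fun s hs =>
    congrArg Subtype.val (mem_center_iff.1 hw ⟨s, hs⟩)⟩, hzH, hH, fun g hg => by
      have := (hi g⁻¹).1 (mem_conj_iff.2 (by rwa [inv_inv]))
      exact inv_mem_iff.1 this⟩
  exact W.embedded_of_classProp (class_of_crit crit _ rfl H _ W hii)

end Cfsg.Lib.BenderSE.CritDep
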