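/-
Row 3245: if all maximal 2-local subgroups of a simple group are conjugate, one of them is strongly embedded.
-/
import Cfsg.Agent.BenderSE.Dependents.Rows
import Cfsg.Agent.GenDihedral.Maximal
import Cfsg.Agent.OddChar.PF.OddOrder
import Cfsg.Prelude.Def_CaseTheorems

set_option autoImplicit false
set_option linter.unusedSectionVars false
set_option linter.style.haveILetI false

namespace Cfsg.Lib.BenderSE.SingleClass

open Subgroup Cfsg.Lib.InvolCalc Cfsg.Lib.StrongEmb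
open scoped Pointwise

universe u

variable {G : Type u} [Group G] [Finite G]

theorem exists_maximal_local {L : Subgroup G} (hL : Cfsg.IsTwoLocal L) :
    ∃ M : Subgroup G, Cfsg.IsMaximalTwoLocal M ∧ L ≤ M := by
  obtain ⟨M, ⟨hM, hLM⟩, hmax⟩ :=
    (Set.toFinite {N : Subgroup G | Cfsg.IsTwoLocal N ∧ L ≤ N}).exists_maximal ⟨L, hL, le_rfl⟩
  exact ⟨M, ⟨hM, fun N hN hMN => le_antisymm (hmax ⟨hN, hLM.trans hMN⟩ hMN) hMN⟩, hLM⟩

theorem smul_sylow_coe (g : G) (R : Sylow 2 G) :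
    ((g • R : Sylow 2 G) : Subgroup G) = (R : Subgroup G).map (MulAut.conj g).toMonoidHom := rfl

/-- a 2-subgroup of `M` lies in an `M`-conjugate of `S` -/
theorem exists_smul_ge {M : Subgroup G} (S : Sylow 2 G) (hSM : (S : Subgroup G) ≤ M) {D : Subgroup G}
    (hD : IsPGroup 2 D) (hDM : D ≤ M) :
    ∃ m ∈ M, D ≤ ((m • S : Sylow 2 G) : Subgroup G) ∧ ((m • S : Sylow 2 G) : Subgroup G) ≤ M := by
  haveI : Fact (Nat.Prime 2) := ⟨Nat.prime_two⟩
  obtain ⟨R, hR⟩ := (hD.comap_subtype (K := M)).exists_le_sylow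
  obtain ⟨m, rfl⟩ := MulAction.exists_smul_eq M (S.subtype hSM) R
  refine ⟨m, m.2, fun x hx => ?_, ?_⟩
  · obtain ⟨s, hs, hse⟩ := hR (show (⟨x, hDM hx⟩ : M) ∈ D.subgroupOf M from hx)
    exact ⟨s, hs, congrArg Subtype.val hse⟩
  · rintro _ ⟨x, hx, rfl⟩
    exact mul_mem (mul_mem m.2 (hSM hx)) (inv_mem m.2)

/-- a Sylow 2-subgroup lies in only one conjugate of `M` -/
theorem mem_of_sylow {M : Subgroup G} (S : Sylow 2 G) (hSM : (S : Subgroup G) ≤ M)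
    (hNM : normalizer ((S : Subgroup G) : Set G) ≤ M) (R : Sylow 2 G) {g : G} (hRM : (R : Subgroup G) ≤ M)
    (hRg : (R : Subgroup G) ≤ M.map (MulAut.conj g).toMonoidHom) : g ∈ M := by
  haveI : Fact (Nat.Prime 2) := ⟨Nat.prime_two⟩
  obtain ⟨m, hm, hle, -⟩ := exists_smul_ge S hSM R.2 hRM
  have e1 : m • S = R := Sylow.ext (R.is_maximal' (m • S).2 hle)
  have hgM : ((g⁻¹ • R : Sylow 2 G) : Subgroup G) ≤ M := by
    rintro _ ⟨x, hx, rfl⟩
    obtain ⟨y, hy, rfl⟩ := hRg hx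
    simp [mul_assoc]
    exact hy
  obtain ⟨n, hn, hle', -⟩ := exists_smul_ge S hSM (g⁻¹ • R).2 hgM
  have e2 : n • S = g⁻¹ • R := Sylow.ext ((g⁻¹ • R).is_maximal' (n • S).2 hle')
  rw [← e1, smul_smul] at e2
  have h : (n⁻¹ * (g⁻¹ * m)) • S = S := by rw [mul_smul, ← e2, inv_smul_smul]
  have h' := hNM (Sylow.smul_eq_iff_mem_normalizer.1 h)
  have : g⁻¹ ∈ M := by
    have := mul_mem (mul_mem hn h') (inv_mem hm)
    simpa [mul_assoc] using this
  simpa using inv_mem this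

/-- THE STRONGLY EMBEDDED SUBGROUP -/
theorem exists_embedded [IsSimpleGroup G] (hna : ¬ IsMulCommutative G)
    (h1 : ∀ M M' : Subgroup G, Cfsg.IsMaximalTwoLocal M → Cfsg.IsMaximalTwoLocal M' →
      ∃ g : G, M' = M.map (MulAut.conj g).toMonoidHom) :
    ∃ M : Subgroup G, Cfsg.IsStronglyEmbedded M := by
  haveI : Fact (Nat.Prime 2) := ⟨Nat.prime_two⟩
  obtain ⟨S⟩ : Nonempty (Sylow 2 G) := inferInstance
  have heven : Even (Nat.card G) := by
    by_contra h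
    rw [Nat.not_even_iff_odd] at h
    have ho : Odd (Nat.card (⊤ : Subgroup G)) := by rwa [Subgroup.card_top]
    haveI := Cfsg.Agent.PF.isSolvable_of_odd (⊤ : Subgroup G) ho
    haveI : Group.IsSolvable G :=
      Group.isSolvable_of_surjective (f := (Subgroup.topEquiv : (⊤ : Subgroup G) ≃* G).toMonoidHom)
        Subgroup.topEquiv.surjective
    exact hna ⟨⟨fun a b => IsSimpleGroup.comm_iff_isSolvable.2 inferInstance a b⟩⟩
  have hS1 : (S : Subgroup G) ≠ ⊥ := S.ne_bot_of_dvd_card heven.two_dvd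
  obtain ⟨M, hMmax, hNM⟩ := exists_maximal_local (L := normalizer ((S : Subgroup G) : Set G)) ⟨S, S.2, hS1, rfl⟩
  have hSM : (S : Subgroup G) ≤ M := le_normalizer.trans hNM
  obtain ⟨⟨T, hT, hT1, hMT⟩, -⟩ := id hMmax
  refine ⟨M, fun htop => ?_, even_iff_two_dvd.2 ((dvd_trans ?_ (card_dvd_of_le hSM))), ?_⟩
  · haveI : T.Normal := normalizer_eq_top_iff.1 (hMT.symm.trans htop)
    rcases IsSimpleGroup.eq_bot_or_eq_top_of_normal T inferInstance with e | e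
    · exact hT1 e
    · haveI := ((e ▸ hT : IsPGroup 2 (⊤ : Subgroup G)).of_equiv topEquiv).isNilpotent
      exact hna ⟨⟨fun a b => IsSimpleGroup.comm_iff_isSolvable.2 inferInstance a b⟩⟩
  · obtain ⟨j, hj⟩ := IsPGroup.iff_card.1 S.2
    rw [hj]
    exact dvd_pow_self 2 fun e => hS1 (card_eq_one.1 (by rw [hj, e, pow_zero]))
  -- no 2-subgroup `≠ ⊥` in two conjugates
  intro g₀ hg₀
  rw [← Nat.not_even_iff_odd]
  intro hev
  obtain ⟨x, hx, hxo⟩ := exists_involution_of_even hev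
  obtain ⟨D, ⟨hD, hD1, hDM, g, hg, hDg⟩, hmax⟩ :=
    (Set.toFinite {D : Subgroup G | IsPGroup 2 D ∧ D ≠ ⊥ ∧ D ≤ M ∧
      ∃ g : G, g ∉ M ∧ D ≤ M.map (MulAut.conj g).toMonoidHom}).exists_maximal
      ⟨zpowers x, IsPGroup.of_card (n := 1) (by rw [pow_one, Nat.card_zpowers, hxo]),
        fun e => by rw [zpowers_eq_bot] at e; rw [e, orderOf_one] at hxo; omega,
        zpowers_le.2 hx.1, g₀, hg₀, zpowers_le.2 hx.2⟩
  -- Sylow subgroups above `D` on both sides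
  obtain ⟨m, hm, hD₁, hM₁⟩ := exists_smul_ge S hSM hD hDM
  have hDg' : D.map (MulAut.conj g⁻¹).toMonoidHom ≤ M := by
    rintro _ ⟨y, hy, rfl⟩
    obtain ⟨z, hz, rfl⟩ := hDg hy
    simp [mul_assoc]
    exact hz
  obtain ⟨n, hn, hD₂, hM₂⟩ := exists_smul_ge S hSM (hD.map _) hDg'
  set S₁ : Sylow 2 G := m • S
  set S₂ : Sylow 2 G := (g * n) • S
  have hD₂' : D ≤ (S₂ : Subgroup G) := by
    intro y hy
    obtain ⟨s, hs, hse⟩ := hD₂ ⟨y, hy, rfl⟩
    refine ⟨s, hs, ?_⟩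
    show g * n * s * (g * n)⁻¹ = y
    have h' : n * s * n⁻¹ = g⁻¹ * y * g⁻¹⁻¹ := hse
    calc g * n * s * (g * n)⁻¹ = g * (n * s * n⁻¹) * g⁻¹ := by group
      _ = g * (g⁻¹ * y * g⁻¹⁻¹) * g⁻¹ := by rw [h']
      _ = y := by group
  have hS₂g : (S₂ : Subgroup G) ≤ M.map (MulAut.conj g).toMonoidHom := by
    rintro _ ⟨s, hs, rfl⟩
    refine ⟨n * s * n⁻¹, mul_mem (mul_mem hn (hSM hs)) (inv_mem hn), ?_⟩
    show g * (n * s * n⁻¹) * g⁻¹ = g * n * s * (g * n)⁻¹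
    group
  have hlt₁ : D < (S₁ : Subgroup G) := lt_of_le_of_ne hD₁ fun e =>
    hg (mem_of_sylow S hSM hNM S₁ hM₁ (e ▸ hDg))
  have hlt₂ : D < (S₂ : Subgroup G) := lt_of_le_of_ne hD₂' fun e =>
    hg (mem_of_sylow S hSM hNM S₂ (e ▸ hDM) hS₂g)
  -- the normaliser of `D` lies in `M`
  have hup : ∀ E : Subgroup G, IsPGroup 2 E → D < E → E ≤ M → ∀ k : G,
      E ≤ M.map (MulAut.conj k).toMonoidHom → k ∈ M := by
    intro E hE hlt hEM k hEk
    by_contra hk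
    exact not_le_of_gt hlt (hmax ⟨hE, fun e => hD1 (le_bot_iff.1 (e ▸ hlt.le)), hEM, k, hk, hEk⟩ hlt.le)
  obtain ⟨M', hM'max, hNM'⟩ := exists_maximal_local (L := normalizer (D : Set G)) ⟨D, hD, hD1, rfl⟩
  obtain ⟨k, hk⟩ := h1 M M' hMmax hM'max
  have hkM : k ∈ M := hup _ (S₁.2.to_le inf_le_left) (Cfsg.Lib.GenDihedral.lt_inf_normalizer S₁.2 hlt₁)
    (inf_le_left.trans hM₁) k (inf_le_right.trans (hNM'.trans hk.le))
  have hND : normalizer (D : Set G) ≤ M := hNM'.trans (hk.le.trans (by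
    rintro _ ⟨y, hy, rfl⟩
    exact mul_mem (mul_mem hkM hy) (inv_mem hkM)))
  exact hg (hup _ (S₂.2.to_le inf_le_left) (Cfsg.Lib.GenDihedral.lt_inf_normalizer S₂.2 hlt₂)
    (inf_le_right.trans hND) g (inf_le_left.trans hS₂g))

/-- ROW 3245 from REG -/
theorem ident_of_single_class (reg : RegProp.{u}) [IsSimpleGroup G] (hna : ¬ IsMulCommutative G)
    (h1 : ∀ M M' : Subgroup G, Cfsg.IsMaximalTwoLocal M → Cfsg.IsMaximalTwoLocal M' →
      ∃ g : G, M' = M.map (MulAut.conj g).toMonoidHom) :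
    (∃ (F : Type) (_ : Field F) (_ : Fintype F) (n : ℕ), 2 ≤ n ∧ Fintype.card F = 2 ^ n ∧
        Nonempty (G ≃* Matrix.ProjectiveSpecialLinearGroup (Fin 2) F)) ∨
      Cfsg.Lie.IsoSuzuki G ∨
      (∃ (F : Type) (_ : Field F) (_ : Fintype F) (n : ℕ), 2 ≤ n ∧ Fintype.card F = (2 ^ n) ^ 2 ∧
        Nonempty (G ≃* Cfsg.PSU 3 F (2 ^ n))) := by
  obtain ⟨M, hM⟩ := exists_embedded hna h1
  have h2 := comm_of_nonab hM hna
  obtain ⟨Q, hQM, hQn, htr, hrg⟩ := reg G inferInstance M hM h2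
  rcases (simple_data hM h2 hQM hQn htr hrg).1 with ⟨F, iF, iF', ⟨n, hn, hF⟩, e⟩ | h | h
  · exact Or.inl ⟨F, iF, iF', n, hn, hF, e⟩
  · exact Or.inr (Or.inl h)
  · exact Or.inr (Or.inr h)

end Cfsg.Lib.BenderSE.SingleClass
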