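/-
No proper cover of a simple group with a strongly embedded subgroup has, in the preimage of that subgroup,
a normal subgroup avoiding the centre and covering all its involutions (row 1911, the cover step).
-/
import Cfsg.Agent.BenderSE.Dependents.Frame
import Cfsg.Agent.BenderSE.Dependents.Rows
import Cfsg.Agent.CpQuot.Base
import Cfsg.Agent.S2086
import Cfsg.Agent.S2089
import Cfsg.Agent.S2111
import Cfsg.Agent.Suz.Lie
import Cfsg.Agent.Suz.Group
import Cfsg.Agent.Classical.Misc.SmallPSL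

set_option autoImplicit false
set_option linter.style.haveILetI false
set_option linter.unusedSectionVars false

namespace Cfsg.Lib.BenderSE.CritDep

open Subgroup Cfsg.Lib.StrongEmb Cfsg.Lib.InvolCalc

universe u

/-- a group of order sixteen with a central subgroup `D` of order two and an automorphism of seven power
order without fixed point modulo `D` is commutative -/
theorem comm_of_sixteen {U : Type u} [Group U] [Finite U] (hU : Nat.card U = 16) (D : Subgroup U)
    (hD : D ≤ center U) (hD2 : Nat.card D = 2) (σ : MulAut U) (j : ℕ) (hσ : σ ^ 7 ^ j = 1)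
    (hσD : ∀ d ∈ D, σ d ∈ D) (hfix : ∀ x : U, σ x * x⁻¹ ∈ D → x ∈ D) : ∀ a b : U, a * b = b * a := by
  haveI : Fact (Nat.Prime 2) := ⟨Nat.prime_two⟩
  haveI : Fact (Nat.Prime 7) := ⟨by norm_num⟩
  haveI : D.Normal := ⟨fun d hd g => by
    rw [show g * d * g⁻¹ = d by rw [mem_center_iff.1 (hD hd) g, mul_inv_cancel_right]]; exact hd⟩
  -- invariant subgroups above `D`
  have hinv : ∀ C : Subgroup U, D ≤ C → (∀ x ∈ C, σ x ∈ C) → C = D ∨ C = ⊤ := by
    intro C hDC hC
    obtain ⟨k, hk, hkc⟩ := (Nat.dvd_prime_pow Nat.prime_two).1 (show Nat.card C ∣ 2 ^ 4 by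
      rw [show (2 : ℕ) ^ 4 = 16 from rfl, ← hU]; exact card_subgroup_dvd_card C)
    -- the orbits of `σ` on the cosets of `D` in `C`
    set Cq := C.map (QuotientGroup.mk' D) with hCq
    have hmap : D.map σ.toMonoidHom = D :=
      eq_of_le_of_card_ge (by rintro _ ⟨d, hd, rfl⟩; exact hσD d hd)
        (card_map_of_injective σ.injective).ge
    set τ : (U ⧸ D) ≃* (U ⧸ D) := QuotientGroup.congr D D σ hmap
    have hτ : ∀ x : U, τ (QuotientGroup.mk' D x) = QuotientGroup.mk' D (σ x) := fun x => rfl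
    have hτp : ∀ (n : ℕ) (x : U), (τ ^ n : MulAut (U ⧸ D)) (QuotientGroup.mk' D x) =
        QuotientGroup.mk' D ((σ ^ n : MulAut U) x) := by
      intro n
      induction n with
      | zero => intro x; rfl
      | succ n ih => intro x; rw [pow_succ, pow_succ, MulAut.mul_apply, MulAut.mul_apply, hτ, ih]
    have hτ7 : (τ : MulAut (U ⧸ D)) ^ 7 ^ j = 1 := by
      ext y
      obtain ⟨x, rfl⟩ := QuotientGroup.mk'_surjective D y
      rw [hτp, hσ]; rfl
    set A : Subgroup (MulAut (U ⧸ D)) := zpowers τ with hA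
    have hA7 : IsPGroup 7 A := by
      obtain ⟨i, -, hi⟩ := (Nat.dvd_prime_pow (by norm_num : Nat.Prime 7)).1
        (orderOf_dvd_of_pow_eq_one hτ7)
      exact IsPGroup.of_card (n := i) (by rw [Nat.card_zpowers, hi])
    have hCτ : ∀ (a : A) (y : U ⧸ D), y ∈ Cq → (a : MulAut (U ⧸ D)) y ∈ Cq := by
      intro a y hy
      obtain ⟨n, hn⟩ := (mem_powers_iff_mem_zpowers).2 a.2
      obtain ⟨x, hx, rfl⟩ := hy
      rw [← hn]
      show (τ ^ n : MulAut (U ⧸ D)) (QuotientGroup.mk' D x) ∈ Cq
      rw [hτp]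
      refine mem_map_of_mem _ ?_
      clear hn
      induction n with
      | zero => exact hx
      | succ n ih => rw [pow_succ', MulAut.mul_apply]; exact hC _ ih
    letI : MulAction A Cq :=
      { smul := fun a y => ⟨(a : MulAut (U ⧸ D)) y, hCτ a y y.2⟩
        one_smul := fun y => Subtype.ext rfl
        mul_smul := fun a b y => Subtype.ext rfl }
    have h1 := hA7.card_modEq_card_fixedPoints Cq
    have hfp : MulAction.fixedPoints A Cq = {1} := by
      ext y
      refine ⟨fun hy => ?_, fun hy a => ?_⟩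
      · obtain ⟨x, hx, hxy⟩ := y.2
        have h2 : τ (y : U ⧸ D) = y := congrArg Subtype.val (hy ⟨τ, mem_zpowers τ⟩)
        rw [← hxy, hτ] at h2
        refine Subtype.ext (show (y : U ⧸ D) = 1 from ?_)
        rw [← hxy]
        refine (QuotientGroup.eq_one_iff x).2 (hfix x ?_)
        have h3 : x⁻¹ * σ x ∈ D := QuotientGroup.eq.1 h2.symm
        have := (inferInstance : D.Normal).conj_mem _ h3 x
        rwa [mul_inv_cancel_left] at this
      · rw [Set.mem_singleton_iff] at hy
        subst hy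
        exact Subtype.ext (map_one (a : MulAut (U ⧸ D)))
    rw [hfp, Nat.card_unique (α := ({1} : Set Cq))] at h1
    have hcard : Nat.card Cq * 2 = Nat.card C := by
      have e := Subgroup.relIndex_mul_relIndex ⊥ D C bot_le hDC
      rw [relIndex_bot_left, relIndex_bot_left, hD2] at e
      have e2 : D.relIndex C = Nat.card Cq := by
        have := Subgroup.relIndex_ker C (QuotientGroup.mk' D)
        rwa [QuotientGroup.ker_mk'] at this
      rw [← e, e2, mul_comm]
    have hk' : k = 1 ∨ k = 4 := by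
      rw [hkc] at hcard
      have : k ≠ 0 := fun h => by rw [h] at hcard; omega
      rcases (show k = 1 ∨ k = 2 ∨ k = 3 ∨ k = 4 by omega) with h | h | h | h
      · exact Or.inl h
      · rw [show Nat.card Cq = 2 by rw [h] at hcard; norm_num at hcard; omega] at h1
        exact absurd h1 (by decide)
      · rw [show Nat.card Cq = 4 by rw [h] at hcard; norm_num at hcard; omega] at h1
        exact absurd h1 (by decide)
      · exact Or.inr h
    rcases hk' with h | h
    · exact Or.inl (eq_of_le_of_card_ge hDC (by rw [hkc, h, hD2, pow_one])).symm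
    · exact Or.inr (eq_top_of_card_eq _ (by rw [hkc, h, hU]; norm_num))
  -- commutators lie in `D`
  have hDcomm : ∀ a b : U, a * b * a⁻¹ * b⁻¹ ∈ D := by
    set C := (center (U ⧸ D)).comap (QuotientGroup.mk' D) with hC
    have hp : IsPGroup 2 (U ⧸ D) :=
      (IsPGroup.of_card (n := 4) (by rw [hU]; norm_num) : IsPGroup 2 U).to_quotient D
    haveI : Nontrivial (U ⧸ D) := by
      rw [← Finite.one_lt_card_iff_nontrivial]
      have := card_mul_index D
      rw [Subgroup.index_eq_card, hD2, hU] at this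
      omega
    haveI := hp.center_nontrivial
    have hCinv : ∀ x ∈ C, σ x ∈ C := fun x hx => by
      refine mem_comap.2 (mem_center_iff.2 fun y => ?_)
      obtain ⟨y, rfl⟩ := QuotientGroup.mk'_surjective D y
      obtain ⟨y', rfl⟩ := σ.surjective y
      have h2 := mem_center_iff.1 (mem_comap.1 hx) (QuotientGroup.mk' D y')
      rw [← map_mul, ← map_mul] at h2
      replace h2 := QuotientGroup.eq.1 h2
      rw [← map_mul, ← map_mul]
      refine QuotientGroup.eq.2 ?_
      have := hσD _ h2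
      show (σ (y' * x))⁻¹ * (σ x * σ y') ∈ D
      rw [map_mul σ y' x]
      rwa [map_mul, map_inv, map_mul, map_mul] at this
    rcases hinv C (fun d hd => by
        rw [hC, mem_comap, show QuotientGroup.mk' D d = 1 from (QuotientGroup.eq_one_iff d).2 hd]
        exact one_mem _) hCinv with h | h
    · exfalso
      obtain ⟨⟨c, hc⟩, hc1⟩ := exists_ne (1 : center (U ⧸ D))
      obtain ⟨x, rfl⟩ := QuotientGroup.mk'_surjective D c
      exact hc1 (Subtype.ext ((QuotientGroup.eq_one_iff x).2 (h ▸ (mem_comap.2 hc : x ∈ C))))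
    · intro a b
      have ha : QuotientGroup.mk' D a ∈ center (U ⧸ D) := mem_comap.1 (show a ∈ C from h.symm ▸ mem_top a)
      refine (QuotientGroup.eq_one_iff _).1 ?_
      show QuotientGroup.mk' D (a * b * a⁻¹ * b⁻¹) = 1
      rw [map_mul, map_mul, map_mul, map_inv, map_inv, ← mem_center_iff.1 ha _, mul_inv_cancel_right,
        mul_inv_cancel]
  rcases hinv (center U) hD (fun x hx => mem_center_iff.2 fun y => by
      obtain ⟨y', rfl⟩ := σ.surjective y
      rw [← map_mul, ← map_mul, mem_center_iff.1 hx]) with h | h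
  swap
  · exact fun a b => mem_center_iff.1 (h ▸ mem_top b : b ∈ center U) a
  by_contra hne
  push Not at hne
  obtain ⟨a, b, hab⟩ := hne
  -- a centraliser has index at most two
  have h2 : ∀ x : U, (centralizer ({x} : Set U)).index ≤ 2 := by
    intro x
    refine le_of_eq_of_le (Subgroup.index_eq_card _) (le_of_le_of_eq ?_ hD2)
    refine Nat.card_le_card_of_injective
      (fun q => (⟨q.out * x * q.out⁻¹ * x⁻¹, hDcomm q.out x⟩ : D)) fun p q h => ?_
    have e : p.out * x * p.out⁻¹ * x⁻¹ = q.out * x * q.out⁻¹ * x⁻¹ := congrArg Subtype.val h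
    rw [← p.out_eq, ← q.out_eq]
    refine Quotient.sound (QuotientGroup.leftRel_apply.2 (mem_centralizer_singleton_iff.2 ?_))
    have e' : p.out * x * p.out⁻¹ = q.out * x * q.out⁻¹ := mul_right_cancel e
    calc p.out⁻¹ * q.out * x = p.out⁻¹ * (q.out * x * q.out⁻¹) * q.out := by group
      _ = p.out⁻¹ * (p.out * x * p.out⁻¹) * q.out := by rw [e']
      _ = x * (p.out⁻¹ * q.out) := by group
  set I := centralizer ({a} : Set U) ⊓ centralizer ({b} : Set U)
  have hI : 4 ≤ Nat.card I := by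
    have h3 : I.index ≤ 4 := index_inf_le.trans (Nat.mul_le_mul (h2 a) (h2 b))
    have := card_mul_index I
    rw [hU] at this
    by_contra hlt
    push Not at hlt
    have : Nat.card I * I.index ≤ 3 * 4 := Nat.mul_le_mul (by omega) h3
    omega
  obtain ⟨c, hcI, hcD⟩ : ∃ c ∈ I, c ∉ D := by
    by_contra hc
    push Not at hc
    have := card_le_of_le (hc : I ≤ D)
    omega
  set K := centralizer ({c} : Set U) with hK
  have hKcard : 8 ≤ Nat.card K := by
    have := card_mul_index K
    rw [hU] at this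
    by_contra hlt
    push Not at hlt
    have : Nat.card K * K.index ≤ 7 * 2 := Nat.mul_le_mul (by omega) (h2 c)
    omega
  have hKtop : K ≠ ⊤ := fun ht => hcD (h ▸ mem_center_iff.2 fun y =>
    mem_centralizer_singleton_iff.1 (show y ∈ K from ht.symm ▸ mem_top y))
  have hK8 : Nat.card K = 8 := by
    obtain ⟨k, hk, hkc⟩ := (Nat.dvd_prime_pow Nat.prime_two).1 (show Nat.card K ∣ 2 ^ 4 from
      by rw [show (2 : ℕ) ^ 4 = 16 from rfl, ← hU]; exact card_subgroup_dvd_card K)
    have : k ≠ 4 := fun h4 => hKtop (eq_top_of_card_eq _ (by rw [hkc, h4, hU]; norm_num))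
    interval_cases k <;> omega
  have hZK : 4 ≤ Nat.card (center K) := by
    have hcc : c ∈ K := mem_centralizer_singleton_iff.2 rfl
    have hDK : D ≤ K := fun d hd => mem_centralizer_singleton_iff.2 (mem_center_iff.1 (hD hd) c).symm
    set E := (center K).map K.subtype
    have hDE : D < E := by
      refine SetLike.lt_iff_le_and_exists.2 ⟨fun d hd => mem_map.2 ⟨⟨d, hDK hd⟩, mem_center_iff.2 fun y =>
        Subtype.ext (mem_center_iff.1 (hD hd) y), rfl⟩, c, mem_map.2 ⟨⟨c, hcc⟩, mem_center_iff.2 fun y =>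
        Subtype.ext (mem_centralizer_singleton_iff.1 y.2), rfl⟩, hcD⟩
    have h3 : Nat.card D < Nat.card E := lt_of_not_ge fun hge => hDE.ne (eq_of_le_of_card_ge hDE.le hge)
    have h4 : Nat.card D ∣ Nat.card E := card_dvd_of_le hDE.le
    rw [card_map_of_injective K.subtype_injective, hD2] at h3 h4
    omega
  refine hab ?_
  have haK : a ∈ K := mem_centralizer_singleton_iff.2 (mem_centralizer_singleton_iff.1 (mem_inf.1 hcI).1).symm
  have hbK : b ∈ K := mem_centralizer_singleton_iff.2 (mem_centralizer_singleton_iff.1 (mem_inf.1 hcI).2).symm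
  have hcyc : IsCyclic (K ⧸ center K) := by
    have h5 := card_mul_index (center K)
    rw [Subgroup.index_eq_card, hK8] at h5
    have h6 : Nat.card (K ⧸ center K) ≤ 2 := by
      by_contra hlt
      push Not at hlt
      have : 4 * 3 ≤ Nat.card (center K) * Nat.card (K ⧸ center K) := Nat.mul_le_mul hZK hlt
      omega
    rcases Nat.lt_or_ge (Nat.card (K ⧸ center K)) 2 with h7 | h7
    · haveI : Subsingleton (K ⧸ center K) := Finite.card_le_one_iff_subsingleton.1 (by omega)
      exact isCyclic_of_subsingleton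
    · exact isCyclic_of_prime_card (p := 2) (by omega)
  haveI := hcyc
  exact congrArg Subtype.val
    (commutative_of_cyclic_center_quotient (QuotientGroup.mk' (center K)) (QuotientGroup.ker_mk' _).le ⟨a, haK⟩ ⟨b, hbK⟩)

theorem card_multiplicative_zmod' (n : ℕ) : Nat.card (Multiplicative (ZMod n)) = n := by
  rw [Nat.card_congr Multiplicative.toAdd, Nat.card_zmod]

/-- an odd multiplier of the central quotient allows no centre of two power order -/
theorem center_bot_of_multiplier {K : Type u} [Group K] [Finite K] (h : Cfsg.IsQuasisimple K)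
    (hZ : IsPGroup 2 (center K)) {S : Type*} [Group S] (e : K ⧸ center K ≃* S) {A : Type*} [CommGroup A]
    (hA : Cfsg.HasSchurMultiplier S A) (hm : ¬ 2 ∣ Nat.card A) : center K = ⊥ := by
  haveI : Finite S := Finite.of_equiv _ e.toEquiv
  obtain ⟨hσ, hker⟩ := Cfsg.Lib.CpQuot.isStemExtension_mk h (Cfsg.Lib.Components.qs_center_ne_top h) e
  have hd := Cfsg.Lib.CpQuot.card_ker_dvd hA hσ
  rw [hker] at hd
  have := Cfsg.Lib.CpQuot.card_dvd_pow Nat.prime_two hZ (k := 0) (m := Nat.card A) (by simpa using hd) hm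
  exact Subgroup.card_eq_one.1 (Nat.dvd_one.1 (by simpa using this))

/-- the data of the cover step -/
structure CoverData {X : Type u} [Group X] (HX R : Subgroup X) : Prop where
  qs : Cfsg.IsQuasisimple X
  two : IsPGroup 2 (center X)
  se : Cfsg.IsStronglyEmbedded (HX.map (QuotientGroup.mk' (center X)))
  zle : center X ≤ HX
  rle : R ≤ HX
  norm : HX ≤ normalizer (R : Set X)
  avoid : ∀ c ∈ center X, c ∈ R → c * c = 1 → c = 1
  cover : ∀ x ∈ HX, orderOf (QuotientGroup.mk' (center X) x) = 2 →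
    ∃ r ∈ R, QuotientGroup.mk' (center X) r = QuotientGroup.mk' (center X) x

variable {X : Type u} [Group X] [Finite X] {HX R : Subgroup X}

theorem CoverData.inf_eq_bot (C : CoverData HX R) {c : X} (hc : c ∈ center X) (hR : c ∈ R) : c = 1 := by
  obtain ⟨k, hk⟩ := C.two.exists_orderOf_eq_pow ⟨c, hc⟩
  rw [Subgroup.orderOf_mk] at hk
  by_contra hne
  have hk0 : k ≠ 0 := fun h => hne (orderOf_eq_one_iff.1 (by rw [hk, h, pow_zero]))
  have hd : c ^ 2 ^ (k - 1) * c ^ 2 ^ (k - 1) = 1 := by
    rw [← pow_add, ← two_mul, ← pow_succ', show k - 1 + 1 = k by omega, ← hk, pow_orderOf_eq_one]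
  have := C.avoid _ (pow_mem hc _) (pow_mem hR _) hd
  have hle := Nat.le_of_dvd (by positivity) (hk ▸ orderOf_dvd_of_pow_eq_one this)
  exact absurd hle (not_le.2 (Nat.pow_lt_pow_right one_lt_two (by omega)))

/-- transfer: the centre lies in every normal subgroup of a Sylow subgroup with abelian quotient -/
theorem center_le_of_derived (hperf : commutator X = ⊤) (hZ : IsPGroup 2 (center X)) (S : Sylow 2 X)
    (L : Subgroup (S : Subgroup X)) [L.Normal] (hL : ∀ a b : (S : Subgroup X), a * b * a⁻¹ * b⁻¹ ∈ L)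
    {c : X} (hc : c ∈ center X) (hcS : c ∈ (S : Subgroup X)) : (⟨c, hcS⟩ : (S : Subgroup X)) ∈ L := by
  haveI : Fact (Nat.Prime 2) := ⟨Nat.prime_two⟩
  let _ : CommGroup ((S : Subgroup X) ⧸ L) :=
    { (inferInstance : Group ((S : Subgroup X) ⧸ L)) with
      mul_comm := fun a b => by
        obtain ⟨a, rfl⟩ := QuotientGroup.mk'_surjective L a
        obtain ⟨b, rfl⟩ := QuotientGroup.mk'_surjective L b
        rw [← map_mul, ← map_mul, ← mul_inv_eq_one, ← map_inv, ← map_mul]
        refine (QuotientGroup.eq_one_iff _).2 ?_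
        rw [show a * b * (b * a)⁻¹ = a * b * a⁻¹ * b⁻¹ by group]
        exact hL a b }
  set φ := QuotientGroup.mk' L
  have key : ∀ (k : ℕ) (g₀ : X), g₀⁻¹ * c ^ k * g₀ ∈ (S : Subgroup X) → g₀⁻¹ * c ^ k * g₀ = c ^ k := by
    intro k g₀ _
    rw [mul_assoc, ← mem_center_iff.mp (pow_mem hc k) g₀, inv_mul_cancel_left]
  have h := MonoidHom.transfer_eq_pow φ c key
  have h1 : MonoidHom.transfer φ c = 1 := by
    have := Abelianization.commutator_subset_ker (MonoidHom.transfer φ)
    rw [hperf] at this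
    exact this (mem_top c)
  rw [h1] at h
  have h2 : φ ⟨c, hcS⟩ ^ (S : Subgroup X).index = 1 := by
    rw [← map_pow]
    exact h.symm
  obtain ⟨k, hk⟩ := hZ ⟨c, hc⟩
  have hk' : c ^ 2 ^ k = 1 := congrArg Subtype.val hk
  refine (QuotientGroup.eq_one_iff _).1 (show φ ⟨c, hcS⟩ = 1 from ?_)
  rw [← orderOf_eq_one_iff]
  refine Nat.eq_one_of_dvd_coprimes (Nat.Coprime.pow_left k ?_) (orderOf_dvd_of_pow_eq_one (show φ ⟨c, hcS⟩ ^ 2 ^ k = 1 from ?_))
    (orderOf_dvd_of_pow_eq_one h2)
  · exact (Nat.Prime.coprime_iff_not_dvd Nat.prime_two).mpr S.not_dvd_index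
  · rw [← map_pow, show (⟨c, hcS⟩ : (S : Subgroup X)) ^ 2 ^ k = 1 from Subtype.ext hk', map_one]

theorem padicValNat_sixty : (60 : ℕ).factorization 2 = 2 := by
  rw [Nat.factorization_def _ Nat.prime_two, show (60 : ℕ) = 2 ^ 2 * 15 from rfl,
    padicValNat.mul (by norm_num) (by norm_num), padicValNat.prime_pow, padicValNat.eq_zero_of_not_dvd (by norm_num)]

theorem padicValNat_szEight : (29120 : ℕ).factorization 2 = 6 := by
  rw [Nat.factorization_def _ Nat.prime_two, show (29120 : ℕ) = 2 ^ 6 * 455 from rfl,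
    padicValNat.mul (by norm_num) (by norm_num), padicValNat.prime_pow, padicValNat.eq_zero_of_not_dvd (by norm_num)]

/-- in a simple group with a strongly embedded subgroup, an exponent of the two part -/
theorem qcard_cases {k e : ℕ} (hk : 2 ≤ k) (he : e = 1 ∨ e = 2 ∨ e = 3) (hpow : (2 ^ k) ^ e = 64)
    (hd : 2 ^ k - 1 ∣ 29120) : e = 1 ∨ (k = 3 ∧ e = 2) := by
  have h6 : k * e = 6 := Nat.pow_right_injective (le_refl 2) (show 2 ^ (k * e) = 2 ^ 6 by
    rw [pow_mul, hpow])
  rcases he with rfl | rfl | rfl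
  · exact Or.inl rfl
  · exact Or.inr ⟨by omega, rfl⟩
  · exfalso
    obtain rfl : k = 2 := by omega
    norm_num at hd

set_option maxHeartbeats 1600000 in
theorem CoverData.center_eq_bot (reg : RegProp.{u}) (C : CoverData HX R) : center X = ⊥ := by
  haveI : Fact (Nat.Prime 2) := ⟨Nat.prime_two⟩
  haveI : Fact (Nat.Prime 7) := ⟨by norm_num⟩
  haveI := C.qs.2
  have hperf : commutator X = ⊤ := Group.isPerfect_def.1 C.qs.1
  have hna : ¬ IsMulCommutative (X ⧸ center X) := Cfsg.Lib.CpQuot.not_commutative C.qs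
  have hse := C.se
  obtain ⟨L', P, F⟩ := exists_frame reg ⟨hse, normalCore_eq_bot_of_simple hse, comm_of_nonab hse hna⟩
  set π := QuotientGroup.mk' (center X) with hπ
  set Hb := HX.map π with hHb
  have hlift : ∀ x : X, π x ∈ Hb → x ∈ HX := fun x hx => by
    obtain ⟨h, hh, he⟩ := hx
    have := mul_mem hh (C.zle (QuotientGroup.eq.1 he))
    rwa [mul_inv_cancel_left] at this
  have hL' : L' = ⊤ := by
    refine ((inferInstance : IsSimpleGroup (X ⧸ center X)).eq_bot_or_eq_top_of_normal L' F.normal).resolve_left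
      fun hb => ?_
    obtain ⟨i, hi⟩ := exists_involution_of_even hse.2.1
    have := hb ▸ F.invol i hi.2
    rw [mem_bot] at this
    rw [this, orderOf_one] at hi
    exact absurd hi.2 (by decide)
  let eTop : (X ⧸ center X) ≃* L' :=
    (Subgroup.topEquiv.symm).trans (MulEquiv.subgroupCongr hL'.symm)
  obtain ⟨SP, hSP⟩ := F.sylow
  -- the preimage of `P`
  have hS2 : IsPGroup 2 (P.comap π) := F.q2.comap_of_ker_isPGroup π (by rw [hπ, QuotientGroup.ker_mk']; exact C.two)
  set S : Sylow 2 X := hS2.toSylow (by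
    rw [index_comap_of_surjective _ (QuotientGroup.mk'_surjective _), ← hSP]; exact SP.not_dvd_index) with hSdef
  have hSmem : ∀ x : X, x ∈ (S : Subgroup X) ↔ π x ∈ P := fun x => by
    rw [hSdef, IsPGroup.toSylow_coe, mem_comap]
  have hSH : (S : Subgroup X) ≤ HX := fun x hx => hlift x (F.qle ((hSmem x).1 hx))
  have hcS : ∀ c ∈ center X, c ∈ (S : Subgroup X) := fun c hc => (hSmem c).2 (by
    rw [show π c = 1 from (QuotientGroup.eq_one_iff c).2 hc]; exact one_mem P)
  have hSn : ∀ h ∈ HX, ∀ x ∈ (S : Subgroup X), h * x * h⁻¹ ∈ (S : Subgroup X) := fun h hh x hx =>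
    (hSmem _).2 (by
      rw [map_mul, map_mul, map_inv]
      exact (mem_normalizer_iff.1 (F.qn (mem_map_of_mem π hh)) _).1 ((hSmem x).1 hx))
  set M := (R ⊓ (S : Subgroup X)).map π with hM
  have hMP : M ≤ P := by
    rintro _ ⟨x, hx, rfl⟩
    exact (hSmem x).1 (mem_inf.1 hx).2
  have hMinv : ∀ i, orderOf i = 2 → i ∈ Hb → i ∈ M := by
    intro i hi hiH
    obtain ⟨x, hx, rfl⟩ := hiH
    obtain ⟨r, hr, hrx⟩ := C.cover x hx hi
    exact ⟨r, mem_inf.2 ⟨hr, (hSmem r).2 (hrx ▸ (F.qinvol _ hi (mem_map_of_mem π hx)).1)⟩, hrx⟩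
  -- the full case
  have hfull : M = P → center X = ⊥ := by
    intro hMP'
    haveI : (R.subgroupOf (S : Subgroup X)).Normal := ⟨fun r hr s => mem_subgroupOf.2
      ((mem_normalizer_iff.1 (C.norm (hSH s.2)) _).1 (mem_subgroupOf.1 hr))⟩
    have hfac : ∀ a ∈ (S : Subgroup X), ∃ r ∈ R, ∃ c ∈ center X, a = r * c := by
      intro a ha
      obtain ⟨r, hr, hra⟩ : π a ∈ M := hMP' ▸ (hSmem a).1 ha
      exact ⟨r, (mem_inf.1 hr).1, r⁻¹ * a, QuotientGroup.eq.1 hra, by group⟩
    refine eq_bot_iff.2 fun c hc => mem_bot.2 (C.inf_eq_bot hc (mem_subgroupOf.1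
      (center_le_of_derived hperf C.two S (R.subgroupOf (S : Subgroup X)) (fun a b => ?_) hc (hcS c hc))))
    obtain ⟨r, hr, c₁, hc₁, ha⟩ := hfac a a.2
    obtain ⟨r', hr', c₂, hc₂, hb⟩ := hfac b b.2
    rw [mem_subgroupOf, Subgroup.coe_mul, Subgroup.coe_mul, Subgroup.coe_mul, Subgroup.coe_inv,
      Subgroup.coe_inv, ha, hb]
    have e1 : ∀ y : X, y * c₁ = c₁ * y := mem_center_iff.1 hc₁
    have e2 : ∀ y : X, y * c₂ = c₂ * y := mem_center_iff.1 hc₂
    have e : r * c₁ * (r' * c₂) * (r * c₁)⁻¹ * (r' * c₂)⁻¹ = r * r' * r⁻¹ * r'⁻¹ := by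
      have h1 : ∀ y : X, r * c₁ * y * (r * c₁)⁻¹ = r * y * r⁻¹ := fun y => by
        rw [mul_assoc r c₁ y, ← e1 y]; group
      rw [h1, show r * (r' * c₂) * r⁻¹ = r * r' * (c₂ * r⁻¹) by group, ← e2 r⁻¹]
      group
    rw [e]
    exact mul_mem (mul_mem (mul_mem hr hr') (inv_mem hr)) (inv_mem hr')
  -- counting
  obtain ⟨k, e, hk, he, hPc, hI⟩ := F.qcard
  set I := {i : X ⧸ center X // orderOf i = 2 ∧ i ∈ Hb} with hIdef
  have hMcard : 2 ^ k ≤ Nat.card M := by
    rw [← hI]
    have := Finite.card_le_of_embedding (α := Option I) (β := M) ⟨fun o => o.elim 1 fun i => ⟨i.1, hMinv i.1 i.2.1 i.2.2⟩, by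
      rintro (_ | a) (_ | b) h
      · rfl
      · exfalso
        have := b.2.1
        rw [show (b.1 : X ⧸ center X) = 1 from (congrArg Subtype.val h).symm, orderOf_one] at this
        exact absurd this (by decide)
      · exfalso
        have := a.2.1
        rw [show (a.1 : X ⧸ center X) = 1 from congrArg Subtype.val h, orderOf_one] at this
        exact absurd this (by decide)
      · exact congrArg some (Subtype.ext (congrArg (fun m : M => (m : X ⧸ center X)) h :))⟩
    rwa [Finite.card_option] at this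
  have hMeq : e = 1 → M = P := fun h => eq_of_le_of_card_ge hMP (by rw [hPc, h, pow_one]; exact hMcard)
  letI : MulAction Hb I :=
    { smul := fun h i => ⟨(h : X ⧸ center X) * i.1 * (h : X ⧸ center X)⁻¹, by rw [orderOf_conj']; exact i.2.1,
        mul_mem (mul_mem h.2 i.2.2) (inv_mem h.2)⟩
      one_smul := fun i => Subtype.ext (show ((1 : Hb) : X ⧸ center X) * i.1 * ((1 : Hb) : X ⧸ center X)⁻¹ = i.1 by simp)
      mul_smul := fun a b i => Subtype.ext (show ((a * b : Hb) : X ⧸ center X) * i.1 * ((a * b : Hb) : X ⧸ center X)⁻¹ =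
        (a : X ⧸ center X) * ((b : X ⧸ center X) * i.1 * (b : X ⧸ center X)⁻¹) * (a : X ⧸ center X)⁻¹ by
          rw [Subgroup.coe_mul]; group) }
  haveI : MulAction.IsPretransitive Hb I := ⟨fun a b => by
    obtain ⟨c, hc⟩ := isConj_iff.1 (all_conj hse a.2.1 b.2.1)
    exact ⟨⟨c, Cfsg.Lib.StrongEmb.conj_eq hse a.2.1 a.2.2 (hc.symm ▸ b.2.2)⟩, Subtype.ext hc⟩⟩
  have hIdvd : Nat.card I ∣ Nat.card Hb := by
    obtain ⟨i₀, hi₀, hi₀2⟩ := exists_involution_of_even hse.2.1
    rw [← MulAction.index_stabilizer_of_transitive Hb (⟨i₀, hi₀2, hi₀⟩ : I)]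
    exact index_dvd_card _
  have hIG : 2 ^ k - 1 ∣ Nat.card (X ⧸ center X) := by
    rw [← hI, Nat.add_sub_cancel]
    exact hIdvd.trans (card_subgroup_dvd_card Hb)
  have hPtwo : Nat.card P = 2 ^ (Nat.card (X ⧸ center X)).factorization 2 := by
    rw [← hSP]; exact SP.card_eq_multiplicity
  -- the families
  rcases F.ident with ⟨K, hKf, hKt, ⟨n, hn, hKc⟩, ⟨f⟩⟩ | hSz | ⟨K, hKf, hKt, n, hn, hKc, ⟨f⟩⟩
  · by_cases h2 : n = 2
    · subst h2
      have h60 := Cfsg.Lib.Classical.SmallPSL.card_psl (F := K) hKc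
      rw [← Nat.card_congr (eTop.trans f).toEquiv] at h60
      norm_num at h60
      rw [h60, show (60 : ℕ).factorization 2 = 2 from padicValNat_sixty] at hPtwo
      refine hfull (hMeq ?_)
      have h4 : 2 ^ (k * e) = 2 ^ 2 := by rw [pow_mul, ← hPc, hPtwo]
      have := Nat.pow_right_injective (le_refl 2) h4
      rcases he with rfl | rfl | rfl <;> omega
    · have h8 : 8 ≤ 2 ^ n := le_trans (by norm_num) (Nat.pow_le_pow_right two_pos (show 3 ≤ n by omega))
      refine center_bot_of_multiplier C.qs C.two (eTop.trans f)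
        (Cfsg.Agent.S2086.result hKc 2 le_rfl (fun _ => by omega) ?_) ?_
      · simp only [Set.mem_insert_iff, Set.mem_singleton_iff, Prod.mk.injEq]
        have : 2 ^ n % 2 = 0 := by rw [Nat.pow_mod]; simp [zero_pow (show n ≠ 0 by omega)]
        omega
      · rw [card_multiplicative_zmod']
        intro h
        have h' := h.trans (Nat.gcd_dvd_right 2 (2 ^ n - 1))
        have : 2 ∣ 2 ^ n := dvd_pow_self 2 (by omega)
        omega
  · obtain ⟨K, hKf, hKt, m, hm, hKc, ⟨f⟩⟩ := hSz
    by_cases hm2 : 2 ≤ m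
    · refine center_bot_of_multiplier C.qs C.two (eTop.trans f) (Cfsg.Agent.S2111.result hm2 hKc) ?_
      rw [card_multiplicative_zmod']; norm_num
    obtain rfl : m = 1 := by omega
    have hQ : Cfsg.Lib.Suz.Par K 1 := ⟨le_rfl, hKc⟩
    have hcard : Nat.card (X ⧸ center X) = 29120 := by
      rw [Nat.card_congr ((eTop.trans f).trans (Cfsg.Lib.Suz.lieEquiv hQ).symm).toEquiv, Cfsg.Lib.Suz.card_Sz hQ]
      norm_num
    rw [hcard, show (29120 : ℕ).factorization 2 = 6 from padicValNat_szEight] at hPtwo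
    rw [hcard] at hIG
    rcases qcard_cases hk he (hPc ▸ hPtwo ▸ rfl) hIG with h | ⟨rfl, rfl⟩
    · exact hfull (hMeq h)
    have hI7 : Nat.card I = 7 := by omega
    have hP64 : Nat.card P = 64 := by rw [hPc]; norm_num
    -- an element of seven power order moving every involution
    haveI : Nonempty I := (Nat.card_pos_iff.1 (by omega)).1
    set φ := MulAction.toPermHom Hb I
    have h7 : 7 ∣ Nat.card φ.range := by
      obtain ⟨i₀⟩ := ‹Nonempty I›
      haveI : MulAction.IsPretransitive φ.range I := ⟨fun a b => by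
        obtain ⟨c, hc⟩ := MulAction.exists_smul_eq Hb a b
        exact ⟨⟨φ c, c, rfl⟩, hc⟩⟩
      rw [← hI7, ← MulAction.index_stabilizer_of_transitive φ.range i₀]
      exact index_dvd_card _
    obtain ⟨⟨y, hy⟩, hy7⟩ := exists_prime_orderOf_dvd_card' 7 h7
    rw [Subgroup.orderOf_mk] at hy7
    obtain ⟨⟨b, x₀, hx₀, rfl⟩, rfl⟩ := hy
    set n := orderOf x₀ / 7 ^ (orderOf x₀).factorization 7 with hn'
    set h := x₀ ^ n with hh
    have hhH : h ∈ HX := pow_mem hx₀ n
    have hh7 : h ^ 7 ^ (orderOf x₀).factorization 7 = 1 := by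
      rw [hh, ← pow_mul, hn', Nat.div_mul_cancel (Nat.ordProj_dvd _ _), pow_orderOf_eq_one]
    have hn7 : ¬ 7 ∣ n := Nat.not_dvd_ordCompl (by norm_num) (orderOf_pos x₀).ne'
    set hb : Hb := ⟨π h, mem_map_of_mem π hhH⟩ with hhb
    have hmove : ∀ i : I, hb • i ≠ i := by
      intro i hi
      set σ₀ := φ hb
      have hσ7 : orderOf σ₀ = 7 := by
        rw [show σ₀ = φ ⟨π x₀, mem_map_of_mem π hx₀⟩ ^ n by
          rw [← map_pow]; exact congrArg φ (Subtype.ext (map_pow π x₀ n))]
        rw [orderOf_pow' _ (fun h0 => hn7 (by rw [h0]; exact dvd_zero 7)), hy7,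
          Nat.coprime_iff_gcd_eq_one.1 ((Nat.Prime.coprime_iff_not_dvd (by norm_num)).2 hn7), Nat.div_one]
      have hA : IsPGroup 7 (zpowers σ₀) := IsPGroup.of_card (n := 1) (by rw [Nat.card_zpowers, hσ7, pow_one])
      have h1 := hA.card_modEq_card_fixedPoints I
      have hsub : MulAction.fixedPoints (zpowers σ₀) I ≠ Set.univ := fun hu => by
        have : σ₀ = 1 := Equiv.ext fun j => (hu.ge (Set.mem_univ j) : _) ⟨σ₀, mem_zpowers σ₀⟩
        rw [this, orderOf_one] at hσ7
        exact absurd hσ7 (by norm_num)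
      have hmem : i ∈ MulAction.fixedPoints (zpowers σ₀) I := by
        rintro ⟨a, ha⟩
        have : zpowers σ₀ ≤ MulAction.stabilizer (Equiv.Perm I) i := zpowers_le.2 hi
        exact this ha
      have hlt : Nat.card (MulAction.fixedPoints (zpowers σ₀) I) < 7 := by
        refine lt_of_lt_of_eq ?_ hI7
        rw [Nat.card_coe_set_eq, ← Set.ncard_univ]
        exact Set.ncard_lt_ncard (Set.ssubset_univ_iff.2 hsub)
      have hpos : 0 < Nat.card (MulAction.fixedPoints (zpowers σ₀) I) := Nat.card_pos_iff.2 ⟨⟨⟨i, hmem⟩⟩, inferInstance⟩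
      rw [hI7, Nat.ModEq] at h1
      omega
    -- no fixed point in `P` modulo the involutions
    have hfix : ∀ p ∈ P, ∀ w : X ⧸ center X, (w = 1 ∨ (orderOf w = 2 ∧ w ∈ Hb)) → π h * p * (π h)⁻¹ = w * p →
        p = 1 ∨ orderOf p = 2 := by
      intro p hp w hw hpw
      obtain ⟨j, hj⟩ := F.q2.exists_orderOf_eq_pow ⟨p, hp⟩
      rw [Subgroup.orderOf_mk] at hj
      rcases Nat.lt_or_ge j 2 with hj2 | hj2
      · rcases (show j = 0 ∨ j = 1 by omega) with rfl | rfl
        · exact Or.inl (orderOf_eq_one_iff.1 (by rw [hj, pow_zero]))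
        · exact Or.inr (by rw [hj, pow_one])
      exfalso
      set i := p ^ 2 ^ (j - 1) with hi
      have hi2 : orderOf i = 2 := by
        rw [hi, orderOf_pow_of_dvd (pow_ne_zero _ two_ne_zero) (hj ▸ pow_dvd_pow 2 (Nat.sub_le j 1)), hj,
          Nat.pow_div (Nat.sub_le j 1) two_pos, show j - (j - 1) = 1 by omega, pow_one]
      have hw2 : w * w = 1 := by
        rcases hw with rfl | ⟨hw, -⟩
        · exact one_mul 1
        · exact sq_of_order_two hw
      have hcw : Commute w p := by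
        rcases hw with rfl | ⟨hw, hwH⟩
        · exact Commute.one_left p
        · exact (F.qinvol w hw hwH).2 p hp
      refine hmove ⟨i, hi2, F.qle (pow_mem hp _)⟩ (Subtype.ext ?_)
      show π h * i * (π h)⁻¹ = i
      rw [hi, ← conj_pow, hpw, hcw.mul_pow, show 2 ^ (j - 1) = 2 * 2 ^ (j - 2) by
        rw [← pow_succ']; congr 1; omega, pow_mul w, pow_two, hw2, one_pow, one_mul]
    -- invariant subgroups of `P`
    have hMn : ∀ p ∈ M, π h * p * (π h)⁻¹ ∈ M := by
      rintro _ ⟨r, hr, rfl⟩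
      refine ⟨h * r * h⁻¹, mem_inf.2 ⟨(mem_normalizer_iff.1 (C.norm hhH) r).1 (mem_inf.1 hr).1,
        hSn h hhH r (mem_inf.1 hr).2⟩, by rw [map_mul, map_mul, map_inv]⟩
    have hM8 : Nat.card M = 8 ∨ M = P := by
      have hA : IsPGroup 7 (zpowers (⟨h, hhH⟩ : HX)) := by
        obtain ⟨a, -, ha⟩ := (Nat.dvd_prime_pow (by norm_num : Nat.Prime 7)).1 (orderOf_dvd_of_pow_eq_one hh7)
        exact IsPGroup.of_card (n := a) (by rw [Nat.card_zpowers, Subgroup.orderOf_mk, ha])
      letI : MulAction (zpowers (⟨h, hhH⟩ : HX)) M :=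
        { smul := fun a p => ⟨π ((a : HX) : X) * p.1 * (π ((a : HX) : X))⁻¹, by
            obtain ⟨r, hr, hrp⟩ := p.2
            refine ⟨(a : HX) * r * ((a : HX) : X)⁻¹, mem_inf.2 ⟨(mem_normalizer_iff.1 (C.norm (a : HX).2) r).1
              (mem_inf.1 hr).1, hSn _ (a : HX).2 r (mem_inf.1 hr).2⟩, ?_⟩
            rw [map_mul, map_mul, map_inv, hrp]⟩
          one_smul := fun p => Subtype.ext (show π (1 : X) * p.1 * (π (1 : X))⁻¹ = p.1 by simp)
          mul_smul := fun a b p => Subtype.ext (show π (((a * b : zpowers (⟨h, hhH⟩ : HX)) : HX) : X) * p.1 *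
              (π (((a * b : zpowers (⟨h, hhH⟩ : HX)) : HX) : X))⁻¹ = π ((a : HX) : X) * (π ((b : HX) : X) * p.1 *
              (π ((b : HX) : X))⁻¹) * (π ((a : HX) : X))⁻¹ by
            rw [Subgroup.coe_mul, Subgroup.coe_mul, map_mul]; group) }
      have h1 := hA.card_modEq_card_fixedPoints M
      have hfp : MulAction.fixedPoints (zpowers (⟨h, hhH⟩ : HX)) M = {1} := by
        ext p
        refine ⟨fun hp => ?_, fun hp a => ?_⟩
        · have h2 : π h * p.1 * (π h)⁻¹ = p.1 := congrArg Subtype.val (hp ⟨_, mem_zpowers _⟩)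
          rcases hfix p.1 (hMP p.2) 1 (Or.inl rfl) (by rw [h2, one_mul]) with h3 | h3
          · exact Subtype.ext h3
          · exact absurd (Subtype.ext h2) (hmove ⟨p.1, h3, F.qle (hMP p.2)⟩)
        · rw [Set.mem_singleton_iff] at hp
          subst hp
          exact Subtype.ext (show π ((a : HX) : X) * (1 : X ⧸ center X) * (π ((a : HX) : X))⁻¹ = 1 by simp)
      rw [hfp, Nat.card_unique (α := ({1} : Set M)), Nat.ModEq] at h1
      obtain ⟨a, ha, hac⟩ := (Nat.dvd_prime_pow Nat.prime_two).1 (show Nat.card M ∣ 2 ^ 6 from by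
        rw [show (2 : ℕ) ^ 6 = 64 from rfl, ← hP64]; exact card_dvd_of_le hMP)
      rw [hac] at h1 hMcard
      rcases (show a = 3 ∨ a = 6 by interval_cases a <;> first | (left; rfl) | (right; rfl) | (norm_num at h1; done) | (norm_num at hMcard; done)) with rfl | rfl
      · exact Or.inl hac
      · exact Or.inr (eq_of_le_of_card_ge hMP (by rw [hac, hP64]; norm_num))
    rcases hM8 with hM8 | hM8
    swap
    · exact hfull hM8
    have hMel : ∀ p ∈ M, p = 1 ∨ (orderOf p = 2 ∧ p ∈ Hb) := by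
      have hbij : Function.Bijective (fun o : Option I => o.elim (1 : M) fun i => ⟨i.1, hMinv i.1 i.2.1 i.2.2⟩) := by
        refine (Nat.bijective_iff_injective_and_card _).2 ⟨?_, by rw [Finite.card_option, hI7, hM8]⟩
        rintro (_ | a) (_ | b) h'
        · rfl
        · exfalso
          have := b.2.1
          rw [show (b.1 : X ⧸ center X) = 1 from (congrArg Subtype.val h').symm, orderOf_one] at this
          exact absurd this (by decide)
        · exfalso
          have := a.2.1
          rw [show (a.1 : X ⧸ center X) = 1 from congrArg Subtype.val h', orderOf_one] at this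
          exact absurd this (by decide)
        · exact congrArg some (Subtype.ext (congrArg (fun m : M => (m : X ⧸ center X)) h' :))
      intro p hp
      obtain ⟨o, ho⟩ := hbij.2 ⟨p, hp⟩
      rcases o with _ | i
      · exact Or.inl (congrArg Subtype.val ho).symm
      · exact Or.inr (by rw [← show i.1 = p from congrArg Subtype.val ho]; exact i.2)
    -- a central subgroup of index two in the centre
    by_contra hZ
    obtain ⟨M₁, hM₁⟩ : ∃ M₁ : Subgroup (center X), M₁.index = 2 := by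
      obtain ⟨a, ha⟩ := IsPGroup.iff_card.1 C.two
      have ha0 : a ≠ 0 := fun h0 => hZ (Subgroup.card_eq_one.1 (by rw [ha, h0, pow_zero]))
      obtain ⟨M₁, hM₁⟩ := Sylow.exists_subgroup_card_pow_prime 2 (G := center X) (n := a - 1)
        (by rw [ha]; exact pow_dvd_pow 2 (Nat.sub_le a 1))
      refine ⟨M₁, ?_⟩
      have := card_mul_index M₁
      rw [hM₁, ha, show 2 ^ a = 2 ^ (a - 1) * 2 by rw [← pow_succ]; congr 1; omega] at this
      exact Nat.eq_of_mul_eq_mul_left (by positivity) this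
    set Z₁ := M₁.map (center X).subtype with hZ₁
    have hZ₁c : Z₁ ≤ center X := map_subtype_le _
    set L₁ := (R ⊓ (S : Subgroup X)) ⊔ Z₁ with hL₁
    have hL₁S : L₁ ≤ (S : Subgroup X) := sup_le inf_le_right fun c hc => hcS c (hZ₁c hc)
    have hmemL₁ : ∀ x ∈ L₁, ∃ r ∈ R ⊓ (S : Subgroup X), ∃ c ∈ Z₁, x = r * c := fun x hx => by
      have hx' : x ∈ (((R ⊓ (S : Subgroup X)) ⊔ Z₁ : Subgroup X) : Set X) := hx
      rw [coe_mul_of_right_le_normalizer_left _ _ (fun c hc => mem_normalizer_iff.2 fun y => by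
        rw [show c * y * c⁻¹ = y by rw [← mem_center_iff.1 (hZ₁c hc) y, mul_inv_cancel_right]])] at hx'
      obtain ⟨r, hr, c, hc, rfl⟩ := hx'
      exact ⟨r, hr, c, hc, rfl⟩
    have hLn : ∀ g ∈ HX, ∀ x ∈ L₁, g * x * g⁻¹ ∈ L₁ := by
      intro g hg x hx
      obtain ⟨r, hr, c, hc, rfl⟩ := hmemL₁ x hx
      rw [show g * (r * c) * g⁻¹ = (g * r * g⁻¹) * (g * c * g⁻¹) by group,
        show g * c * g⁻¹ = c by rw [mem_center_iff.1 (hZ₁c hc) g, mul_inv_cancel_right]]
      exact mul_mem_sup (mem_inf.2 ⟨(mem_normalizer_iff.1 (C.norm hg) r).1 (mem_inf.1 hr).1,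
        hSn g hg r (mem_inf.1 hr).2⟩) hc
    haveI hLnorm : (L₁.subgroupOf (S : Subgroup X)).Normal := ⟨fun l hl s =>
      mem_subgroupOf.2 (hLn s (hSH s.2) l (mem_subgroupOf.1 hl))⟩
    set Z₂ := (center X).subgroupOf (S : Subgroup X) with hZ₂
    set π₁ := QuotientGroup.mk' (L₁.subgroupOf (S : Subgroup X)) with hπ₁
    have hcap : L₁ ⊓ center X = Z₁ := by
      refine le_antisymm (fun x hx => ?_) (le_inf le_sup_right hZ₁c)
      obtain ⟨r, hr, c, hc, rfl⟩ := hmemL₁ x (mem_inf.1 hx).1
      rw [C.inf_eq_bot ((mul_mem_cancel_right (hZ₁c hc)).1 (mem_inf.1 hx).2) (mem_inf.1 hr).1, one_mul]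
      exact hc
    -- sizes
    have hcardS : Nat.card (S : Subgroup X) = 64 * Nat.card (center X) := by
      have hmap : (S : Subgroup X).map π = P := by
        rw [hSdef, IsPGroup.toSylow_coe, map_comap_eq_self_of_surjective (QuotientGroup.mk'_surjective _)]
      have h1 := Subgroup.relIndex_ker (S : Subgroup X) π
      rw [hπ, QuotientGroup.ker_mk', ← hπ, hmap, hP64] at h1
      have h2 := Subgroup.relIndex_mul_relIndex ⊥ (center X) (S : Subgroup X) bot_le (fun c hc => hcS c hc)
      rw [relIndex_bot_left, relIndex_bot_left, h1] at h2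
      omega
    have hZ₁card : Nat.card Z₁ * 2 = Nat.card (center X) := by
      rw [hZ₁, card_map_of_injective (center X).subtype_injective, ← hM₁, card_mul_index]
    have hcardL : Nat.card L₁ = 8 * Nat.card Z₁ := by
      have hmap : L₁.map π = M := by
        rw [hL₁, Subgroup.map_sup, ← hM, show Z₁.map π = ⊥ from (Subgroup.map_eq_bot_iff _).2
          (by rw [hπ, QuotientGroup.ker_mk']; exact hZ₁c), sup_bot_eq]
      have h1 := Subgroup.relIndex_ker L₁ π
      rw [hπ, QuotientGroup.ker_mk', ← hπ, hmap, hM8, ← inf_relIndex_right, inf_comm, hcap] at h1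
      have h2 := Subgroup.relIndex_mul_relIndex ⊥ Z₁ L₁ bot_le le_sup_right
      rw [relIndex_bot_left, relIndex_bot_left, h1] at h2
      omega
    have hU : Nat.card ((S : Subgroup X) ⧸ L₁.subgroupOf (S : Subgroup X)) = 16 := by
      have h1 := card_mul_index (L₁.subgroupOf (S : Subgroup X))
      rw [Subgroup.index_eq_card, Nat.card_congr (subgroupOfEquivOfLe hL₁S).toEquiv, hcardL, hcardS,
        ← hZ₁card] at h1
      have hpos : 0 < 8 * Nat.card Z₁ := Nat.mul_pos (by norm_num) Nat.card_pos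
      exact Nat.eq_of_mul_eq_mul_left hpos (h1.trans (by ring))
    set D := Z₂.map π₁ with hD
    have hD2 : Nat.card D = 2 := by
      have h1 := Subgroup.relIndex_ker Z₂ π₁
      rw [hπ₁, QuotientGroup.ker_mk', ← hπ₁, ← hD, hZ₂, relIndex_subgroupOf (fun c hc => hcS c hc),
        ← inf_relIndex_right, hcap] at h1
      have h2 := Subgroup.relIndex_mul_relIndex ⊥ Z₁ (center X) bot_le hZ₁c
      rw [relIndex_bot_left, relIndex_bot_left, h1, ← hZ₁card] at h2
      exact Nat.eq_of_mul_eq_mul_left Nat.card_pos h2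
    have hDc : D ≤ center _ := by
      rintro _ ⟨c, hc, rfl⟩
      refine mem_center_iff.2 fun y => ?_
      obtain ⟨y, rfl⟩ := QuotientGroup.mk'_surjective _ y
      rw [← map_mul, ← map_mul]
      exact congrArg π₁ (Subtype.ext (mem_center_iff.1 (mem_subgroupOf.1 hc) y))
    -- the automorphism
    let f : MulAut (S : Subgroup X) :=
      { toFun := fun s => ⟨h * s * h⁻¹, hSn h hhH s s.2⟩
        invFun := fun s => ⟨h⁻¹ * s * h, by
          have := hSn h⁻¹ (inv_mem hhH) s s.2
          rwa [inv_inv] at this⟩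
        left_inv := fun s => Subtype.ext (show h⁻¹ * (h * (s : X) * h⁻¹) * h = s by group)
        right_inv := fun s => Subtype.ext (show h * (h⁻¹ * (s : X) * h) * h⁻¹ = s by group)
        map_mul' := fun a b => Subtype.ext (show h * ((a : X) * b) * h⁻¹ = h * a * h⁻¹ * (h * b * h⁻¹) by group) }
    have hfL : (L₁.subgroupOf (S : Subgroup X)).map f.toMonoidHom = L₁.subgroupOf (S : Subgroup X) :=
      eq_of_le_of_card_ge (by rintro _ ⟨l, hl, rfl⟩; exact mem_subgroupOf.2 (hLn h hhH l (mem_subgroupOf.1 hl)))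
        (card_map_of_injective f.injective).ge
    let σ : MulAut ((S : Subgroup X) ⧸ L₁.subgroupOf (S : Subgroup X)) := QuotientGroup.congr _ _ f hfL
    have hσ : ∀ s : (S : Subgroup X), σ (π₁ s) = π₁ (f s) := fun s => rfl
    have hσp : ∀ (m : ℕ) (s : (S : Subgroup X)), (σ ^ m) (π₁ s) =
        π₁ ⟨h ^ m * s * (h ^ m)⁻¹, hSn _ (pow_mem hhH m) s s.2⟩ := by
      intro m
      induction m with
      | zero => intro s; exact congrArg π₁ (Subtype.ext (show (s : X) = h ^ 0 * s * (h ^ 0)⁻¹ by simp))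
      | succ m ih =>
        intro s
        rw [pow_succ, MulAut.mul_apply, hσ, ih]
        exact congrArg π₁ (Subtype.ext (show h ^ m * (h * (s : X) * h⁻¹) * (h ^ m)⁻¹ =
          h ^ (m + 1) * (s : X) * (h ^ (m + 1))⁻¹ by rw [pow_succ]; group))
    have hσ7 : σ ^ 7 ^ (orderOf x₀).factorization 7 = 1 := by
      ext y
      obtain ⟨s, rfl⟩ := QuotientGroup.mk'_surjective _ y
      rw [← hπ₁, hσp]
      exact congrArg π₁ (Subtype.ext (show _ * (s : X) * _⁻¹ = (s : X) by rw [hh7]; simp))
    have hσD : ∀ d ∈ D, σ d ∈ D := by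
      rintro _ ⟨c, hc, rfl⟩
      rw [hσ]
      refine ⟨c, hc, congrArg π₁ (Subtype.ext ?_)⟩
      show (c : X) = h * c * h⁻¹
      rw [mem_center_iff.1 (mem_subgroupOf.1 hc) h, mul_inv_cancel_right]
    have hσfix : ∀ y, σ y * y⁻¹ ∈ D → y ∈ D := by
      intro y hy
      obtain ⟨s, rfl⟩ := QuotientGroup.mk'_surjective _ y
      rw [← hπ₁, hσ] at hy
      obtain ⟨c, hc, hce⟩ := hy
      have hl : (c : X)⁻¹ * (h * (s : X) * h⁻¹ * (s : X)⁻¹) ∈ L₁ := by
        rw [← map_inv, ← map_mul] at hce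
        exact mem_subgroupOf.1 (QuotientGroup.eq.1 hce)
      have hw : π (h * (s : X) * h⁻¹ * (s : X)⁻¹) ∈ M := by
        have h1 : π ((c : X)⁻¹ * (h * (s : X) * h⁻¹ * (s : X)⁻¹)) ∈ M := by
          obtain ⟨r, hr, c', hc', he'⟩ := hmemL₁ _ hl
          rw [he', map_mul, show π c' = 1 from (QuotientGroup.eq_one_iff c').2 (hZ₁c hc'), mul_one]
          exact mem_map_of_mem π hr
        rwa [map_mul, map_inv, show π (c : X) = 1 from (QuotientGroup.eq_one_iff _).2 (mem_subgroupOf.1 hc),
          inv_one, one_mul] at h1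
      have hsM : π (s : X) ∈ M := by
        rcases hfix (π (s : X)) ((hSmem _).1 s.2) _ (hMel _ hw) (by
          rw [map_mul, map_mul, map_mul, map_inv, map_inv, inv_mul_cancel_right]) with h1 | h1
        · rw [h1]; exact one_mem M
        · exact hMinv _ h1 (F.qle ((hSmem _).1 s.2))
      obtain ⟨r, hr, hre⟩ := hsM
      refine ⟨⟨r⁻¹ * s, mul_mem (inv_mem (mem_inf.1 hr).2) s.2⟩, mem_subgroupOf.2 (QuotientGroup.eq.1 hre),
        QuotientGroup.eq.2 (mem_subgroupOf.2 ?_)⟩
      show (r⁻¹ * (s : X))⁻¹ * s ∈ L₁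
      rw [mul_inv_rev, inv_inv, mul_assoc]
      exact mem_sup_left (by
        have := (mem_normalizer_iff.1 (C.norm (inv_mem (hSH s.2))) r).1 (mem_inf.1 hr).1
        rw [inv_inv, mul_assoc] at this
        exact mem_inf.2 ⟨this, mul_mem (inv_mem s.2) (mul_mem (mem_inf.1 hr).2 s.2)⟩)
    have hcomm := comm_of_sixteen hU D hDc hD2 σ _ hσ7 hσD hσfix
    have hle : center X ≤ Z₁ := fun c hc => by
      have := center_le_of_derived hperf C.two S (L₁.subgroupOf (S : Subgroup X)) (fun a b =>
        (QuotientGroup.eq_one_iff _).1 (show π₁ (a * b * a⁻¹ * b⁻¹) = 1 by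
          rw [map_mul, map_mul, map_mul, map_inv, map_inv, hcomm (π₁ a) (π₁ b), mul_inv_cancel_right,
            mul_inv_cancel])) hc (hcS c hc)
      rw [← hcap]
      exact mem_inf.2 ⟨mem_subgroupOf.1 this, hc⟩
    have := card_le_of_le hle
    have hpos : 0 < Nat.card Z₁ := Nat.card_pos
    omega
  · have h4 : 4 ≤ 2 ^ n := le_trans (by norm_num) (Nat.pow_le_pow_right two_pos hn)
    refine center_bot_of_multiplier C.qs C.two (eTop.trans f)
      (Cfsg.Agent.S2089.result 3 (2 ^ n) hKc le_rfl (by omega) ?_) ?_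
    · simp only [Set.mem_insert_iff, Set.mem_singleton_iff, Prod.mk.injEq]
      omega
    · rw [card_multiplicative_zmod']
      intro h
      have h' := h.trans (Nat.gcd_dvd_right 3 (2 ^ n + 1))
      have : 2 ∣ 2 ^ n := dvd_pow_self 2 (by omega)
      omega

end Cfsg.Lib.BenderSE.CritDep
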