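/-
Linear lemmas for modules in characteristic two: a 2-group acting fixed point freely on a group of odd
order has a free orbit vector, and the size of a Jordan block of an element of order a power of 2.
-/
import Mathlib

set_option autoImplicit false
set_option linter.unusedSectionVars false
set_option linter.style.haveILetI false

namespace Cfsg.Lib.BenderSE

open Subgroup

variable {G : Type*} [Group G] [Finite G] {V : Type*} [AddCommGroup V] [Module (ZMod 2) V]
  [Module.Finite (ZMod 2) V] (ρ : Representation (ZMod 2) G V)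

theorem end_add_self (f : Module.End (ZMod 2) V) : f + f = 0 :=
  LinearMap.ext fun v => ZModModule.add_self (f v)

/-- `(f - 1) ^ 2 ^ i = f ^ 2 ^ i - 1` -/
theorem sub_one_pow_two_pow (f : Module.End (ZMod 2) V) (i : ℕ) : (f - 1) ^ 2 ^ i = f ^ 2 ^ i - 1 := by
  induction i with
  | zero => simp
  | succ i ih =>
    rw [pow_succ, pow_mul, pow_mul, ih]
    set a := f ^ 2 ^ i
    have h : (a - 1) ^ 2 = a ^ 2 - (a + a) + 1 := by noncomm_ring
    rw [h, end_add_self a, sub_zero, sub_eq_add_neg,
      neg_eq_of_add_eq_zero_left (end_add_self (1 : Module.End (ZMod 2) V))]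

/-- an element of order divisible by `2 ^ (j + 1)` needs dimension more than `2 ^ j` -/
theorem two_pow_lt_finrank (hρ : Function.Injective ρ) {y : G} {j : ℕ} (hy : orderOf y = 2 ^ (j + 1)) :
    2 ^ j < Module.finrank (ZMod 2) V := by
  by_contra hle
  push Not at hle
  set N := ρ y - 1
  have hM : N ^ 2 ^ (j + 1) = 0 := by
    rw [sub_one_pow_two_pow, ← map_pow, ← hy, pow_orderOf_eq_one, map_one, sub_self]
  have hm : N ^ 2 ^ j ≠ 0 := by
    rw [sub_one_pow_two_pow, ← map_pow, sub_ne_zero]
    intro h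
    have h1 := orderOf_dvd_of_pow_eq_one (hρ (h.trans (map_one ρ).symm))
    rw [hy, Nat.pow_dvd_pow_iff_le_right one_lt_two] at h1
    omega
  refine hm (LinearMap.ker_eq_top.1 ?_)
  rw [Module.End.ker_pow_eq_ker_pow_finrank_of_le hle,
    ← Module.End.ker_pow_eq_ker_pow_finrank_of_le
      (hle.trans (Nat.pow_le_pow_right two_pos (Nat.le_succ j))), hM, LinearMap.ker_zero]

/-- THE FREE CASE -/
theorem card_le_finrank_of_fpf (hρ : Function.Injective ρ) (S R : Subgroup G) (hS : IsPGroup 2 S)
    (hRodd : Odd (Nat.card R)) (hSR : S ≤ normalizer (R : Set G)) (hR : R ≠ ⊥)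
    (hfpf : ∀ s ∈ S, s ≠ 1 → ∀ x ∈ R, s * x = x * s → x = 1) :
    Nat.card S ≤ Module.finrank (ZMod 2) V := by
  classical
  haveI : Fact (Nat.Prime 2) := ⟨Nat.prime_two⟩
  haveI := Fintype.ofFinite S
  haveI := Fintype.ofFinite R
  obtain ⟨v, hv⟩ : ∃ v : V, (∑ s : S, ρ (s : G)) v ≠ 0 := by
    by_contra h
    push Not at h
    have hE : ∑ s : S, ρ (s : G) = 0 := LinearMap.ext h
    set N := ∑ x : R, ρ (x : G) with hN
    have hterm : ∀ s : S, s ≠ 1 → ∑ x : R, ρ ((x : G) * s * (x : G)⁻¹) = N * ρ (s : G) := by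
      intro s hs
      rw [hN, Finset.sum_mul]
      refine Fintype.sum_bijective (fun x : R => (⟨(x : G) * ((s : G) * (x : G)⁻¹ * (s : G)⁻¹),
          mul_mem x.2 ((mem_normalizer_iff.1 (hSR s.2) _).1 (inv_mem x.2))⟩ : R))
        (Finite.injective_iff_bijective.1 fun x y hxy => Subtype.ext ?_) _ _ fun x => ?_
      · have h1 : (x : G) * s * (x : G)⁻¹ = (y : G) * s * (y : G)⁻¹ := by
          have := congrArg (fun z : R => (z : G) * s) hxy
          simpa [mul_assoc] using this
        refine (inv_mul_eq_one.1 (hfpf s s.2 (fun e => hs (Subtype.ext e)) _ (mul_mem (inv_mem y.2) x.2) ?_)).symm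
        calc (s : G) * ((y : G)⁻¹ * x) = (y : G)⁻¹ * ((y : G) * s * (y : G)⁻¹) * x := by group
          _ = (y : G)⁻¹ * ((x : G) * s * (x : G)⁻¹) * x := by rw [h1]
          _ = _ := by group
      · rw [← map_mul]
        congr 1
        simp [mul_assoc]
    have h0 : ∑ s : S, ∑ x : R, ρ ((x : G) * s * (x : G)⁻¹) = 0 := by
      rw [Finset.sum_comm]
      refine Finset.sum_eq_zero fun x _ => ?_
      simp only [map_mul]
      rw [← Finset.sum_mul, ← Finset.mul_sum, hE, mul_zero, zero_mul]
    have hone : ∑ x : R, ρ ((x : G) * (1 : S) * (x : G)⁻¹) = 1 := by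
      simp only [OneMemClass.coe_one, mul_one, mul_inv_cancel, map_one, Finset.sum_const,
        Finset.card_univ, ← Nat.card_eq_fintype_card]
      obtain ⟨m, hm⟩ := hRodd
      rw [hm, succ_nsmul, two_mul, add_nsmul, end_add_self, zero_add]
    rw [← Finset.add_sum_erase _ _ (Finset.mem_univ (1 : S)), hone,
      Finset.sum_congr rfl (fun s hs => hterm s (Finset.ne_of_mem_erase hs)), ← Finset.mul_sum,
      Finset.sum_erase_eq_sub (Finset.mem_univ _), hE, OneMemClass.coe_one, map_one, zero_sub,
      mul_neg, mul_one, ← sub_eq_add_neg, sub_eq_zero] at h0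
    obtain ⟨g, hg, hg1⟩ : ∃ g ∈ R, g ≠ 1 := by
      by_contra hall
      push Not at hall
      exact hR ((Subgroup.eq_bot_iff_forall R).2 hall)
    refine hg1 (hρ ?_)
    have h1 : ρ g * N = N := by
      rw [hN, Finset.mul_sum]
      exact Fintype.sum_bijective (fun x : R => (⟨g, hg⟩ : R) * x) (Group.mulLeft_bijective _) _ _
        fun x => by rw [← map_mul]; rfl
    rw [← h0, mul_one] at h1
    rw [h1, map_one]
  let Φ : (S → ZMod 2) →ₗ[ZMod 2] V :=
    Fintype.linearCombination (ZMod 2) fun s : S => ρ (s : G) v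
  have hΦ : ∀ a, Φ a = ∑ s : S, a s • ρ (s : G) v := fun a => rfl
  have hinj : Function.Injective Φ := by
    rw [← LinearMap.ker_eq_bot, Submodule.eq_bot_iff]
    by_contra hne
    push Not at hne
    obtain ⟨a₀, ha₀, ha₀ne⟩ := hne
    let K := LinearMap.ker Φ
    letI : MulAction S K :=
      { smul := fun u a => ⟨fun s => (a : S → ZMod 2) (u⁻¹ * s), by
          rw [LinearMap.mem_ker, hΦ]
          have ha : ∑ s : S, (a : S → ZMod 2) s • ρ (s : G) v = 0 := LinearMap.mem_ker.1 a.2
          refine (Fintype.sum_bijective (fun s : S => u⁻¹ * s) (Group.mulLeft_bijective _) _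
            (fun s => (a : S → ZMod 2) s • ρ (u : G) (ρ (s : G) v)) fun s => ?_).trans ?_
          · rw [← Module.End.mul_apply, ← map_mul, ← Subgroup.coe_mul, mul_inv_cancel_left]
          · rw [← map_zero (ρ (u : G)), ← ha, map_sum]
            exact Finset.sum_congr rfl fun s _ => (map_smul (ρ (u : G)) _ _).symm⟩
        one_smul := fun a => Subtype.ext (funext fun s => by
          show (a : S → ZMod 2) (1⁻¹ * s) = _
          rw [inv_one, one_mul])
        mul_smul := fun u w a => Subtype.ext (funext fun s => by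
          show (a : S → ZMod 2) ((u * w)⁻¹ * s) = (a : S → ZMod 2) (w⁻¹ * (u⁻¹ * s))
          rw [mul_inv_rev, mul_assoc]) }
    have hdvd : 2 ∣ Nat.card K := by
      haveI : Nontrivial K := ⟨⟨⟨a₀, ha₀⟩, 0, fun e => ha₀ne (congrArg Subtype.val e)⟩⟩
      haveI := Fintype.ofFinite K
      obtain ⟨n, hn⟩ : ∃ n, Nat.card K = 2 ^ n :=
        ⟨_, (Module.natCard_eq_pow_finrank (K := ZMod 2) (V := K)).trans (by rw [Nat.card_zmod])⟩
      rw [hn]
      refine dvd_pow_self 2 fun e => ?_
      rw [e, pow_zero] at hn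
      exact (Finite.one_lt_card (α := K)).ne' hn
    have h0 : (0 : K) ∈ MulAction.fixedPoints S K := fun u => Subtype.ext rfl
    obtain ⟨a, ha, hne'⟩ := hS.exists_fixed_point_of_prime_dvd_card_of_fixed_point K hdvd h0
    have hconst : ∀ s : S, (a : S → ZMod 2) s = (a : S → ZMod 2) 1 := by
      intro s
      have h1 := congrFun (congrArg Subtype.val (ha s)) s
      change (a : S → ZMod 2) (s⁻¹ * s) = _ at h1
      rw [inv_mul_cancel] at h1
      exact h1.symm
    have h1 : (a : S → ZMod 2) 1 • (∑ s : S, ρ (s : G)) v = 0 := by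
      rw [LinearMap.sum_apply, Finset.smul_sum]
      exact (Finset.sum_congr rfl fun s _ => by rw [hconst s]).trans (LinearMap.mem_ker.1 a.2)
    rcases smul_eq_zero.1 h1 with h | h
    · exact hne' (Subtype.ext (funext fun s => ((hconst s).trans h).symm))
    · exact hv h
  have := LinearMap.finrank_le_finrank_of_injective hinj
  rwa [Module.finrank_pi, ← Nat.card_eq_fintype_card] at this

end Cfsg.Lib.BenderSE
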