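/-
A 2-group with one involution acting on a group of odd order that the involution does not centralise: a
minimal invariant subgroup.
-/
import Mathlib
import Cfsg.Agent.Coprime.Sylow

set_option autoImplicit false
set_option linter.unusedSectionVars false
set_option linter.style.haveILetI false

namespace Cfsg.Lib.BenderSE

open Subgroup

variable {G : Type*} [Group G] [Finite G]

/-- some subgroup of prime power order normalised by `S` and not centralised by `t`, minimal such -/
theorem exists_minimal_moved (S : Sylow 2 G) (t : G) (O : Subgroup G) [O.Normal] (hodd : Odd (Nat.card O))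
    (ht : ¬ O ≤ centralizer ({t} : Set G)) :
    ∃ (r : ℕ) (R : Subgroup G), r.Prime ∧ r ≠ 2 ∧ R ≤ O ∧ IsPGroup r R ∧
      (S : Subgroup G) ≤ normalizer (R : Set G) ∧ ¬ R ≤ centralizer ({t} : Set G) ∧
      ∀ D : Subgroup G, D < R → (S : Subgroup G) ≤ normalizer (D : Set G) → D ≤ centralizer ({t} : Set G) := by
  classical
  let P : Set (Subgroup G) := {R | R ≤ O ∧ (∃ r, r.Prime ∧ IsPGroup r R) ∧
    (S : Subgroup G) ≤ normalizer (R : Set G) ∧ ¬ R ≤ centralizer ({t} : Set G)}
  have hex : P.Nonempty := by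
    by_contra hno
    rw [Set.not_nonempty_iff_eq_empty] at hno
    refine ht ?_
    have key : Nat.card O ∣ Nat.card (O ⊓ centralizer ({t} : Set G) : Subgroup G) := by
      refine (Nat.dvd_iff_prime_pow_dvd_dvd _ _).2 fun r e hr hre => ?_
      haveI : Fact r.Prime := ⟨hr⟩
      haveI : Fact (Nat.Prime 2) := ⟨Nat.prime_two⟩
      obtain ⟨P₀⟩ : Nonempty (Sylow r O) := inferInstance
      set P₁ := (P₀ : Subgroup O).map O.subtype with hP₁
      have hsup := Sylow.normalizer_sup_eq_top P₀
      set N := normalizer (P₁ : Set G) with hN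
      obtain ⟨T⟩ : Nonempty (Sylow 2 N) := inferInstance
      have hTle : (T : Subgroup N).map N.subtype ≤ N := map_subtype_le _
      obtain ⟨T', hT'⟩ := (T.2.map N.subtype).exists_le_sylow
      have hidx : Odd N.index := by
        have h2 := Cfsg.Lib.Coprime.card_sup_mul_card_inf
          (show N ≤ normalizer (O : Set G) from fun x _ => le_normalizer_of_normal (mem_top x))
        rw [sup_comm, hsup, Subgroup.card_top, ← N.card_mul_index, mul_comm (Nat.card O), mul_assoc] at h2
        exact hodd.of_dvd_nat ⟨_, (Nat.eq_of_mul_eq_mul_left Nat.card_pos h2).symm⟩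
      have heq : (T' : Subgroup G) = (T : Subgroup N).map N.subtype := by
        refine (eq_of_le_of_card_ge hT' (Nat.le_of_dvd Nat.card_pos ?_)).symm
        rw [card_map_of_injective N.subtype_injective, Sylow.card_eq_multiplicity,
          Sylow.card_eq_multiplicity, ← N.card_mul_index, Nat.factorization_mul Nat.card_pos.ne'
            index_ne_zero_of_finite, Finsupp.add_apply,
          Nat.factorization_eq_zero_of_not_dvd (fun h => Nat.not_even_iff_odd.2 hidx (even_iff_two_dvd.2 h)),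
          add_zero]
      obtain ⟨g, hg⟩ := MulAction.exists_smul_eq G T' S
      set P₂ := P₁.map (MulAut.conj g).toMonoidHom with hP₂
      have hP₂O : P₂ ≤ O := by
        rintro _ ⟨x, hx, rfl⟩
        exact (inferInstance : O.Normal).conj_mem x (map_subtype_le _ hx) g
      have hP₂r : IsPGroup r P₂ := (P₀.2.map _).map _
      have hSN : (S : Subgroup G) ≤ normalizer (P₂ : Set G) := by
        refine le_of_le_of_eq ?_ (map_normalizer_eq_of_bijective (f := (MulAut.conj g).toMonoidHom) P₁
          (MulAut.conj g).bijective)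
        rw [← hg, ← hN]
        exact Subgroup.map_mono (heq ▸ hTle)
      have hC : P₂ ≤ centralizer ({t} : Set G) := by
        by_contra h
        exact (Set.eq_empty_iff_forall_notMem.1 hno P₂) ⟨hP₂O, ⟨r, hr, hP₂r⟩, hSN, h⟩
      refine dvd_trans ?_ (card_dvd_of_le (le_inf hP₂O hC))
      rw [hP₂, card_map_of_injective (MulAut.conj g).injective, hP₁,
        card_map_of_injective O.subtype_injective, Sylow.card_eq_multiplicity]
      exact pow_dvd_pow r ((hr.pow_dvd_iff_le_factorization Nat.card_pos.ne').1 hre)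
    have := eq_of_le_of_card_ge inf_le_left (Nat.le_of_dvd Nat.card_pos key)
    exact inf_eq_left.1 this
  obtain ⟨R, ⟨hRO, ⟨r, hr, hRr⟩, hSN, hRC⟩, hmin⟩ :=
    Set.Finite.exists_minimal (Set.toFinite P) hex
  refine ⟨r, R, hr, ?_, hRO, hRr, hSN, hRC, fun D hD hSD => ?_⟩
  · rintro rfl
    haveI : Fact (Nat.Prime 2) := ⟨Nat.prime_two⟩
    obtain ⟨j, hj⟩ := IsPGroup.iff_card.1 hRr
    rcases j.eq_zero_or_pos with rfl | hj0
    · exact hRC (by rw [card_eq_one.1 (hj.trans (pow_zero 2))]; exact bot_le)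
    · exact Nat.not_even_iff_odd.2 (hodd.of_dvd_nat (card_dvd_of_le hRO))
        (even_iff_two_dvd.2 (hj ▸ dvd_pow_self 2 hj0.ne'))
  · by_contra h
    exact not_le_of_gt hD (hmin ⟨hD.le.trans hRO, ⟨r, hr, hRr.to_le hD.le⟩, hSD, h⟩ hD.le)

variable {r : ℕ} {S R : Subgroup G} {t : G}

/-- `t` fixes no element outside an invariant `N` with abelian quotient -/
theorem fpf_of_minimal (ht : t * t = 1) (htS : t ∈ S) (htc : ∀ s ∈ S, s * t = t * s)
    (hSN : S ≤ normalizer (R : Set G)) (hodd : Odd (Nat.card R))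
    (hRC : ¬ R ≤ centralizer ({t} : Set G))
    (hmin : ∀ D : Subgroup G, D < R → S ≤ normalizer (D : Set G) → D ≤ centralizer ({t} : Set G))
    (N : Subgroup G) (hRN : R ≤ normalizer (N : Set G)) (htN : ∀ n ∈ N, t * n * t⁻¹ ∈ N)
    (hcomm : ∀ a ∈ R, ∀ b ∈ R, a * b * a⁻¹ * b⁻¹ ∈ N) :
    ∀ x ∈ R, x * t * x⁻¹ * t⁻¹ ∈ N → x ∈ N := by
  classical
  have hin : ∀ x ∈ R, x * t * x⁻¹ * t⁻¹ ∈ R := fun x hx => by
    rw [show x * t * x⁻¹ * t⁻¹ = x * (t * x⁻¹ * t⁻¹) by group]
    exact mul_mem hx ((mem_normalizer_iff.1 (hSN htS) _).1 (inv_mem hx))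
  set D := closure ((fun x => x * t * x⁻¹ * t⁻¹) '' (R : Set G)) with hD
  have hDR : D ≤ R := (closure_le R).2 (by rintro _ ⟨x, hx, rfl⟩; exact hin x hx)
  have hSD : S ≤ normalizer (D : Set G) := by
    intro s hs
    have hto : ∀ u ∈ S, D.map (MulAut.conj u).toMonoidHom ≤ D := by
      intro u hu
      rw [hD, MonoidHom.map_closure, closure_le]
      rintro _ ⟨_, ⟨x, hx, rfl⟩, rfl⟩
      refine subset_closure ⟨u * x * u⁻¹, (mem_normalizer_iff.1 (hSN hu) x).1 hx, ?_⟩
      show u * x * u⁻¹ * t * (u * x * u⁻¹)⁻¹ * t⁻¹ = u * (x * t * x⁻¹ * t⁻¹) * u⁻¹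
      calc u * x * u⁻¹ * t * (u * x * u⁻¹)⁻¹ * t⁻¹ = u * x * (u⁻¹ * t * u) * x⁻¹ * (u⁻¹ * t⁻¹ * u) * u⁻¹ := by group
        _ = _ := by
          have h1 : u⁻¹ * t * u = t := by rw [mul_assoc, ← htc u hu, inv_mul_cancel_left]
          have h2 : u⁻¹ * t⁻¹ * u = t⁻¹ := by
            rw [← inv_inj]; simpa [mul_assoc] using h1
          rw [h1, h2]; group
    rw [mem_normalizer_iff]
    refine fun y => ⟨fun hy => hto s hs ⟨y, hy, rfl⟩, fun hy => ?_⟩
    have := hto s⁻¹ (inv_mem hs) ⟨_, hy, rfl⟩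
    simpa [mul_assoc] using this
  have hDeq : D = R := by
    by_contra hne
    have hC := hmin D (lt_of_le_of_ne hDR hne) hSD
    refine hRC fun x hx => mem_centralizer_singleton_iff.2 ?_
    set c := x * t * x⁻¹ * t⁻¹ with hc
    have hct : c * t = t * c := mem_centralizer_singleton_iff.1 (hC (subset_closure ⟨x, hx, rfl⟩))
    have ht' : t⁻¹ = t := inv_eq_of_mul_eq_one_right ht
    have h2 : c * c = 1 := by
      have h3 : (c * t) * (c * t) = 1 := by
        rw [hc, show x * t * x⁻¹ * t⁻¹ * t = x * t * x⁻¹ by group,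
          show x * t * x⁻¹ * (x * t * x⁻¹) = x * (t * t) * x⁻¹ by group, ht]
        group
      calc c * c = c * (c * (t * t)) := by rw [ht, mul_one]
        _ = c * ((c * t) * t) := by rw [mul_assoc c t t]
        _ = c * ((t * c) * t) := by rw [hct]
        _ = (c * t) * (c * t) := by group
        _ = 1 := h3
    have hc1 : c = 1 := by
      obtain ⟨m, hm⟩ := hodd
      have h4 : (⟨c, hin x hx⟩ : R) ^ (2 * m + 1) = 1 := hm ▸ pow_card_eq_one'
      have h5 := congrArg Subtype.val h4
      simpa [pow_succ, pow_mul, pow_two, h2] using h5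
    rw [hc, mul_inv_eq_one, mul_inv_eq_iff_eq_mul] at hc1
    exact hc1
  set N' := N.subgroupOf R with hN'
  haveI : N'.Normal := ⟨fun y hy g => mem_subgroupOf.2 (by
    simpa using (mem_normalizer_iff.1 (hRN g.2) _).1 (mem_subgroupOf.1 hy))⟩
  have habel : ∀ a b : R ⧸ N', a * b = b * a := by
    intro a b
    induction a using QuotientGroup.induction_on with
    | _ a =>
      induction b using QuotientGroup.induction_on with
      | _ b =>
        rw [← QuotientGroup.mk_mul, ← QuotientGroup.mk_mul, QuotientGroup.eq, mem_subgroupOf]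
        have := hcomm _ (inv_mem b.2) _ (inv_mem a.2)
        simpa [mul_assoc] using this
  let ψ : R →* R ⧸ N' :=
    MonoidHom.mk' (fun x => QuotientGroup.mk ⟨_, hin x x.2⟩) fun a b => by
      rw [habel, ← QuotientGroup.mk_mul, QuotientGroup.eq, mem_subgroupOf]
      simp only [Subgroup.coe_mul, Subgroup.coe_inv]
      -- `[ab,t]⁻¹ [b,t] [a,t]` is a commutator of `a` and `[b,t]`
      set e := (b : G) * t * (b : G)⁻¹ * t⁻¹ with he
      rw [show ((a : G) * b * t * ((a : G) * b)⁻¹ * t⁻¹)⁻¹ * (e * ((a : G) * t * (a : G)⁻¹ * t⁻¹)) =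
        t * (a : G) * t⁻¹ * ((e⁻¹ * (a : G)⁻¹ * e * (a : G))) * (t * (a : G) * t⁻¹)⁻¹ by rw [he]; group]
      have hta : t * (a : G) * t⁻¹ ∈ R := (mem_normalizer_iff.1 (hSN htS) _).1 a.2
      refine (mem_normalizer_iff.1 (hRN hta) _).1 ?_
      have h := hcomm _ (inv_mem (hin b b.2)) _ (inv_mem a.2)
      rw [← he, inv_inv, inv_inv] at h
      exact h
  have hker : N' ≤ ψ.ker := by
    intro n hn
    refine (QuotientGroup.eq_one_iff _).2 (mem_subgroupOf.2 ?_)
    show (n : G) * t * (n : G)⁻¹ * t⁻¹ ∈ N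
    rw [show (n : G) * t * (n : G)⁻¹ * t⁻¹ = (n : G) * (t * (n : G)⁻¹ * t⁻¹) by group]
    exact mul_mem (mem_subgroupOf.1 hn) (htN _ (inv_mem (mem_subgroupOf.1 hn)))
  let ψ' := QuotientGroup.lift N' ψ hker
  have hsurj : Function.Surjective ψ' := by
    intro q
    induction q using QuotientGroup.induction_on with
    | _ y =>
      have hy : (y : G) ∈ ((ψ.range.comap (QuotientGroup.mk' N')).map R.subtype) := by
        refine (closure_le _).2 ?_ (show (y : G) ∈ D from hDeq.symm ▸ y.2)
        rintro _ ⟨x, hx, rfl⟩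
        exact ⟨⟨_, hin x hx⟩, ⟨⟨x, hx⟩, rfl⟩, rfl⟩
      obtain ⟨y', ⟨x, hx⟩, hy'⟩ := hy
      refine ⟨QuotientGroup.mk x, ?_⟩
      rw [show y = y' from Subtype.ext hy'.symm]
      exact hx
  intro x hx hxN
  have h1 : ψ' (QuotientGroup.mk (⟨x, hx⟩ : R)) = ψ' 1 := by
    rw [map_one]
    exact (QuotientGroup.eq_one_iff _).2 (mem_subgroupOf.2 hxN)
  have h2 := (Finite.injective_iff_surjective.2 hsurj) h1
  exact mem_subgroupOf.1 ((QuotientGroup.eq_one_iff (⟨x, hx⟩ : R)).1 h2)

/-- `S` acts semiregularly on `R` outside `N` -/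
theorem card_dvd_of_semiregular {S R N : Subgroup G} (hSR : S ≤ normalizer (R : Set G))
    (hSN : S ≤ normalizer (N : Set G)) (hNR : N ≤ R)
    (hfree : ∀ s ∈ S, ∀ x ∈ R, s * x = x * s → s = 1 ∨ x ∈ N) :
    Nat.card S ∣ Nat.card R - Nat.card N := by
  classical
  let X := {x : G // x ∈ R ∧ x ∉ N}
  letI : MulAction S X :=
    { smul := fun s x => ⟨(s : G) * x.1 * (s : G)⁻¹, (mem_normalizer_iff.1 (hSR s.2) _).1 x.2.1,
        fun h => x.2.2 ((mem_normalizer_iff.1 (hSN s.2) _).2 h)⟩
      one_smul := fun x => Subtype.ext (by show (1 : S).1 * x.1 * ((1 : S).1)⁻¹ = x.1; simp)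
      mul_smul := fun s u x => Subtype.ext (by
        show (s * u : S).1 * x.1 * ((s * u : S).1)⁻¹ = s.1 * (u.1 * x.1 * u.1⁻¹) * s.1⁻¹
        simp [mul_assoc]) }
  have hst : ∀ x : X, MulAction.stabilizer S x = ⊥ := by
    refine fun x => (Subgroup.eq_bot_iff_forall _).2 fun s hs => Subtype.ext ?_
    have h1 : (s : G) * x.1 * (s : G)⁻¹ = x.1 := congrArg Subtype.val (MulAction.mem_stabilizer_iff.1 hs)
    rcases hfree s s.2 x.1 x.2.1 (mul_inv_eq_iff_eq_mul.1 h1) with h | h
    · exact h
    · exact absurd h x.2.2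
  have hcard : Nat.card X = Nat.card R - Nat.card N := by
    haveI := Fintype.ofFinite G
    simp only [X, Nat.card_eq_fintype_card, Fintype.card_subtype]
    rw [← Finset.card_sdiff_of_subset (Finset.monotone_filter_right _ fun a _ h => hNR h)]
    congr 1
    ext a
    simp
  rw [← hcard, Nat.card_congr (MulAction.selfEquivOrbitsQuotientProd hst), Nat.card_prod]
  exact dvd_mul_left _ _

/-- a finite `r`-group with abelianization of order at most `r` is abelian -/
theorem commute_of_abelianization_small {X : Type*} [Group X] [Finite X] {r : ℕ} [Fact r.Prime]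
    (hX : IsPGroup r X) (hidx : (commutator X).index = r) : ∀ a b : X, a * b = b * a := by
  have hle : commutator X ≤ frattini X := by
    rw [frattini, Order.radical]
    refine le_iInf₂ fun M hM => ?_
    haveI := hX.isNilpotent
    haveI : M.Normal := Group.normalizerCondition_of_isNilpotent.normal_of_coatom M hM
    haveI : Nontrivial (X ⧸ M) := QuotientGroup.nontrivial_iff.2 hM.1
    haveI : Group.IsSolvable (X ⧸ M) := inferInstance
    have hlt := Group.IsSolvable.commutator_lt_top_of_nontrivial (G := X ⧸ M)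
    have h1 : M ≤ (commutator (X ⧸ M)).comap (QuotientGroup.mk' M) := QuotientGroup.le_comap_mk' M _
    rcases eq_or_lt_of_le h1 with h | h
    · rw [h, ← map_le_iff_le_comap, map_commutator_eq,
        MonoidHom.range_eq_top.2 (QuotientGroup.mk'_surjective M), ← _root_.commutator_def]
    · exfalso
      have := hM.2 _ h
      rw [← comap_top (QuotientGroup.mk' M)] at this
      exact hlt.ne (comap_injective (QuotientGroup.mk'_surjective M) this)
  obtain ⟨x, hx⟩ : ∃ x : X, x ∉ commutator X := by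
    by_contra h
    push Not at h
    rw [(eq_top_iff' _).2 h, index_top] at hidx
    exact (Fact.out : r.Prime).one_lt.ne hidx
  have htop : zpowers x ⊔ frattini X = ⊤ := by
    refine eq_top_iff.2 (le_trans ?_ (sup_le_sup_left hle _))
    have h1 := relIndex_mul_index (le_sup_right : commutator X ≤ zpowers x ⊔ commutator X)
    rw [hidx] at h1
    rcases (Nat.dvd_prime (Fact.out : r.Prime)).1 (Dvd.intro_left _ h1) with h | h
    · exact (index_eq_one.1 h).ge
    · rw [h, Nat.mul_eq_right (Fact.out : r.Prime).ne_zero, relIndex_eq_one] at h1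
      exact absurd (h1 (mem_sup_left (mem_zpowers x))) hx
  have hz := frattini_nongenerating htop
  intro a b
  obtain ⟨i, rfl⟩ := mem_zpowers_iff.1 (hz ▸ mem_top a : a ∈ zpowers x)
  obtain ⟨j, rfl⟩ := mem_zpowers_iff.1 (hz ▸ mem_top b : b ∈ zpowers x)
  rw [← zpow_add, ← zpow_add, add_comm]

end Cfsg.Lib.BenderSE
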