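/-
The dimension bound when the Sylow 2-subgroup has one involution.
-/
import Cfsg.Agent.BenderSE.Dependents.ModuleFree
import Cfsg.Agent.BenderSE.Dependents.ModuleOrbit

set_option autoImplicit false
set_option linter.unusedSectionVars false
set_option linter.style.haveILetI false

namespace Cfsg.Lib.BenderSE

open Subgroup

/-- the order of `GL(d, 2)` -/
def glTwoCard (d : ℕ) : ℕ := ∏ i : Fin d, (2 ^ d - 2 ^ (i : ℕ))

theorem glTwoCard_dvd : ∀ d < 10, glTwoCard d ∣ 2 ^ 36 * 3 ^ 5 * 5 ^ 2 * 7 ^ 3 * 17 * 31 * 73 * 127 := by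
  decide +kernel

theorem small_table : ∀ k < 6, ∀ a < 5, ∀ d < 2 * k, ∀ r ∈ [3, 5, 7, 17, 31, 73, 127],
    2 ≤ a → r ^ (a + 1) ∣ glTwoCard d → ¬ 2 ^ k ∣ r ^ a - 1 := by
  decide +kernel

theorem no_small {r a k d : ℕ} (hr : r.Prime) (hr2 : r ≠ 2) (ha : 2 ≤ a) (hk : k < 6) (hd : d < 2 * k)
    (hdiv : r ^ (a + 1) ∣ glTwoCard d) : ¬ 2 ^ k ∣ r ^ a - 1 := by
  have hC := hdiv.trans (glTwoCard_dvd d (by omega))
  have hrm : r ∈ [3, 5, 7, 17, 31, 73, 127] := by
    have h1 : r ∣ 2 ^ 36 * 3 ^ 5 * 5 ^ 2 * 7 ^ 3 * 17 * 31 * 73 * 127 :=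
      (dvd_pow_self r (Nat.succ_ne_zero a)).trans hC
    have key : ∀ {p : ℕ}, p.Prime → r ∣ p → r = p := fun hp h => (Nat.prime_dvd_prime_iff_eq hr hp).1 h
    simp only [List.mem_cons, List.not_mem_nil, or_false]
    rcases hr.dvd_mul.1 h1 with h1 | h
    swap; · simp [key (by norm_num) h]
    rcases hr.dvd_mul.1 h1 with h1 | h
    swap; · simp [key (by norm_num) h]
    rcases hr.dvd_mul.1 h1 with h1 | h
    swap; · simp [key (by norm_num) h]
    rcases hr.dvd_mul.1 h1 with h1 | h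
    swap; · simp [key (by norm_num) h]
    rcases hr.dvd_mul.1 h1 with h1 | h
    swap; · simp [key (by norm_num) (hr.dvd_of_dvd_pow h)]
    rcases hr.dvd_mul.1 h1 with h1 | h
    swap; · simp [key (by norm_num) (hr.dvd_of_dvd_pow h)]
    rcases hr.dvd_mul.1 h1 with h1 | h
    · exact absurd (key Nat.prime_two (hr.dvd_of_dvd_pow h1)) hr2
    · simp [key (by norm_num) (hr.dvd_of_dvd_pow h)]
  have ha5 : a < 5 := by
    by_contra h
    push Not at h
    have h6 : r ^ 6 ∣ 2 ^ 36 * 3 ^ 5 * 5 ^ 2 * 7 ^ 3 * 17 * 31 * 73 * 127 :=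
      (pow_dvd_pow r (by omega : 6 ≤ a + 1)).trans hC
    simp only [List.mem_cons, List.not_mem_nil, or_false] at hrm
    rcases hrm with rfl | rfl | rfl | rfl | rfl | rfl | rfl <;> norm_num at h6
  exact small_table k hk a ha5 d hd r hrm ha hdiv

theorem two_mul_le_two_pow : ∀ {k : ℕ}, 6 ≤ k → 2 * k ≤ 2 ^ (k - 2) := by
  intro k hk
  induction k, hk using Nat.le_induction with
  | base => norm_num
  | succ k hk ih =>
    rw [show k + 1 - 2 = k - 2 + 1 by omega, pow_succ]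
    omega

theorem two_mul_le_two_pow' : ∀ k : ℕ, 2 * k ≤ 2 ^ k
  | 0 => by simp
  | k + 1 => by
    have := two_mul_le_two_pow' k
    have := Nat.one_le_two_pow (n := k)
    rw [pow_succ]
    rcases k.eq_zero_or_pos with rfl | h
    · simp
    · omega

variable {G : Type*} [Group G] [Finite G] {V : Type*} [AddCommGroup V] [Module (ZMod 2) V]
  [Module.Finite (ZMod 2) V] (ρ : Representation (ZMod 2) G V)

theorem card_dvd_glTwoCard (hρ : Function.Injective ρ) (R : Subgroup G) :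
    Nat.card R ∣ glTwoCard (Module.finrank (ZMod 2) V) := by
  haveI : Fact (Nat.Prime 2) := ⟨Nat.prime_two⟩
  let e := (LinearMap.toMatrixAlgEquiv (Module.finBasis (ZMod 2) V)).toMulEquiv
  let f : R →* Matrix.GeneralLinearGroup (Fin (Module.finrank (ZMod 2) V)) (ZMod 2) :=
    (e.toMonoidHom.comp (MonoidHom.comp ρ R.subtype)).toHomUnits
  have hf : Function.Injective f := fun a b h =>
    Subtype.ext (hρ (e.injective (congrArg Units.val h)))
  have h := Subgroup.card_dvd_of_injective f hf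
  rwa [Matrix.card_GL_field, ZMod.card] at h

theorem rank_one_bound (hρ : Function.Injective ρ) (S : Sylow 2 G) {t y : G} (htS : t ∈ (S : Subgroup G))
    (ht : orderOf t = 2) (huniq : ∀ s ∈ (S : Subgroup G), orderOf s = 2 → s = t) (hyS : y ∈ (S : Subgroup G))
    {k : ℕ} (hk : Nat.card (S : Subgroup G) = 2 ^ k) (hy : 2 ^ k ≤ 2 * orderOf y)
    (O : Subgroup G) [O.Normal] (hodd : Odd (Nat.card O)) (hOt : ¬ O ≤ centralizer ({t} : Set G)) :
    2 * k ≤ Module.finrank (ZMod 2) V := by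
  classical
  haveI : Fact (Nat.Prime 2) := ⟨Nat.prime_two⟩
  by_contra hd
  push Not at hd
  have hk6 : k < 6 := by
    by_contra h6
    push Not at h6
    obtain ⟨j, hj⟩ := IsPGroup.iff_orderOf.1 S.2 ⟨y, hyS⟩
    rw [Subgroup.orderOf_mk] at hj
    rw [hj, mul_comm, ← pow_succ, Nat.pow_le_pow_iff_right one_lt_two] at hy
    obtain ⟨i, rfl⟩ : ∃ i, j = i + 1 := ⟨j - 1, by omega⟩
    have h1 := two_pow_lt_finrank ρ hρ hj
    have h2 := two_mul_le_two_pow h6
    have h3 : 2 ^ (k - 2) ≤ 2 ^ i := Nat.pow_le_pow_right two_pos (by omega)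
    omega
  have ht' : t * t = 1 := by rw [← pow_two, ← ht, pow_orderOf_eq_one]
  have htc : ∀ s ∈ (S : Subgroup G), s * t = t * s := fun s hs => by
    have := huniq _ (mul_mem (mul_mem hs htS) (inv_mem hs)) ((MulEquiv.orderOf_eq (MulAut.conj s) t).trans ht)
    exact mul_inv_eq_iff_eq_mul.1 this
  have hpow : ∀ s ∈ (S : Subgroup G), s ≠ 1 → ∃ m : ℕ, s ^ m = t := by
    intro s hs hs1
    obtain ⟨j, hj⟩ := IsPGroup.iff_orderOf.1 S.2 ⟨s, hs⟩
    rw [Subgroup.orderOf_mk] at hj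
    rcases j.eq_zero_or_pos with rfl | hj0
    · exact absurd (orderOf_eq_one_iff.1 (hj.trans (pow_zero 2))) hs1
    · refine ⟨orderOf s / 2, huniq _ (pow_mem hs _) ?_⟩
      exact orderOf_pow_orderOf_div (orderOf_pos s).ne' (hj ▸ dvd_pow_self 2 hj0.ne')
  obtain ⟨r, R, hr, hr2, hRO, hRr, hSR, hRC, hmin⟩ := exists_minimal_moved S t O hodd hOt
  haveI : Fact r.Prime := ⟨hr⟩
  have hRodd : Odd (Nat.card R) := hodd.of_dvd_nat (card_dvd_of_le hRO)
  have hR : R ≠ ⊥ := fun h => hRC (h ▸ bot_le)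
  have hfix : ∀ s ∈ (S : Subgroup G), s ≠ 1 → ∀ x : G, s * x = x * s → x * t * x⁻¹ * t⁻¹ = 1 := by
    intro s hs hs1 x hx
    obtain ⟨m, rfl⟩ := hpow s hs hs1
    have h1 : Commute x (s ^ m) := (show Commute x s from hx.symm).pow_right m
    rw [h1.eq, mul_inv_cancel_right, mul_inv_cancel]
  by_cases hab : ∀ a ∈ R, ∀ b ∈ R, a * b * a⁻¹ * b⁻¹ ∈ (⊥ : Subgroup G)
  · have h0 := fpf_of_minimal ht' htS htc hSR hRodd hRC hmin ⊥
      (fun x _ => le_normalizer_of_normal (mem_top x)) (fun n hn => by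
        rw [mem_bot.1 hn, mul_one, mul_inv_cancel]; exact one_mem _) hab
    have := card_le_finrank_of_fpf ρ hρ (S : Subgroup G) R S.2 hRodd hSR hR fun s hs hs1 x hx hxs =>
      mem_bot.1 (h0 x hx (by rw [hfix s hs hs1 x hxs]; exact one_mem _))
    rw [hk] at this
    have := two_mul_le_two_pow' k
    omega
  set N := (commutator R).map R.subtype with hN
  have hNR : N ≤ R := map_subtype_le _
  have hconj : ∀ g : G, (∀ x ∈ R, g * x * g⁻¹ ∈ R) → ∀ n ∈ N, g * n * g⁻¹ ∈ N := by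
    rintro g hg _ ⟨n, hn, rfl⟩
    let f : R →* R := ((MulAut.conj g).toMonoidHom.comp R.subtype).codRestrict R fun x => hg x x.2
    refine ⟨f n, ?_, rfl⟩
    have h1 : (commutator R).map f ≤ commutator R := by
      rw [map_commutator_eq, _root_.commutator_def]; exact Subgroup.commutator_mono le_top le_top
    exact h1 (Subgroup.mem_map_of_mem f hn)
  have hnorm : ∀ X : Subgroup G, X ≤ normalizer (R : Set G) → X ≤ normalizer (N : Set G) := by
    intro X hX g hg
    refine mem_normalizer_iff.2 fun n => ⟨hconj g (fun x => (mem_normalizer_iff.1 (hX hg) x).1) n, fun h => ?_⟩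
    have := hconj g⁻¹ (fun x hx => by
      exact (mem_normalizer_iff.1 (inv_mem (hX hg)) x).1 hx) _ h
    simpa [mul_assoc] using this
  have hcomm : ∀ a ∈ R, ∀ b ∈ R, a * b * a⁻¹ * b⁻¹ ∈ N := fun a ha b hb =>
    ⟨⟨a * b * a⁻¹ * b⁻¹, mul_mem (mul_mem (mul_mem ha hb) (inv_mem ha)) (inv_mem hb)⟩,
      commutator_mem_commutator (mem_top (⟨a, ha⟩ : R)) (mem_top (⟨b, hb⟩ : R)), rfl⟩
  have h0 := fpf_of_minimal ht' htS htc hSR hRodd hRC hmin N (hnorm R le_normalizer)
    (hconj t fun x => (mem_normalizer_iff.1 (hSR htS) x).1) hcomm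
  have hdvd := card_dvd_of_semiregular hSR (hnorm _ hSR) hNR fun s hs x hx hsx => by
    by_cases hs1 : s = 1
    · exact Or.inl hs1
    · exact Or.inr (h0 x hx (by rw [hfix s hs hs1 x hsx]; exact one_mem _))
  obtain ⟨a, hidx⟩ : ∃ a, (commutator R).index = r ^ a := hRr.index _
  have hne : commutator R ≠ ⊥ := by
    intro h
    refine hab fun a ha b hb => mem_bot.2 ?_
    have hm := hcomm a ha b hb
    rwa [hN, h, Subgroup.map_bot, mem_bot] at hm
  have ha : 2 ≤ a := by
    by_contra ha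
    push Not at ha
    haveI : Nontrivial R := (Subgroup.nontrivial_iff_ne_bot R).2 hR
    haveI := hRr.isNilpotent
    interval_cases a
    · rw [pow_zero, index_eq_one] at hidx
      exact (Group.IsSolvable.commutator_lt_top_of_nontrivial (G := R)).ne hidx
    · rw [pow_one] at hidx
      refine hab fun a ha b hb => mem_bot.2 ?_
      have h := congrArg Subtype.val (commute_of_abelianization_small hRr hidx ⟨a, ha⟩ ⟨b, hb⟩)
      rw [show a * b = b * a from h]
      group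
  obtain ⟨c, hc⟩ := IsPGroup.iff_card.1 (hRr.to_subgroup (commutator R))
  have hc1 : 1 ≤ c := by
    rcases c.eq_zero_or_pos with rfl | h
    · exact absurd (card_eq_one.1 (hc.trans (pow_zero r))) hne
    · exact h
  have hcardR : Nat.card R = r ^ c * r ^ a := by rw [← hc, ← hidx, card_mul_index]
  refine no_small hr hr2 ha hk6 hd ?_ ?_
  · refine dvd_trans ?_ (card_dvd_glTwoCard ρ hρ R)
    rw [hcardR, ← pow_add]
    exact pow_dvd_pow r (by omega)
  · rw [hk, hN, card_map_of_injective R.subtype_injective, hcardR, hc] at hdvd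
    rw [show r ^ c * r ^ a - r ^ c = r ^ c * (r ^ a - 1) by rw [Nat.mul_sub, mul_one]] at hdvd
    exact (((Nat.coprime_primes Nat.prime_two hr).2 hr2.symm).pow k c).dvd_of_dvd_mul_left hdvd

end Cfsg.Lib.BenderSE
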