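/-
Faithful modules in characteristic two of a group with a strongly embedded subgroup, from REG.
-/
import Cfsg.Agent.BenderSE.Dependents.Frame
import Cfsg.Agent.BenderSE.Dependents.Rows
import Cfsg.Agent.BenderSE.Dependents.ModuleRankOne
import Cfsg.Agent.Components.Module.IndexBound
import Cfsg.Agent.Components.Module.IndexBoundSuz
import Cfsg.Agent.Components.Module.IndexBoundPSU

set_option autoImplicit false
set_option linter.unusedSectionVars false
set_option linter.style.haveILetI false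

namespace Cfsg.Lib.BenderSE

open Subgroup MulAction Cfsg.Lib.InvolCalc Cfsg.Lib.StrongEmb

/-! ### the translation to a semidirect product -/

section Translate

variable {G : Type*} [Group G] [Finite G] {V : Type*} [AddCommGroup V] [Module (ZMod 2) V]
  [Module.Finite (ZMod 2) V] (ρ : Representation (ZMod 2) G V)

/-- the action on the additive group of the module -/
noncomputable def repAut : G →* MulAut (Multiplicative V) where
  toFun g :=
    { toFun := fun v => Multiplicative.ofAdd (ρ g v.toAdd)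
      invFun := fun v => Multiplicative.ofAdd (ρ g⁻¹ v.toAdd)
      left_inv := fun v => by simp
      right_inv := fun v => by simp
      map_mul' := fun v w => by simp }
  map_one' := MulEquiv.ext fun v => by simp
  map_mul' g h := MulEquiv.ext fun v => by simp

/-- the semidirect product -/
abbrev RepProd := SemidirectProduct (Multiplicative V) G (repAut ρ)

/-- the module inside it -/
noncomputable def vSub : Subgroup (RepProd ρ) := (SemidirectProduct.inl : Multiplicative V →* RepProd ρ).range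

theorem finite_repProd : Finite (RepProd ρ) :=
  haveI : Finite V := Module.finite_of_finite (ZMod 2)
  Finite.of_equiv (Multiplicative V × G) SemidirectProduct.equivProd.symm

theorem vSub_elem : Cfsg.IsElementaryAbelian 2 (vSub ρ) := by
  refine ⟨⟨⟨?_⟩⟩, ?_⟩
  · rintro ⟨_, a, rfl⟩ ⟨_, b, rfl⟩
    exact Subtype.ext (show SemidirectProduct.inl a * SemidirectProduct.inl b = _ by
      rw [← map_mul, mul_comm, map_mul]; rfl)
  · rintro _ ⟨a, rfl⟩
    rw [pow_two, ← map_mul]
    have : a * a = 1 := by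
      apply Multiplicative.toAdd.injective
      exact ZModModule.add_self _
    rw [this, map_one]

theorem le_normalizer_vSub (X : Subgroup (RepProd ρ)) : X ≤ normalizer (vSub ρ : Set (RepProd ρ)) := by
  haveI : (vSub ρ).Normal := by
    rw [vSub, SemidirectProduct.range_inl_eq_ker_rightHom]; infer_instance
  exact fun x _ => le_normalizer_of_normal (mem_top x)

theorem inr_inl_commute (g : G) (v : Multiplicative V) :
    (SemidirectProduct.inr g * SemidirectProduct.inl v : RepProd ρ) =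
      SemidirectProduct.inl v * SemidirectProduct.inr g ↔ ρ g v.toAdd = v.toAdd := by
  constructor
  · intro h
    have h1 := congrArg SemidirectProduct.left h
    simp only [SemidirectProduct.mul_left, SemidirectProduct.left_inr, SemidirectProduct.left_inl,
      SemidirectProduct.right_inr, SemidirectProduct.right_inl, map_one, one_mul, mul_one] at h1
    exact congrArg Multiplicative.toAdd h1
  · intro h
    refine SemidirectProduct.ext ?_ (by simp)
    simp only [SemidirectProduct.mul_left, SemidirectProduct.left_inr, SemidirectProduct.left_inl,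
      SemidirectProduct.right_inr, SemidirectProduct.right_inl, map_one, one_mul, mul_one]
    exact Multiplicative.toAdd.injective h

theorem inr_inf_centralizer (hρ : Function.Injective ρ) (X : Subgroup G) :
    X.map (SemidirectProduct.inr : G →* RepProd ρ) ⊓ centralizer (vSub ρ : Set (RepProd ρ)) = ⊥ := by
  refine (Subgroup.eq_bot_iff_forall _).2 ?_
  rintro _ ⟨⟨g, -, rfl⟩, hg⟩
  have : ρ g = ρ 1 := by
    refine LinearMap.ext fun v => ?_
    rw [map_one]
    exact (inr_inl_commute ρ g (Multiplicative.ofAdd v)).1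
      ((mem_centralizer_iff.1 hg _ ⟨_, rfl⟩).symm)
  rw [hρ this, map_one]

theorem card_vSub : Nat.card (vSub ρ) = 2 ^ Module.finrank (ZMod 2) V := by
  rw [vSub, ← Nat.card_congr (MonoidHom.ofInjective SemidirectProduct.inl_injective).toEquiv,
    Nat.card_congr Multiplicative.toAdd, Module.natCard_eq_pow_finrank (K := ZMod 2), Nat.card_zmod]

theorem relIndex_centralizer (g : G) :
    (vSub ρ ⊓ centralizer ({SemidirectProduct.inr g} : Set (RepProd ρ))).relIndex (vSub ρ) =
      2 ^ Module.finrank (ZMod 2) (LinearMap.range (ρ g - 1)) := by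
  haveI : Finite V := Module.finite_of_finite (ZMod 2)
  set K := AddSubgroup.toSubgroup (LinearMap.ker (ρ g - 1)).toAddSubgroup with hK
  have hmem : ∀ v : Multiplicative V, v ∈ K ↔ ρ g v.toAdd = v.toAdd := fun v => by
    show v.toAdd ∈ LinearMap.ker (ρ g - 1) ↔ _
    rw [LinearMap.mem_ker, LinearMap.sub_apply, Module.End.one_apply, sub_eq_zero]
  have h1 : vSub ρ ⊓ centralizer ({SemidirectProduct.inr g} : Set (RepProd ρ)) =
      K.map (SemidirectProduct.inl : Multiplicative V →* RepProd ρ) := by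
    ext x
    constructor
    · rintro ⟨⟨v, rfl⟩, hv⟩
      exact ⟨v, (hmem v).2 ((inr_inl_commute ρ g v).1 (mem_centralizer_singleton_iff.1 hv).symm), rfl⟩
    · rintro ⟨v, hv, rfl⟩
      exact ⟨⟨v, rfl⟩, mem_centralizer_singleton_iff.2 ((inr_inl_commute ρ g v).2 ((hmem v).1 hv)).symm⟩
  rw [h1, vSub, MonoidHom.range_eq_map, relIndex_map_map_of_injective _ _ SemidirectProduct.inl_injective,
    relIndex_top_right]
  have hcard : Nat.card K = 2 ^ Module.finrank (ZMod 2) (LinearMap.ker (ρ g - 1)) := by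
    have e : K ≃ LinearMap.ker (ρ g - 1) :=
      ⟨fun x => ⟨x.1.toAdd, x.2⟩, fun x => ⟨Multiplicative.ofAdd x.1, x.2⟩, fun _ => rfl, fun _ => rfl⟩
    rw [Nat.card_congr e, Module.natCard_eq_pow_finrank (K := ZMod 2), Nat.card_zmod]
  have h2 := K.card_mul_index
  have h3 := LinearMap.finrank_range_add_finrank_ker (ρ g - 1)
  rw [hcard, Nat.card_congr (Multiplicative.toAdd (α := V)), Module.natCard_eq_pow_finrank (K := ZMod 2),
    Nat.card_zmod, ← h3, Nat.add_comm, pow_add] at h2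
  exact Nat.eq_of_mul_eq_mul_left (pow_pos two_pos _) h2

theorem finrank_range_pow_le (g : G) (m : ℕ) :
    Module.finrank (ZMod 2) (LinearMap.range (ρ (g ^ m) - 1)) ≤
      Module.finrank (ZMod 2) (LinearMap.range (ρ g - 1)) := by
  have hle : LinearMap.range (ρ (g ^ m) - 1) ≤ LinearMap.range (ρ g - 1) := by
    rw [map_pow, ← mul_geom_sum (ρ g) m, Module.End.mul_eq_comp]
    exact LinearMap.range_comp_le_range _ _
  exact Submodule.finrank_mono hle

end Translate

theorem ker_mulEquiv_toMonoidHom {A B C : Type*} [Group A] [Group B] [Group C] (f : B ≃* C) (g : A →* B) :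
    (f.toMonoidHom.comp g).ker = g.ker :=
  Subgroup.ext fun x => by simp [MonoidHom.mem_ker]

universe u

variable {G : Type u} [Group G] [Finite G] {H : Subgroup G} {V : Type*} [AddCommGroup V]
  [Module (ZMod 2) V] [Module.Finite (ZMod 2) V] (ρ : Representation (ZMod 2) G V)

/-- two commuting involutions: the bound at an involution of `S` -/
theorem rank_two_bound (reg : RegProp.{u}) (hH : Cfsg.IsStronglyEmbedded H) (h2 : HasCommutingInvolutions G)
    (hρ : Function.Injective ρ) (S : Sylow 2 G) {k : ℕ} (hk : Nat.card (S : Subgroup G) = 2 ^ k) {t : G}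
    (htS : t ∈ (S : Subgroup G)) (ht : orderOf t = 2) :
    2 * k ≤ Module.finrank (ZMod 2) V ∧
      ∀ n : ℕ, (∀ z ∈ (S : Subgroup G) ⊓ centralizer ((S : Subgroup G) : Set G), z ^ 2 = 1) →
        Nat.card ↥((S : Subgroup G) ⊓ centralizer ((S : Subgroup G) : Set G)) = 2 ^ n →
        n ≤ Module.finrank (ZMod 2) (LinearMap.range (ρ t - 1)) := by
  classical
  haveI : Fact (Nat.Prime 2) := ⟨Nat.prime_two⟩
  haveI := finite_repProd ρ
  set O := Cfsg.oddCore G with hO
  have hOodd : Odd (Nat.card O) := Cfsg.Lib.ZStarApps.odd_card_pPrimeCore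
  set π := QuotientGroup.mk' O with hπ
  obtain ⟨L, Q, F⟩ := exists_frame reg (setting_oddCore hH h2)
  haveI := F.normal
  set G₁ := L.comap π with hG₁
  have hSG₁ : (S : Subgroup G) ≤ G₁ := by
    intro x hx
    obtain ⟨j, hj⟩ := IsPGroup.iff_orderOf.1 S.2 ⟨x, hx⟩
    rw [Subgroup.orderOf_mk] at hj
    have e1 : orderOf ((π x : (G ⧸ O) ⧸ L)) ∣ L.index := by
      rw [Subgroup.index_eq_card]; exact orderOf_dvd_natCard _
    have e2 : orderOf ((π x : (G ⧸ O) ⧸ L)) ∣ orderOf x :=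
      orderOf_map_dvd ((QuotientGroup.mk' L).comp π) x
    rw [hj] at e2
    exact (QuotientGroup.eq_one_iff (π x)).1 (orderOf_eq_one_iff.1
      (Nat.eq_one_of_dvd_coprimes ((Nat.coprime_two_left.2 F.oddIndex).pow_left j) e2 e1))
  have hinjS : ∀ x ∈ (S : Subgroup G), π x = 1 → x = 1 := by
    intro x hx hx1
    obtain ⟨j, hj⟩ := IsPGroup.iff_orderOf.1 S.2 ⟨x, hx⟩
    rw [Subgroup.orderOf_mk] at hj
    have h1 := Subgroup.orderOf_dvd_natCard O ((QuotientGroup.eq_one_iff x).1 hx1)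
    rw [hj] at h1
    exact orderOf_eq_one_iff.1 (hj.trans (Nat.eq_one_of_dvd_coprimes
      ((Nat.coprime_two_left.2 hOodd).pow_left j) dvd_rfl h1))
  -- a conjugate of the image of `S` is `Q`
  obtain ⟨SQ, hSQ⟩ := F.sylow
  obtain ⟨g₀, hg₀⟩ := MulAction.exists_smul_eq (G ⧸ O) (S.mapSurjective (QuotientGroup.mk'_surjective O)) SQ
  have hconjQ : ∀ x ∈ (S : Subgroup G), g₀ * π x * g₀⁻¹ ∈ Q := by
    intro x hx
    rw [← hSQ, ← hg₀]
    exact ⟨π x, ⟨x, hx, rfl⟩, rfl⟩
  have hord : ∀ x ∈ (S : Subgroup G), orderOf x = 2 → orderOf (g₀ * π x * g₀⁻¹) = 2 ∧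
      g₀ * π x * g₀⁻¹ ∈ H.map π := by
    intro x hx hx2
    refine ⟨?_, F.qle (hconjQ x hx)⟩
    rw [orderOf_conj']
    have hx3 : x ^ 2 = 1 := orderOf_dvd_iff_pow_eq_one.1 hx2.dvd
    refine orderOf_eq_prime (by rw [← map_pow, hx3, map_one]) fun e => ?_
    rw [hinjS x hx e, orderOf_one] at hx2
    omega
  have htc : ∀ x ∈ (S : Subgroup G), t * x = x * t := by
    intro x hx
    obtain ⟨h1, h1'⟩ := hord t htS ht
    have h3 := (F.qinvol _ h1 h1').2 _ (hconjQ x hx)
    rw [show g₀ * π t * g₀⁻¹ * (g₀ * π x * g₀⁻¹) = g₀ * π (t * x) * g₀⁻¹ by rw [map_mul]; group,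
      show g₀ * π x * g₀⁻¹ * (g₀ * π t * g₀⁻¹) = g₀ * π (x * t) * g₀⁻¹ by rw [map_mul]; group] at h3
    have h4 := mul_left_cancel (mul_right_cancel h3)
    refine inv_mul_eq_one.1 (hinjS _ (mul_mem (inv_mem (mul_mem htS hx)) (mul_mem hx htS)) ?_)
    rw [map_mul, map_inv, h4, inv_mul_cancel]
  -- the preimage of `L` in the semidirect product
  set H₀ := G₁.map (SemidirectProduct.inr : G →* RepProd ρ) with hH₀
  let ι : G₁ ≃* H₀ := G₁.equivMapOfInjective _ SemidirectProduct.inr_injective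
  let ξ : G₁ →* L := (π.comp G₁.subtype).codRestrict L fun x => x.2
  let φL : H₀ →* L := ξ.comp ι.symm.toMonoidHom
  have hξ : Function.Surjective ξ := by
    rintro ⟨y, hy⟩
    obtain ⟨x, rfl⟩ := QuotientGroup.mk'_surjective O y
    exact ⟨⟨x, hy⟩, rfl⟩
  have hφL : Function.Surjective φL := hξ.comp ι.symm.surjective
  have hkerL : (Nat.card φL.ker).Coprime 2 := by
    refine Nat.coprime_two_right.2 (hOodd.of_dvd_nat ?_)
    let f : φL.ker →* O :=
      ((G₁.subtype.comp ι.symm.toMonoidHom).comp φL.ker.subtype).codRestrict O fun x =>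
        (QuotientGroup.eq_one_iff _).1 (congrArg Subtype.val (MonoidHom.mem_ker.1 x.2))
    refine Subgroup.card_dvd_of_injective f fun a b h => Subtype.ext (ι.symm.injective (Subtype.ext ?_))
    exact congrArg (fun z : O => (z : G)) h
  set T := (S : Subgroup G).map (SemidirectProduct.inr : G →* RepProd ρ) with hTdef
  have hTH : T ≤ H₀ := Subgroup.map_mono hSG₁
  have hTidx : ¬ 2 ∣ (T.subgroupOf H₀).index := by
    intro h
    refine S.not_dvd_index (h.trans ?_)
    show T.relIndex H₀ ∣ _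
    rw [hTdef, hH₀, relIndex_map_map_of_injective _ _ SemidirectProduct.inr_injective,
      ← relIndex_mul_index hSG₁]
    exact dvd_mul_right _ _
  set S₀ := ((S.2.map _).comap_subtype (K := H₀)).toSylow hTidx with hS₀
  have hS₀c : (S₀ : Subgroup H₀) = T.subgroupOf H₀ := IsPGroup.toSylow_coe _ _
  have hT : T = (S₀ : Subgroup H₀).map H₀.subtype := by
    rw [hS₀c, subgroupOf_map_subtype, inf_eq_left.2 hTH]
  have hcardS₀ : Nat.card (S₀ : Subgroup H₀) = 2 ^ k := by
    rw [hS₀c, Nat.card_congr (subgroupOfEquivOfLe hTH).toEquiv, hTdef,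
      card_map_of_injective SemidirectProduct.inr_injective, hk]
  set s₀ : H₀ := ⟨SemidirectProduct.inr t, hTH ⟨t, htS, rfl⟩⟩ with hs₀
  have hs₀S : s₀ ∈ (S₀ : Subgroup H₀) := hS₀c ▸ mem_subgroupOf.2 ⟨t, htS, rfl⟩
  have hs₀1 : s₀ ≠ 1 := by
    intro h
    have : t = 1 := SemidirectProduct.inr_injective ((congrArg Subtype.val h).trans (map_one _).symm)
    rw [this, orderOf_one] at ht; omega
  have hsTC : (s₀ : RepProd ρ) ∈ T ⊓ centralizer (T : Set (RepProd ρ)) := by
    refine ⟨⟨t, htS, rfl⟩, ?_⟩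
    rintro _ ⟨x, hx, rfl⟩
    show SemidirectProduct.inr x * SemidirectProduct.inr t = SemidirectProduct.inr t * SemidirectProduct.inr x
    rw [← map_mul, ← map_mul, htc x hx]
  have hf := inr_inf_centralizer ρ hρ G₁
  have hrel := relIndex_centralizer ρ t
  have hcard := card_vSub ρ
  set d := Module.finrank (ZMod 2) V
  set e := Module.finrank (ZMod 2) (LinearMap.range (ρ t - 1))
  -- the number of central elements of `S`
  have hcount : ∀ n : ℕ, (∀ z ∈ (S : Subgroup G) ⊓ centralizer ((S : Subgroup G) : Set G), z ^ 2 = 1) →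
      Nat.card ↥((S : Subgroup G) ⊓ centralizer ((S : Subgroup G) : Set G)) = 2 ^ n →
      n ≤ k ∧ 2 ^ n ≤ Nat.card {i : G ⧸ O // orderOf i = 2 ∧ i ∈ H.map π} + 1 := by
    intro n hz hn
    refine ⟨(Nat.pow_dvd_pow_iff_le_right one_lt_two).1 (hn ▸ hk ▸ card_dvd_of_le inf_le_left), ?_⟩
    set Z := (S : Subgroup G) ⊓ centralizer ((S : Subgroup G) : Set G)
    have hz2 : ∀ z : Z, z ≠ 1 → orderOf (z : G) = 2 := fun z hz1 =>
      orderOf_eq_prime (hz z z.2) fun e => hz1 (Subtype.ext e)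
    have h1 : Nat.card {z : Z // z ≠ 1} ≤ Nat.card {i : G ⧸ O // orderOf i = 2 ∧ i ∈ H.map π} := by
      refine Nat.card_le_card_of_injective
        (fun z => ⟨g₀ * π ((z.1 : Z) : G) * g₀⁻¹, hord _ z.1.2.1 (hz2 z.1 z.2)⟩) fun a b h => ?_
      have h' := mul_left_cancel (mul_right_cancel (congrArg Subtype.val h))
      refine Subtype.ext (Subtype.ext (inv_mul_eq_one.1 (hinjS _ (mul_mem (inv_mem a.1.2.1) b.1.2.1) ?_)))
      rw [map_mul, map_inv, h', inv_mul_cancel]
    haveI := Fintype.ofFinite Z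
    have h3 : Nat.card {z : Z // z ≠ 1} = Nat.card Z - 1 := by
      rw [Nat.card_eq_fintype_card, Fintype.card_subtype_compl, Fintype.card_subtype_eq,
        Nat.card_eq_fintype_card]
    rw [h3, hn] at h1
    omega
  rcases F.ident with ⟨K, iK, iK', ⟨m, hm, hK⟩, ⟨f⟩⟩ | ⟨K, iK, iK', m, hm, hK, ⟨f⟩⟩ | ⟨K, iK, iK', m, hm, hK, hiso⟩
  · set φ := f.toMonoidHom.comp φL with hφ
    have hker : φ.ker = φL.ker := ker_mulEquiv_toMonoidHom f φL
    obtain ⟨hdvd, hne⟩ := Cfsg.Lib.Components.IndexBound.sylow_image hK φ (hker ▸ hkerL) S₀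
    obtain ⟨h1, h2'⟩ := Cfsg.Lib.Components.IndexBound.psl_bound hK hm (vSub ρ) H₀ (vSub_elem ρ)
      (le_normalizer_vSub ρ H₀) hf φ (f.surjective.comp hφL) s₀
      (by
        refine ⟨1, ?_⟩
        rw [pow_one, ← Subgroup.orderOf_coe, hs₀, orderOf_injective _ SemidirectProduct.inr_injective, ht])
      (hne s₀ hs₀S hs₀1)
    rw [hrel, Nat.pow_le_pow_iff_right one_lt_two] at h1
    rw [hcard, Nat.pow_le_pow_iff_right one_lt_two] at h2'
    rw [hcardS₀, Nat.pow_dvd_pow_iff_le_right one_lt_two] at hdvd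
    exact ⟨by omega, fun n hz hn => by have := (hcount n hz hn).1; omega⟩
  · have P : Cfsg.Lib.Suz.Par K m := ⟨hm, hK⟩
    set φ := ((f.trans (Cfsg.Lib.Suz.lieEquiv P).symm).toMonoidHom).comp φL with hφ
    have hker : φ.ker = φL.ker := ker_mulEquiv_toMonoidHom _ φL
    have hφs : Function.Surjective φ := (f.trans (Cfsg.Lib.Suz.lieEquiv P).symm).surjective.comp hφL
    have hne : ∀ x ∈ (S₀ : Subgroup H₀), φ x = 1 → x = 1 := by
      intro x hx h1
      obtain ⟨j, hj⟩ := IsPGroup.iff_orderOf.1 S₀.2 ⟨x, hx⟩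
      rw [Subgroup.orderOf_mk] at hj
      have h3 := Subgroup.orderOf_dvd_natCard φ.ker (MonoidHom.mem_ker.2 h1)
      rw [hj, hker] at h3
      exact orderOf_eq_one_iff.1 (hj.trans (Nat.eq_one_of_dvd_coprimes
        (hkerL.symm.pow_left j) dvd_rfl h3))
    have hdvd : k ≤ 2 * (2 * m + 1) := by
      have h1 : Nat.card (S₀ : Subgroup H₀) ∣ Nat.card (Cfsg.Sz K m) := by
        refine Subgroup.card_dvd_of_injective (φ.comp (S₀ : Subgroup H₀).subtype) ?_
        rw [← MonoidHom.ker_eq_bot_iff, Subgroup.eq_bot_iff_forall]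
        exact fun x hx => Subtype.ext (hne x x.2 hx)
      rw [hcardS₀, Cfsg.Lib.Suz.card_Sz P, mul_assoc, ← pow_mul] at h1
      have hco : Nat.Coprime (2 ^ k)
          ((2 ^ ((2 * m + 1) * 2) + 1) * (2 ^ (2 * m + 1) - 1)) := by
        refine (Nat.coprime_two_left.2 (Nat.odd_mul.2 ⟨?_, ?_⟩)).pow_left k
        · exact (Nat.even_pow.2 ⟨even_two, by omega⟩).add_one
        · exact Nat.Even.sub_odd (Nat.one_le_pow _ _ two_pos) (Nat.even_pow.2 ⟨even_two, by omega⟩) odd_one
      have h2'' := (Nat.pow_dvd_pow_iff_le_right one_lt_two).1 (hco.dvd_of_dvd_mul_right h1)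
      omega
    obtain ⟨r, hr, hrdvd, hrprim⟩ := Cfsg.Lib.Zsigmondy.zsigmondy 2 (4 * (2 * m + 1)) one_lt_two (by omega)
      (fun h => by omega) (fun h => by omega)
    have hr2 : r ≠ 2 := by
      rintro rfl
      have h1 : (2 : ℕ) ∣ 2 ^ (4 * (2 * m + 1)) := dvd_pow_self 2 (by omega)
      have h3 := Nat.dvd_sub h1 hrdvd
      rw [Nat.sub_sub_self (Nat.one_le_pow _ _ two_pos)] at h3
      omega
    have hrq : r ∣ (2 ^ (2 * m + 1)) ^ 2 + 1 := by
      have h1 : 2 ^ (4 * (2 * m + 1)) - 1 =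
          ((2 ^ (2 * m + 1)) ^ 2 + 1) * ((2 ^ (2 * m + 1)) ^ 2 - 1) := by
        rw [← Nat.sq_sub_sq, one_pow, ← pow_mul, ← pow_mul]
        congr 2
        ring
      rcases hr.dvd_mul.1 (h1 ▸ hrdvd) with h | h
      · exact h
      · exact absurd (by rwa [← pow_mul] at h) (hrprim ((2 * m + 1) * 2) (by omega) (by omega))
    have hinv : orderOf (φ s₀) = 2 := by
      refine orderOf_eq_prime ?_ fun e => hs₀1 (hne s₀ hs₀S e)
      have ht3 : t ^ 2 = 1 := orderOf_dvd_iff_pow_eq_one.1 ht.dvd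
      rw [← map_pow, show s₀ ^ 2 = 1 from Subtype.ext (by
        rw [Subgroup.coe_pow, hs₀, ← map_pow, ht3, map_one]; rfl), map_one]
    obtain ⟨g, hg⟩ := Cfsg.Lib.Components.IndexBoundSuz.exists_product P hr hrq hinv
    obtain ⟨g', hg'⟩ := hφs g
    obtain ⟨h1, h2'⟩ := Cfsg.Lib.Components.IndexBound.sq_bound (p := 2) (k := 1) (d := 4 * (2 * m + 1)) hr
      hr2 one_pos (fun i h0 hi => by rw [pow_one]; exact hrprim i h0 hi) (vSub ρ) H₀ (vSub_elem ρ)
      (le_normalizer_vSub ρ H₀) hf s₀.2 g'.2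
      (x := ((s₀ * (g' * s₀ * g'⁻¹) : H₀) : RepProd ρ)) (by
        rw [Subgroup.coe_mul, Subgroup.coe_mul, Subgroup.coe_mul, Subgroup.coe_inv]
        exact mul_mem (Subgroup.subset_closure (Or.inl rfl))
          (Subgroup.subset_closure (Or.inr rfl))) (by
        rw [pow_one, Subgroup.orderOf_coe]
        refine hg.trans ?_
        rw [← hg', ← map_inv, ← map_mul, ← map_mul, ← map_mul]
        exact orderOf_map_dvd φ _)
    rw [hrel, ← pow_mul, Nat.pow_le_pow_iff_right one_lt_two] at h1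
    rw [hcard, Nat.pow_le_pow_iff_right one_lt_two] at h2'
    exact ⟨by omega, fun n hz hn => by have := (hcount n hz hn).1; omega⟩
  · obtain ⟨f⟩ := id hiso
    set φ := f.toMonoidHom.comp φL with hφ
    have hker : φ.ker = φL.ker := ker_mulEquiv_toMonoidHom f φL
    have hr3 : 3 ≤ 2 ^ m := le_trans (by norm_num) (Nat.pow_le_pow_right two_pos hm)
    obtain ⟨h1, h2'⟩ := Cfsg.Lib.Components.IndexBoundPSU.psu_bound (p := 2) rfl hr3 hK (vSub ρ) H₀
      (vSub_elem ρ) (le_normalizer_vSub ρ H₀) hf φ (f.surjective.comp hφL) (hker ▸ hkerL) S₀ T hT hsTC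
      (fun e => hs₀1 (Subtype.ext e))
    have hdvd : k ≤ 3 * m := by
      have hinj : Function.Injective (φ.comp (S₀ : Subgroup H₀).subtype) := by
        rw [← MonoidHom.ker_eq_bot_iff, Subgroup.eq_bot_iff_forall]
        intro x hx
        obtain ⟨j, hj⟩ := IsPGroup.iff_orderOf.1 S₀.2 x
        rw [← Subgroup.orderOf_coe] at hj
        have h3 := Subgroup.orderOf_dvd_natCard φ.ker
          (show (x : H₀) ∈ φ.ker from MonoidHom.mem_ker.2 hx)
        rw [hj, hker] at h3
        exact Subtype.ext (orderOf_eq_one_iff.1 (hj.trans (Nat.eq_one_of_dvd_coprimes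
          (hkerL.symm.pow_left j) dvd_rfl h3)))
      have h4 := Subgroup.card_dvd_of_injective _ hinj
      rw [hcardS₀] at h4
      have h5 := Cfsg.Agent.S0280.result hK 3 (by norm_num)
      have h6 : Nat.card (Cfsg.PSU 3 K (2 ^ m)) ∣ (2 ^ m) ^ 3 * ((2 ^ m + 1) * (((2 ^ m) ^ 2 - 1) * ((2 ^ m) ^ 3 + 1))) := by
        refine (dvd_mul_left _ (Nat.gcd 3 (2 ^ m + 1) * (2 ^ m + 1))).trans (dvd_of_eq ?_)
        rw [mul_assoc, h5]
        simp [Finset.prod_range_succ, mul_assoc, Nat.even_iff]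
      have hev : Even (2 ^ m) := Nat.even_pow.2 ⟨even_two, by omega⟩
      have hco : Nat.Coprime (2 ^ k) ((2 ^ m + 1) * (((2 ^ m) ^ 2 - 1) * ((2 ^ m) ^ 3 + 1))) := by
        refine (Nat.coprime_two_left.2 (Nat.odd_mul.2 ⟨hev.add_one, Nat.odd_mul.2 ⟨?_, ?_⟩⟩)).pow_left k
        · exact Nat.Even.sub_odd (Nat.one_le_pow _ _ (by omega)) (Nat.even_pow.2 ⟨hev, two_ne_zero⟩) odd_one
        · exact (Nat.even_pow.2 ⟨hev, three_ne_zero⟩).add_one
      have h7 := hco.dvd_of_dvd_mul_right (h4.trans h6)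
      rw [← pow_mul, Nat.pow_dvd_pow_iff_le_right one_lt_two] at h7
      omega
    rw [hs₀, hrel, ← pow_mul, Nat.pow_le_pow_iff_right one_lt_two] at h1
    rw [hcard, ← pow_mul, Nat.pow_le_pow_iff_right one_lt_two] at h2'
    refine ⟨by omega, fun n hz hn => ?_⟩
    have h8 := ((hcount n hz hn).2).trans (F.unitary K iK iK' m hm hK hiso)
    rw [← pow_mul, Nat.pow_le_pow_iff_right one_lt_two] at h8
    omega

/-- one involution in a Sylow 2-subgroup -/
theorem rank_one_case (hH : Cfsg.IsStronglyEmbedded H) (h2 : ¬ HasCommutingInvolutions G)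
    (hρ : Function.Injective ρ) (S : Sylow 2 G) :
    (∀ k : ℕ, Nat.card (S : Subgroup G) = 2 ^ k → 2 * k ≤ Module.finrank (ZMod 2) V) ∧
      ∀ n : ℕ, (∀ z ∈ (S : Subgroup G) ⊓ centralizer ((S : Subgroup G) : Set G), z ^ 2 = 1) →
        Nat.card ↥((S : Subgroup G) ⊓ centralizer ((S : Subgroup G) : Set G)) = 2 ^ n →
        ∀ s ∈ (S : Subgroup G), s ≠ 1 → n ≤ Module.finrank (ZMod 2) (LinearMap.range (ρ s - 1)) := by
  classical
  haveI : Fact (Nat.Prime 2) := ⟨Nat.prime_two⟩
  obtain ⟨i, hiH, hi⟩ := exists_involution_of_even hH.2.1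
  have hdvd : 2 ∣ Nat.card (S : Subgroup G) :=
    (S.dvd_card_of_dvd_card (hi ▸ orderOf_dvd_natCard i))
  obtain ⟨⟨t, htS⟩, ht⟩ := exists_prime_orderOf_dvd_card' (G := (S : Subgroup G)) 2 hdvd
  rw [Subgroup.orderOf_mk] at ht
  have hcyc := isCyclic_or_quaternion_of_rankOne h2 S
  -- the central involution
  obtain ⟨z, hzS, hz, hzc⟩ : ∃ z, z ∈ (S : Subgroup G) ∧ orderOf z = 2 ∧
      ∀ x ∈ (S : Subgroup G), x * z = z * x := by
    haveI : Nontrivial (S : Subgroup G) :=
      ⟨⟨⟨t, htS⟩, 1, fun e => by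
        rw [show t = 1 from congrArg Subtype.val e, orderOf_one] at ht; omega⟩⟩
    haveI := S.2.center_nontrivial
    obtain ⟨c, hc⟩ := IsPGroup.iff_card.1 (S.2.to_subgroup (center (S : Subgroup G)))
    obtain ⟨w, hw⟩ := exists_prime_orderOf_dvd_card' (G := center (S : Subgroup G)) 2
      (hc ▸ dvd_pow_self 2 fun e => by
        rw [e, pow_zero] at hc; exact (Finite.one_lt_card (α := center (S : Subgroup G))).ne' hc)
    exact ⟨w.1.1, w.1.2, by rw [Subgroup.orderOf_coe, Subgroup.orderOf_coe, hw],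
      fun x hx => congrArg Subtype.val (mem_center_iff.1 w.2 ⟨x, hx⟩)⟩
  have huniq : ∀ s ∈ (S : Subgroup G), orderOf s = 2 → s = z := fun s hs hs2 =>
    eq_of_commute_of_rankOne h2 hs2 hz (hzc s hs)
  refine ⟨fun k hk => ?_, fun n hz2 hn s hs hs1 => ?_⟩
  · have hOz : ¬ Cfsg.oddCore G ≤ centralizer ({z} : Set G) := by
      intro hle
      obtain ⟨g, hg⟩ := exists_conj_mem hH hz
      have hle' : Cfsg.oddCore G ≤ H := by
        intro x hx
        refine StrongEmb.centralizer_le hH (by rw [orderOf_conj', hz] : orderOf (g * z * g⁻¹) = 2) hg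
          (mem_centralizer_singleton_iff.2 ?_)
        have h1 := mem_centralizer_singleton_iff.1
          (hle ((inferInstance : (Cfsg.oddCore G).Normal).conj_mem x hx g⁻¹))
        calc x * (g * z * g⁻¹) = g * (g⁻¹ * x * g⁻¹⁻¹ * z) * g⁻¹ := by group
          _ = g * (z * (g⁻¹ * x * g⁻¹⁻¹)) * g⁻¹ := by rw [h1]
          _ = _ := by group
      exact hH.1 (top_le_iff.1 (sup_eq_top_of_rankOne hH h2 ▸ sup_le hle' le_rfl))
    obtain ⟨y, hyS, hy⟩ : ∃ y ∈ (S : Subgroup G), 2 ^ k ≤ 2 * orderOf y := by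
      rcases hcyc with hc | ⟨m, hm, ⟨e⟩⟩
      · obtain ⟨g, hg⟩ := IsCyclic.exists_ofOrder_eq_natCard (α := (S : Subgroup G))
        exact ⟨g, g.2, by rw [Subgroup.orderOf_coe, hg, ← hk]; omega⟩
      · refine ⟨(e.symm (QuaternionGroup.a 1) : G), (e.symm _).2, ?_⟩
        haveI : NeZero (2 ^ m) := ⟨pow_ne_zero _ two_ne_zero⟩
        rw [Subgroup.orderOf_coe, e.symm.orderOf_eq, QuaternionGroup.orderOf_a_one, ← hk,
          Nat.card_congr e.toEquiv, Nat.card_eq_fintype_card, QuaternionGroup.card]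
        omega
    exact rank_one_bound ρ hρ S hzS hz huniq hyS hk hy _ Cfsg.Lib.ZStarApps.odd_card_pPrimeCore hOz
  · have hn1 : n ≤ 1 := by
      refine (Nat.pow_le_pow_iff_right one_lt_two).1 ?_
      rw [← hn, pow_one]
      refine le_trans (Nat.card_le_card_of_injective
        (fun w : ↥((S : Subgroup G) ⊓ centralizer ((S : Subgroup G) : Set G)) => decide ((w : G) = 1))
        fun a b h => ?_) (le_of_eq (by simp))
      by_cases ha : (a : G) = 1
      · have : (b : G) = 1 := by simpa [ha] using h.symm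
        exact Subtype.ext (ha.trans this.symm)
      · have hb : (b : G) ≠ 1 := by simpa [ha] using h.symm
        exact Subtype.ext ((huniq _ a.2.1 (orderOf_eq_prime (hz2 _ a.2) ha)).trans
          (huniq _ b.2.1 (orderOf_eq_prime (hz2 _ b.2) hb)).symm)
    refine hn1.trans ?_
    rw [Nat.one_le_iff_ne_zero, ne_eq, Submodule.finrank_eq_zero, LinearMap.range_eq_bot, sub_eq_zero]
    exact fun h => hs1 (hρ (h.trans (map_one ρ).symm))

/-- ROW 3841 -/
theorem module_dimensions_of_reg (reg : RegProp.{u}) (hH : Cfsg.IsStronglyEmbedded H) (S : Sylow 2 G)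
    (hρ : Function.Injective ρ) :
    (∀ k : ℕ, Nat.card ↥(S : Subgroup G) = 2 ^ k → 2 * k ≤ Module.finrank (ZMod 2) V) ∧
      ∀ n : ℕ, (∀ z ∈ (S : Subgroup G) ⊓ Subgroup.centralizer ((S : Subgroup G) : Set G), z ^ 2 = 1) →
        Nat.card ↥((S : Subgroup G) ⊓ Subgroup.centralizer ((S : Subgroup G) : Set G)) = 2 ^ n →
        ∀ s ∈ (S : Subgroup G), s ≠ 1 → n ≤ Module.finrank (ZMod 2) ↥(LinearMap.range (ρ s - 1)) := by
  haveI : Fact (Nat.Prime 2) := ⟨Nat.prime_two⟩
  by_cases h2 : HasCommutingInvolutions G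
  swap
  · exact rank_one_case ρ hH h2 hρ S
  obtain ⟨i, hiH, hi⟩ := exists_involution_of_even hH.2.1
  obtain ⟨k₀, hk₀⟩ := IsPGroup.iff_card.1 S.2
  obtain ⟨⟨t, htS⟩, ht⟩ := exists_prime_orderOf_dvd_card' (G := (S : Subgroup G)) 2
    (S.dvd_card_of_dvd_card (hi ▸ orderOf_dvd_natCard i))
  rw [Subgroup.orderOf_mk] at ht
  refine ⟨fun k hk => (rank_two_bound ρ reg hH h2 hρ S hk htS ht).1, fun n hz hn s hs hs1 => ?_⟩
  obtain ⟨j, hj⟩ := IsPGroup.iff_orderOf.1 S.2 ⟨s, hs⟩
  rw [Subgroup.orderOf_mk] at hj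
  have hj0 : j ≠ 0 := by rintro rfl; exact hs1 (orderOf_eq_one_iff.1 (hj.trans (pow_zero 2)))
  have hu : orderOf (s ^ (orderOf s / 2)) = 2 :=
    orderOf_pow_orderOf_div (orderOf_pos s).ne' (hj ▸ dvd_pow_self 2 hj0)
  exact ((rank_two_bound ρ reg hH h2 hρ S hk₀ (pow_mem hs _) hu).2 n hz hn).trans
    (finrank_range_pow_le ρ s _)

end Cfsg.Lib.BenderSE
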