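/-
Tightly embedded subgroups meeting their normaliser in odd order: setting, the involution to which the
criterion applies, and row 3121 from the criterion.
-/
import Cfsg.Agent.BenderSE.Dependents.CriterionGeneral
import Cfsg.Agent.PGroups.Basic
import Cfsg.Agent.OddChar.PF.OddOrder
import Cfsg.Agent.Components.GenFitting

set_option autoImplicit false
set_option linter.style.haveILetI false
set_option linter.unusedSectionVars false

namespace Cfsg.Lib.BenderSE.CritDep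

open Subgroup Cfsg.Lib.StrongEmb Cfsg.Lib.InvolCalc
open Cfsg.Lib.BenderSE.ClosedCrit (CriterionProp)

universe u

variable {G : Type u} [Group G] [Finite G] {Q N : Subgroup G}

/-- `Q` is normal in `N`, and an involution of `Q` is conjugated into `N` by elements of `N` only -/
structure Tight (Q N : Subgroup G) : Prop where
  le : Q ≤ N
  norm : N ≤ normalizer (Q : Set G)
  ne : N ≠ ⊤
  back : ∀ t ∈ Q, orderOf t = 2 → ∀ g : G, g * t * g⁻¹ ∈ N → g ∈ N
  even : Even (Nat.card Q)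

theorem tight_of_hyp (hQ : Cfsg.IsTightlyEmbedded Q)
    (hodd : ∀ g : G, g ∉ Subgroup.normalizer (Q : Set G) →
      Odd (Nat.card ↥(Q.map (MulAut.conj g).toMonoidHom ⊓ Subgroup.normalizer (Q : Set G))))
    (hn : ¬ Q.Normal) : Tight Q (Subgroup.normalizer (Q : Set G)) := by
  refine ⟨le_normalizer, le_rfl, fun h => hn (normalizer_eq_top_iff.1 h), fun t ht ht2 g hg => ?_, hQ.1⟩
  by_contra h
  refine Nat.not_even_iff_odd.2 (hodd g h) (even_iff_two_dvd.2 ?_)
  rw [← show orderOf (g * t * g⁻¹) = 2 by rw [orderOf_conj', ht2]]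
  exact Subgroup.orderOf_dvd_natCard _ (mem_inf.2 ⟨⟨t, ht, rfl⟩, hg⟩)

theorem Tight.centralizer_le (W : Tight Q N) {t : G} (ht : t ∈ Q) (ht2 : orderOf t = 2) :
    centralizer ({t} : Set G) ≤ N := fun c hc =>
  W.back t ht ht2 c (by rw [mem_centralizer_singleton_iff.1 hc, mul_inv_cancel_right]; exact W.le ht)

theorem Tight.conj_mem (W : Tight Q N) {t g : G} (ht : t ∈ Q) (ht2 : orderOf t = 2)
    (hg : g * t * g⁻¹ ∈ N) : g * t * g⁻¹ ∈ Q :=
  (mem_normalizer_iff.1 (W.norm (W.back t ht ht2 g hg)) t).1 ht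

theorem Tight.conj_mem' (W : Tight Q N) {h x : G} (hh : h ∈ N) (hx : x ∈ Q) : h * x * h⁻¹ ∈ Q :=
  (mem_normalizer_iff.1 (W.norm hh) x).1 hx

theorem exists_odd_inf {X : Subgroup G} (h : ¬ Even (Nat.card ↥(Q ⊓ X))) :
    ∀ t ∈ Q, t ∈ X → orderOf t ≠ 2 := fun t h1 h2 h3 =>
  h (even_iff_two_dvd.2 (h3 ▸ Subgroup.orderOf_dvd_natCard _ (mem_inf.2 ⟨h1, h2⟩)))

/-- an involution of `Q ⊓ X` in the centre of a Sylow subgroup of `G` -/
theorem Tight.exists_central (W : Tight Q N) (X : Subgroup G) [hX : X.Normal]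
    (h : Even (Nat.card ↥(Q ⊓ X))) :
    ∃ z ∈ Q, z ∈ X ∧ orderOf z = 2 ∧
      ∃ S : Sylow 2 G, (S : Subgroup G) ≤ N ∧ z ∈ S ∧ ∀ s ∈ S, Commute s z := by
  haveI : Fact (Nat.Prime 2) := ⟨Nat.prime_two⟩
  obtain ⟨t, ht, ht2⟩ := exists_involution_of_even h
  have hp : IsPGroup 2 (zpowers (⟨t, W.le (mem_inf.1 ht).1⟩ : N)) := IsPGroup.of_card (n := 1) (by
    rw [Nat.card_zpowers, Subgroup.orderOf_mk, ht2, pow_one])
  obtain ⟨T, hT⟩ := hp.exists_le_sylow
  set A : Subgroup N := (Q ⊓ X).subgroupOf N with hA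
  have hAn : A.Normal := ⟨fun a ha n => mem_subgroupOf.2 (mem_inf.2
    ⟨W.conj_mem' n.2 (mem_inf.1 (mem_subgroupOf.1 ha)).1, hX.conj_mem _ (mem_inf.1 (mem_subgroupOf.1 ha)).2 _⟩)⟩
  haveI := hAn
  obtain ⟨w, hw, hwc, hwo⟩ := Cfsg.Lib.PGroups.exists_mem_center_of_normal_ne_bot T.2
    (N := A.subgroupOf (T : Subgroup N)) fun hb => by
      have h1 : (⟨⟨t, W.le (mem_inf.1 ht).1⟩, hT (mem_zpowers _)⟩ : (T : Subgroup N)) ∈
          A.subgroupOf (T : Subgroup N) := mem_subgroupOf.2 (mem_subgroupOf.2 ht)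
      rw [hb, mem_bot] at h1
      have h2 : t = 1 := congrArg (fun a : (T : Subgroup N) => ((a : N) : G)) h1
      rw [h2, orderOf_one] at ht2
      exact absurd ht2 (by decide)
  set z : G := ((w : N) : G) with hz
  obtain ⟨hzQ, hzX⟩ := mem_inf.1 (show z ∈ Q ⊓ X from mem_subgroupOf.1 (mem_subgroupOf.1 hw))
  have hz2 : orderOf z = 2 := by rw [hz, Subgroup.orderOf_coe, Subgroup.orderOf_coe, hwo]
  set T' := (T : Subgroup N).map N.subtype with hT'
  obtain ⟨S, hS⟩ := (T.2.map N.subtype).exists_le_sylow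
  -- a Sylow subgroup of `N` is one of `G`
  have hST : (S : Subgroup G) ≤ T' := by
    by_contra hne
    haveI : Group.IsNilpotent (S : Subgroup G) := IsPGroup.isNilpotent S.2
    have hlt : T'.subgroupOf S < ⊤ := lt_top_iff_ne_top.2 fun h => hne (subgroupOf_eq_top.1 h)
    obtain ⟨s, hs, hsT⟩ := SetLike.exists_of_lt (Group.normalizerCondition_of_isNilpotent _ hlt)
    have hzT : (⟨z, hS ⟨(w : N), w.2, rfl⟩⟩ : (S : Subgroup G)) ∈ T'.subgroupOf S :=
      mem_subgroupOf.2 ⟨(w : N), w.2, rfl⟩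
    have hsz : (s : G) * z * (s : G)⁻¹ ∈ N := by
      obtain ⟨a, -, ha⟩ := mem_subgroupOf.1 ((mem_normalizer_iff.1 hs _).1 hzT)
      rw [show (s : G) * z * (s : G)⁻¹ = N.subtype a from ha.symm]
      exact a.2
    have hsN : (s : G) ∈ N := W.back z hzQ hz2 _ hsz
    -- `T ⊔ ⟨s⟩` is a `2`-subgroup of `N`
    have hle : (T : Subgroup N) ≤ (S : Subgroup G).subgroupOf N := fun a ha => hS ⟨a, ha, rfl⟩
    have heq := T.3 (S.2.comap_subtype (K := N)) hle
    exact hsT (mem_subgroupOf.2 ⟨⟨s, hsN⟩, heq ▸ (mem_subgroupOf.2 s.2), rfl⟩)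
  refine ⟨z, hzQ, hzX, hz2, S, fun s hs => ?_, hS ⟨(w : N), w.2, rfl⟩, fun s hs => ?_⟩
  · obtain ⟨a, -, rfl⟩ := hST hs
    exact a.2
  · obtain ⟨a, ha, rfl⟩ := hST hs
    exact congrArg (fun b : (T : Subgroup N) => ((b : N) : G)) (mem_center_iff.1 hwc ⟨a, ha⟩)

/-- the setting of the criterion in a subgroup `L` normalised by the Sylow subgroup -/
theorem Tight.pointed (W : Tight Q N) (L : Subgroup G) [L.Normal] (hL : ¬ L ≤ N) {z : G} (hzQ : z ∈ Q)
    (hzL : z ∈ L) (hz : orderOf z = 2) (S : Sylow 2 G) (hzS : z ∈ S) (hS : ∀ s ∈ S, Commute s z) :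
    Pointed (N.subgroupOf L) (⟨z, hzL⟩ : L) := by
  obtain ⟨P, hP⟩ := exists_sylow_inf S L (by rw [normalizer_eq_top_iff.2 ‹L.Normal›]; exact le_top)
  refine ⟨by rw [Subgroup.orderOf_mk, hz], ⟨P, ?_, ?_⟩, mem_subgroupOf.2 (W.le hzQ),
    fun h => hL (subgroupOf_eq_top.1 h), fun g hg => W.back z hzQ hz _ hg⟩
  · show (⟨z, hzL⟩ : L) ∈ (P : Subgroup L)
    rw [hP]; exact hzS
  · intro s hs
    replace hs : s ∈ (P : Subgroup L) := hs
    rw [hP] at hs
    exact Subtype.ext (hS (s : G) hs).eq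

/-- the criterion makes `N ⊓ L` strongly embedded in a simple normal subgroup `L` meeting `Q` evenly -/
theorem Tight.embedded_simple (crit : CriterionProp.{u}) (W : Tight Q N) (L : Subgroup G) [L.Normal]
    [IsSimpleGroup L] (hL : ¬ L ≤ N) {z : G} (hzQ : z ∈ Q) (hzL : z ∈ L) (hz : orderOf z = 2)
    (S : Sylow 2 G) (hzS : z ∈ S) (hS : ∀ s ∈ S, Commute s z) :
    Cfsg.IsStronglyEmbedded (N.subgroupOf L) := by
  refine (W.pointed L hL hzQ hzL hz S hzS hS).embedded_of_simple crit fun g hcom hne c hc => ?_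
  set y : L := g * ⟨z, hzL⟩ * g⁻¹ with hy
  have hy2 : orderOf (y : G) = 2 := by rw [hy, Subgroup.coe_mul, Subgroup.coe_mul, Subgroup.coe_inv, orderOf_conj', hz]
  have hcom' : Commute z (y : G) := congrArg Subtype.val hcom.eq
  have hyN : (y : G) ∈ N := W.centralizer_le hzQ hz (mem_centralizer_singleton_iff.2 hcom'.eq.symm)
  have hyQ : (y : G) ∈ Q := by
    have := W.conj_mem hzQ hz (g := (g : G)) hyN
    exact this
  exact mem_subgroupOf.2 (W.centralizer_le (mul_mem hzQ hyQ)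
    (order_two_mul hz hy2 hcom' fun h => hne (Subtype.ext h))
    (mem_centralizer_singleton_iff.2 (congrArg Subtype.val (mem_centralizer_singleton_iff.1 hc))))

/-- a subgroup meeting `Q` oddly and normalised by `z` is centralised by `z` modulo its odd core -/
theorem Tight.isolated_in (W : Tight Q N) (X : Subgroup G) (hX : ¬ Even (Nat.card ↥(Q ⊓ X))) {z : G}
    (hzQ : z ∈ Q) (hz : orderOf z = 2) (hzX : z ∈ normalizer (X : Set G))
    (hO : Cfsg.oddCore X = ⊥) : ∀ x ∈ X, Commute x z := by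
  intro x hx
  set Y := X ⊔ zpowers z with hY
  have hzY : z ∈ Y := mem_sup_right (mem_zpowers z)
  have hle : Y ≤ normalizer (X : Set G) := sup_le le_normalizer (zpowers_le.2 hzX)
  have hmem : ∀ y ∈ Y, ∃ a ∈ X, ∃ m : ℤ, y = a * z ^ m := fun y hy => by
    have hy' : y ∈ ((X ⊔ zpowers z : Subgroup G) : Set G) := hy
    rw [coe_mul_of_right_le_normalizer_left _ _ (zpowers_le.2 hzX)] at hy'
    obtain ⟨a, ha, w, hw, rfl⟩ := hy'
    obtain ⟨m, rfl⟩ := mem_zpowers_iff.1 hw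
    exact ⟨a, ha, m, rfl⟩
  have hzi : Cfsg.IsIsolatedInvolution (⟨z, hzY⟩ : Y) := ⟨by rw [Subgroup.orderOf_mk, hz], fun g hg => by
    obtain ⟨a, ha, m, hgm⟩ := hmem g g.2
    have e : (g : G) * z * (g : G)⁻¹ = a * z * a⁻¹ := by
      rw [hgm, show a * z ^ m * z * (a * z ^ m)⁻¹ = a * (z ^ m * z * (z ^ m)⁻¹) * a⁻¹ by group,
        ((Commute.refl z).zpow_left m).eq, mul_inv_cancel_right]
    refine Subtype.ext ?_
    show (g : G) * z * (g : G)⁻¹ = z
    rw [e]
    by_contra hne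
    have hcom : Commute z (a * z * a⁻¹) := by rw [← e]; exact congrArg Subtype.val hg
    have hyN : a * z * a⁻¹ ∈ N := W.centralizer_le hzQ hz (mem_centralizer_singleton_iff.2 hcom.eq.symm)
    refine exists_odd_inf hX _ (mul_mem hzQ (W.conj_mem hzQ hz hyN)) ?_
      (order_two_mul hz (by rw [orderOf_conj', hz]) hcom hne)
    rw [show z * (a * z * a⁻¹) = z * a * z⁻¹ * (z * z) * a⁻¹ by group, sq_of_order_two hz, mul_one]
    exact mul_mem ((mem_normalizer_iff.1 hzX a).1 ha) (inv_mem ha)⟩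
  have h1 := Cfsg.Lib.ZStarApps.zstarProp hzi ⟨x, mem_sup_left hx⟩
  set P := ((Cfsg.oddCore Y).map Y.subtype ⊓ X).subgroupOf X with hP
  haveI : P.Normal := ⟨fun p hp q => by
    obtain ⟨⟨y, hy, hye⟩, hpX⟩ := mem_inf.1 (mem_subgroupOf.1 hp)
    refine mem_subgroupOf.2 (mem_inf.2 ⟨⟨⟨q, mem_sup_left q.2⟩ * y * ⟨q, mem_sup_left q.2⟩⁻¹,
      Subgroup.Normal.conj_mem inferInstance y hy _, ?_⟩, SetLike.coe_mem _⟩)
    show (q : G) * (y : G) * (q : G)⁻¹ = _
    rw [show (y : G) = p from hye]; rfl⟩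
  have hPodd : (Nat.card P).Coprime 2 := Nat.coprime_two_right.2 (by
    refine Odd.of_dvd_nat (Cfsg.Lib.ZStarApps.odd_card_pPrimeCore (G := Y)) ?_
    rw [hP, Nat.card_congr (subgroupOfEquivOfLe inf_le_right).toEquiv,
      ← card_map_of_injective Y.subtype_injective (K := Cfsg.pPrimeCore 2 Y)]
    exact card_dvd_of_le inf_le_left)
  have hm : z * x * z⁻¹ * x⁻¹ ∈ X := mul_mem ((mem_normalizer_iff.1 hzX x).1 hx) (inv_mem hx)
  have h2 : (⟨_, hm⟩ : X) ∈ Cfsg.oddCore X := Cfsg.Lib.Components.le_pPrimeCore hPodd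
    (mem_subgroupOf.2 (mem_inf.2 ⟨⟨_, h1, rfl⟩, hm⟩))
  rw [hO, mem_bot] at h2
  have h3 : z * x * z⁻¹ * x⁻¹ = 1 := congrArg Subtype.val h2
  exact (mul_inv_eq_iff_eq_mul.1 (mul_inv_eq_one.1 h3)).symm

/-- in a simple normal subgroup with trivial centraliser, `Q` has an involution -/
theorem Tight.even_inf (W : Tight Q N) (L : Subgroup G) [L.Normal] (hs : IsSimpleGroup L)
    (hna : ¬ IsMulCommutative L) (hC : centralizer (L : Set G) = ⊥) : Even (Nat.card ↥(Q ⊓ L)) := by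
  by_contra h
  obtain ⟨z, hzQ, hz⟩ := exists_involution_of_even W.even
  have hO : Cfsg.oddCore L = ⊥ := (hs.eq_bot_or_eq_top_of_normal _ inferInstance).resolve_right fun ht => by
    have hodd : Odd (Nat.card L) := by
      have := Cfsg.Lib.ZStarApps.odd_card_pPrimeCore (G := L)
      rwa [show Cfsg.pPrimeCore 2 L = ⊤ from ht, Nat.card_congr Subgroup.topEquiv.toEquiv] at this
    haveI := Cfsg.Agent.PF.isSolvable_of_odd L hodd
    haveI := hs
    exact hna ⟨⟨IsSimpleGroup.comm_iff_isSolvable.2 inferInstance⟩⟩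
  have hc := W.isolated_in L h hzQ hz (by rw [normalizer_eq_top_iff.2 ‹L.Normal›]; exact mem_top z) hO
  have : z ∈ centralizer (L : Set G) := mem_centralizer_iff.2 fun x hx => (hc x hx).eq
  rw [hC, mem_bot] at this
  rw [this, orderOf_one] at hz
  exact absurd hz (by decide)

/-- a normal subgroup meeting `Q` evenly is not contained in `N` -/
theorem Tight.not_le (W : Tight Q N) (L : Subgroup G) [hL : L.Normal] {z : G} (hzQ : z ∈ Q)
    (hzL : z ∈ L) (hz : orderOf z = 2) : ¬ L ≤ N := fun h =>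
  W.ne (eq_top_iff.2 fun g _ => W.back z hzQ hz g (h (hL.conj_mem z hzL g)))

/-- the centraliser of a nonabelian simple generalised Fitting subgroup is trivial -/
theorem centralizer_fstar_eq_bot (hF : IsSimpleGroup ↥(Cfsg.generalizedFittingSubgroup G))
    (hF' : ¬ IsMulCommutative ↥(Cfsg.generalizedFittingSubgroup G)) :
    centralizer ((Cfsg.generalizedFittingSubgroup G : Subgroup G) : Set G) = ⊥ := by
  set L := Cfsg.generalizedFittingSubgroup G with hL
  have hle : centralizer (L : Set G) ≤ L := Cfsg.Lib.Components.centralizer_genFitting_le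
  have hc : center L = ⊥ := (hF.eq_bot_or_eq_top_of_normal _ inferInstance).resolve_right fun h =>
    hF' ⟨⟨fun a b => (mem_center_iff.1 (h ▸ mem_top b : b ∈ center L) a)⟩⟩
  refine eq_bot_iff.2 fun x hx => ?_
  have h1 : (⟨x, hle hx⟩ : L) ∈ center L :=
    mem_center_iff.2 fun y => Subtype.ext (mem_centralizer_iff.1 hx y y.2)
  rw [hc, mem_bot] at h1
  rw [mem_bot]; exact congrArg Subtype.val h1

/-- ROW 3121 from the criterion -/
theorem embedded_fstar_of_crit (crit : CriterionProp.{u})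
    (hF : IsSimpleGroup ↥(Cfsg.generalizedFittingSubgroup G))
    (hF' : ¬ IsMulCommutative ↥(Cfsg.generalizedFittingSubgroup G))
    (H : Subgroup G) (hH : Cfsg.IsTightlyEmbedded H)
    (hodd : ∀ g : G, g ∉ Subgroup.normalizer (H : Set G) →
      Odd (Nat.card ↥(H.map (MulAut.conj g).toMonoidHom ⊓ Subgroup.normalizer (H : Set G)))) :
    H.Normal ∨ ∃ M : Subgroup ↥(Cfsg.generalizedFittingSubgroup G), Cfsg.IsStronglyEmbedded M := by
  refine or_iff_not_imp_left.2 fun hn => ?_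
  haveI := hF
  have W := tight_of_hyp hH hodd hn
  haveI : (Cfsg.generalizedFittingSubgroup G).Normal := inferInstance
  obtain ⟨z, hzQ, hzL, hz, S, -, hzS, hS⟩ := W.exists_central (Cfsg.generalizedFittingSubgroup G)
    (W.even_inf _ hF hF' (centralizer_fstar_eq_bot hF hF'))
  exact ⟨_, W.embedded_simple crit _ (W.not_le _ hzQ hzL hz) hzQ hzL hz S hzS hS⟩

end Cfsg.Lib.BenderSE.CritDep
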