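/-
A strongly closed 2-subgroup `S` whose local data lie in `H`: every conjugate of a nontrivial element of `S` in
`H` comes from `H` only (rows 3289 and 1174, first step).
-/
import Cfsg.Agent.BenderSE.Dependents.TightBasic

set_option autoImplicit false
set_option linter.style.haveILetI false
set_option linter.unusedSectionVars false

namespace Cfsg.Lib.BenderSE.CritDep

open Subgroup Cfsg.Lib.StrongEmb Cfsg.Lib.InvolCalc
open Cfsg.Lib.BenderSE.ClosedCrit (CriterionProp)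

universe u

variable {G : Type u} [Group G] [Finite G] {T : Sylow 2 G} {S H : Subgroup G}

/-- the hypotheses of row 3289 -/
structure Shut (T : Sylow 2 G) (S H : Subgroup G) : Prop where
  closed : Cfsg.IsStronglyClosed S (T : Subgroup G)
  nontriv : S ≠ ⊥
  proper : H ≠ ⊤
  cent : ∀ s ∈ S, s ≠ 1 → centralizer ({s} : Set G) ≤ H
  norm : normalizer ((Cfsg.omegaOne 2 S : Subgroup G) : Set G) ≤ H

namespace Shut

variable (C : Shut T S H)
include C

theorem exists_central : ∃ z ∈ S, orderOf z = 2 ∧ z ∈ T ∧ ∀ s ∈ T, Commute s z := by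
  haveI : Fact (Nat.Prime 2) := ⟨Nat.prime_two⟩
  haveI : (S.subgroupOf (T : Subgroup G)).Normal := ⟨fun x hx t => mem_subgroupOf.2
    (C.closed.2 _ (mem_subgroupOf.1 hx) t (t * x * t⁻¹).2)⟩
  obtain ⟨w, hw, hwc, hwo⟩ := Cfsg.Lib.PGroups.exists_mem_center_of_normal_ne_bot T.2
    (N := S.subgroupOf (T : Subgroup G)) fun h => C.nontriv (by
      rw [eq_bot_iff]
      intro x hx
      have h1 : (⟨x, C.closed.1 hx⟩ : (T : Subgroup G)) ∈ S.subgroupOf (T : Subgroup G) := mem_subgroupOf.2 hx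
      rw [h, mem_bot] at h1
      exact mem_bot.2 (congrArg Subtype.val h1))
  exact ⟨w, mem_subgroupOf.1 hw, by rw [Subgroup.orderOf_coe, hwo], w.2,
    fun s hs => congrArg Subtype.val (mem_center_iff.1 hwc ⟨s, hs⟩)⟩

theorem sylow_le : (T : Subgroup G) ≤ H := by
  obtain ⟨z, hzS, hz, -, hzc⟩ := C.exists_central
  exact fun s hs => C.cent z hzS (fun h => by rw [h, orderOf_one] at hz; omega)
    (mem_centralizer_singleton_iff.2 (hzc s hs).eq)

/-- a 2-subgroup of `H` is conjugate in `H` into `T` -/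
theorem exists_conj {P : Subgroup G} (hP : IsPGroup 2 P) (hPH : P ≤ H) :
    ∃ h ∈ H, ∀ x ∈ P, h * x * h⁻¹ ∈ T := by
  haveI : Fact (Nat.Prime 2) := ⟨Nat.prime_two⟩
  obtain ⟨R, hR⟩ := (hP.comap_subtype (K := H)).exists_le_sylow
  obtain ⟨h, hh⟩ := MulAction.exists_smul_eq H R (T.subtype C.sylow_le)
  refine ⟨h, h.2, fun x hx => ?_⟩
  have h1 : h * ⟨x, hPH hx⟩ * h⁻¹ ∈ (h • R : Sylow 2 H) := ⟨_, hR (mem_subgroupOf.2 hx), rfl⟩
  rw [hh] at h1
  exact h1

/-- strong closure moves the part in `S` -/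
theorem mem_of_conj {x g : G} (hx : x ∈ S) (hT : g * x * g⁻¹ ∈ T) : g * x * g⁻¹ ∈ S := C.closed.2 x hx g hT

/-- a normaliser of a subgroup of `T` normalises its part in `S` -/
theorem normalizer_le {P : Subgroup G} (hP : P ≤ T) : normalizer (P : Set G) ≤ normalizer ((P ⊓ S : Subgroup G) : Set G) :=
  fun n hn => mem_normalizer_of_maps_to fun x hx => by
    obtain ⟨hxP, hxS⟩ := mem_inf.1 hx
    have h1 := (mem_normalizer_iff.1 hn x).1 hxP
    exact mem_inf.2 ⟨h1, C.mem_of_conj hxS (hP h1)⟩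

/-- the normaliser of every nontrivial subgroup of `S` lies in `H` -/
theorem normalizer_sub_le : ∀ (m : ℕ) (W : Subgroup G), Nat.card S - Nat.card W = m → W ≤ S → W ≠ ⊥ →
    normalizer (W : Set G) ≤ H := by
  haveI : Fact (Nat.Prime 2) := ⟨Nat.prime_two⟩
  intro m
  induction m using Nat.strong_induction_on with
  | _ m ih =>
  intro W hm hWS hW
  by_cases hall : W = S
  · subst hall
    refine le_trans (fun n hn => mem_normalizer_of_maps_to fun x hx => ?_) C.norm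
    refine (closure_le ((Cfsg.omegaOne 2 W).comap (MulAut.conj n).toMonoidHom)).2 (fun y hy => ?_) hx
    refine subset_closure ⟨(mem_normalizer_iff.1 hn y).1 hy.1, ?_⟩
    simp only [MulEquiv.coe_toMonoidHom, MulAut.conj_apply]
    rw [conj_pow, hy.2, mul_one, mul_inv_cancel]
  set Y := normalizer (W : Set G) with hY
  have h2Y : ∀ P : Subgroup G, IsPGroup 2 P → P ≤ Y → P ≤ H := fun P hP hPY p hp => by
    have hsup : IsPGroup 2 (W ⊔ zpowers p : Subgroup G) := IsPGroup.to_sup_of_normal_left'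
      (T.2.to_le (hWS.trans C.closed.1)) (hP.to_le (zpowers_le.2 hp)) (zpowers_le.2 (hPY hp))
    haveI : (W.subgroupOf (W ⊔ zpowers p)).Normal :=
      (normal_subgroupOf_iff_le_normalizer le_sup_left).2 (sup_le le_normalizer (zpowers_le.2 (hPY hp)))
    obtain ⟨w, hw, hwc, hwo⟩ := Cfsg.Lib.PGroups.exists_mem_center_of_normal_ne_bot hsup
      (N := W.subgroupOf (W ⊔ zpowers p)) fun h => hW (by
        rwa [subgroupOf_eq_bot, disjoint_iff, inf_eq_left.2 (le_sup_left : W ≤ W ⊔ zpowers p)] at h)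
    refine C.cent w (hWS (mem_subgroupOf.1 hw)) (fun h => ?_) (mem_centralizer_singleton_iff.2
      (congrArg Subtype.val (mem_center_iff.1 hwc ⟨p, mem_sup_right (mem_zpowers p)⟩)))
    have h1 : orderOf (w : G) = 2 := by rw [Subgroup.orderOf_coe, hwo]
    rw [h, orderOf_one] at h1; omega
  -- the part of `S` normalising `W` is bigger
  set Q := S ⊓ Y with hQ
  have hQ2 : IsPGroup 2 Q := T.2.to_le (inf_le_left.trans C.closed.1)
  have hWQ : W < Q := by
    refine lt_of_le_of_ne (le_inf hWS le_normalizer) fun he => hall ?_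
    haveI : Group.IsNilpotent S := (T.2.to_le C.closed.1).isNilpotent
    refine le_antisymm hWS (subgroupOf_eq_top.1 ?_)
    by_contra hne
    obtain ⟨s, hs, hsW⟩ := SetLike.exists_of_lt
      (Group.normalizerCondition_of_isNilpotent (W.subgroupOf S) (lt_top_iff_ne_top.2 hne))
    refine hsW (mem_subgroupOf.2 (he.symm ▸ mem_inf.2 ⟨s.2, mem_normalizer_of_maps_to fun x hx => ?_⟩))
    exact mem_subgroupOf.1 ((mem_normalizer_iff.1 hs ⟨x, hWS hx⟩).1 (mem_subgroupOf.2 hx))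
  obtain ⟨R, hR⟩ := (hQ2.comap_subtype (K := Y)).exists_le_sylow
  set P := (R : Subgroup Y).map Y.subtype with hP
  have hPp : IsPGroup 2 P := R.2.map _
  have hPY : P ≤ Y := map_subtype_le _
  have hQP : Q ≤ P := fun x hx => ⟨⟨x, (mem_inf.1 hx).2⟩, hR (mem_subgroupOf.2 hx), rfl⟩
  obtain ⟨h, hh, hhT⟩ := C.exists_conj hPp (h2Y P hPp hPY)
  set P' := P.map (MulAut.conj h).toMonoidHom with hP'
  have hP'T : P' ≤ T := by
    rintro _ ⟨x, hx, rfl⟩
    exact hhT x hx
  have hbig : Q.map (MulAut.conj h).toMonoidHom ≤ P' ⊓ S := by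
    rintro _ ⟨x, hx, rfl⟩
    exact mem_inf.2 ⟨mem_map_of_mem _ (hQP hx), C.mem_of_conj (mem_inf.1 hx).1 (hhT x (hQP hx))⟩
  have hcard : Nat.card W < Nat.card ↥(P' ⊓ S) := by
    refine lt_of_lt_of_le ?_ (card_le_of_le hbig)
    rw [card_map_of_injective (MulAut.conj h).injective]
    exact lt_of_le_of_ne (card_le_of_le hWQ.le) fun e => hWQ.ne (eq_of_le_of_card_ge hWQ.le e.ge)
  have hP'ne : P' ⊓ S ≠ ⊥ := fun e => by
    rw [e, card_bot] at hcard
    exact absurd hcard (not_lt.2 Nat.card_pos)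
  have hle := card_le_of_le (inf_le_right : P' ⊓ S ≤ S)
  have hNP : normalizer (P' : Set G) ≤ H :=
    (C.normalizer_le hP'T).trans (ih _ (by omega) (P' ⊓ S) rfl inf_le_right hP'ne)
  intro y hy
  -- Frattini inside `Y ⊓ H`
  set RH := H.subgroupOf Y with hRH
  have hRle : ∀ R' : Sylow 2 Y, (R' : Subgroup Y) ≤ RH := fun R' x hx => mem_subgroupOf.2
    (h2Y _ (R'.2.map Y.subtype) (map_subtype_le _) ⟨x, hx, rfl⟩)
  obtain ⟨r, hr⟩ := MulAction.exists_smul_eq RH (R.subtype (hRle R))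
    (((⟨y, hy⟩ : Y) • R).subtype (hRle _))
  have hr' : ((r : Y)) • R = (⟨y, hy⟩ : Y) • R := by
    have := congrArg (fun Q : Sylow 2 RH => (Q : Subgroup RH).map RH.subtype) hr
    refine Sylow.ext ?_
    simp [Sylow.smul_subtype, hRle] at this
    exact this
  set n : Y := (r : Y)⁻¹ * ⟨y, hy⟩ with hn
  have hnR : n • R = R := by rw [hn, mul_smul, ← hr', inv_smul_smul]
  have hnP : h * (n : G) * h⁻¹ ∈ normalizer (P' : Set G) := mem_normalizer_of_maps_to fun x hx => by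
    obtain ⟨_, ⟨p, hp, rfl⟩, rfl⟩ := hx
    have h1 : n * p * n⁻¹ ∈ (n • R : Sylow 2 Y) := ⟨p, hp, rfl⟩
    rw [hnR] at h1
    refine ⟨(n : G) * (p : G) * (n : G)⁻¹, ⟨_, h1, rfl⟩, ?_⟩
    simp only [MulEquiv.coe_toMonoidHom, MulAut.conj_apply, Subgroup.coe_subtype]
    group
  have h1 := mul_mem (mul_mem (inv_mem hh) (hNP hnP)) hh
  rw [show h⁻¹ * (h * (n : G) * h⁻¹) * h = n by group] at h1
  have h2 := mul_mem (mem_subgroupOf.1 r.2) h1
  rwa [hn, Subgroup.coe_mul, Subgroup.coe_inv, mul_inv_cancel_left] at h2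

/-- a conjugate in `H` of a nontrivial element of `S` comes from `H` only -/
theorem isolated {s g : G} (hs : s ∈ S) (hs1 : s ≠ 1) (hg : g * s * g⁻¹ ∈ H) : g ∈ H := by
  classical
  haveI : Fact (Nat.Prime 2) := ⟨Nat.prime_two⟩
  by_contra hgH
  set good : Subgroup G → Prop := fun P => P ≤ T ∧ P ⊓ S ≠ ⊥ ∧ ∃ g : G, g ∉ H ∧ ∀ x ∈ P, g⁻¹ * x * g ∈ T
  have h0 : ∃ P, good P := by
    have hp : IsPGroup 2 (zpowers (g * s * g⁻¹)) := by
      have := (T.2.to_le (zpowers_le.2 (C.closed.1 hs))).map (MulAut.conj g).toMonoidHom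
      rwa [MonoidHom.map_zpowers] at this
    obtain ⟨h, hh, hhT⟩ := C.exists_conj hp (zpowers_le.2 hg)
    have e : h * (g * s * g⁻¹) * h⁻¹ = h * g * s * (h * g)⁻¹ := by group
    have hT := hhT _ (mem_zpowers _)
    rw [e] at hT
    refine ⟨zpowers (h * g * s * (h * g)⁻¹), zpowers_le.2 hT, fun hb => ?_, h * g,
      fun hm => hgH ((mul_mem_cancel_left hh).1 hm), fun x hx => ?_⟩
    · have h1 : h * g * s * (h * g)⁻¹ ∈ (⊥ : Subgroup G) := hb ▸ mem_inf.2 ⟨mem_zpowers _, C.mem_of_conj hs hT⟩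
      exact hs1 (conj_eq_one_iff.1 (mem_bot.1 h1))
    · obtain ⟨j, rfl⟩ := mem_zpowers_iff.1 hx
      rw [conj_zpow, show (h * g)⁻¹ * (h * g * s ^ j * (h * g)⁻¹) * (h * g) = s ^ j by group]
      exact zpow_mem (C.closed.1 hs) j
  obtain ⟨P, ⟨hPT, hPS, a, haH, ha⟩, hmax⟩ := Set.Finite.exists_maximalFor (fun P : Subgroup G => Nat.card P)
    {P | good P} (Set.toFinite _) h0
  set P₀ := P.map (MulAut.conj a⁻¹).toMonoidHom with hP₀
  have hP₀T : P₀ ≤ T := by
    rintro _ ⟨x, hx, rfl⟩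
    show a⁻¹ * x * a⁻¹⁻¹ ∈ T
    rw [inv_inv]
    exact ha x hx
  have hne : P ⊓ S ≤ S := inf_le_right
  have hNP : normalizer (P : Set G) ≤ H := (C.normalizer_le hPT).trans (C.normalizer_sub_le _ _ rfl hne hPS)
  by_cases hPtop : P₀ = T
  · -- `a` normalises `T`
    have hPeq : P = T := eq_of_le_of_card_ge hPT (by
      rw [← hPtop, hP₀, card_map_of_injective (MulAut.conj a⁻¹).injective])
    refine haH (inv_mem_iff.1 (hNP (mem_normalizer_of_maps_to fun x hx => ?_)))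
    rw [inv_inv, hPeq]
    exact ha x hx
  haveI : Group.IsNilpotent (T : Subgroup G) := T.2.isNilpotent
  obtain ⟨q, hq, hqP⟩ := SetLike.exists_of_lt (Group.normalizerCondition_of_isNilpotent (P₀.subgroupOf T)
    (lt_top_iff_ne_top.2 fun h => hPtop (le_antisymm hP₀T (subgroupOf_eq_top.1 h))))
  set Q₀ := P₀ ⊔ zpowers (q : G) with hQ₀
  have hQ₀T : Q₀ ≤ T := sup_le hP₀T (zpowers_le.2 q.2)
  set Q := Q₀.map (MulAut.conj a).toMonoidHom with hQdef
  have hQp : IsPGroup 2 Q := (T.2.to_le hQ₀T).map _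
  have hQN : Q ≤ normalizer (P : Set G) := by
    rw [hQdef, map_le_iff_le_comap]
    refine sup_le ?_ (zpowers_le.2 ?_)
    · rintro _ ⟨x, hx, rfl⟩
      simpa [mul_assoc] using le_normalizer (H := P) hx
    · refine mem_normalizer_of_maps_to fun x hx => ?_
      have h1 : (⟨a⁻¹ * x * a, ha x hx⟩ : (T : Subgroup G)) ∈ P₀.subgroupOf T :=
        mem_subgroupOf.2 ⟨x, hx, by simp⟩
      obtain ⟨y, hy, hye⟩ := mem_subgroupOf.1 ((mem_normalizer_iff.1 hq _).1 h1)
      simp only [MulEquiv.coe_toMonoidHom, MulAut.conj_apply, inv_inv, Subgroup.coe_mul,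
        Subgroup.coe_inv] at hye ⊢
      have e : a * (q : G) * a⁻¹ * x * (a * (q : G) * a⁻¹)⁻¹ = y :=
        calc a * (q : G) * a⁻¹ * x * (a * (q : G) * a⁻¹)⁻¹
            = a * ((q : G) * (a⁻¹ * x * a) * (q : G)⁻¹) * a⁻¹ := by group
          _ = a * (a⁻¹ * y * a) * a⁻¹ := by rw [hye]
          _ = y := by group
      rw [e]
      exact hy
  obtain ⟨h, hh, hhT⟩ := C.exists_conj hQp (hQN.trans hNP)
  set P' := Q.map (MulAut.conj h).toMonoidHom with hP'
  have hPQ : P ≤ Q := fun x hx => ⟨a⁻¹ * x * a, mem_sup_left ⟨x, hx, by simp⟩, by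
    simp only [MulEquiv.coe_toMonoidHom, MulAut.conj_apply]; group⟩
  have hgood : good P' := by
    refine ⟨?_, fun hb => ?_, h * a, fun hm => haH ((mul_mem_cancel_left hh).1 hm), ?_⟩
    · rintro _ ⟨x, hx, rfl⟩
      exact hhT x hx
    · obtain ⟨⟨w, hw⟩, hw1⟩ := ne_bot_iff_exists_ne_one.1 hPS
      have h1 : h * w * h⁻¹ ∈ P' ⊓ S := mem_inf.2
        ⟨⟨w, hPQ (mem_inf.1 hw).1, rfl⟩, C.mem_of_conj (mem_inf.1 hw).2 (hhT w (hPQ (mem_inf.1 hw).1))⟩
      rw [hb, mem_bot] at h1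
      exact hw1 (Subtype.ext (conj_eq_one_iff.1 h1))
    · rintro _ ⟨_, ⟨x, hx, rfl⟩, rfl⟩
      simp only [MulEquiv.coe_toMonoidHom, MulAut.conj_apply]
      rw [show (h * a)⁻¹ * (h * (a * x * a⁻¹) * h⁻¹) * (h * a) = x by group]
      exact hQ₀T hx
  have h1 : Nat.card P < Nat.card P' := by
    rw [hP', card_map_of_injective (MulAut.conj h).injective, hQdef,
      card_map_of_injective (MulAut.conj a).injective,
      show Nat.card P = Nat.card P₀ from
        (card_map_of_injective (f := (MulAut.conj a⁻¹).toMonoidHom) (MulAut.conj a⁻¹).injective).symm]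
    refine lt_of_le_of_ne (card_le_of_le le_sup_left) fun e => hqP (mem_subgroupOf.2 ?_)
    rw [eq_of_le_of_card_ge (le_sup_left : P₀ ≤ Q₀) e.ge]
    exact mem_sup_right (mem_zpowers _)
  exact absurd (hmax hgood h1.le) (not_le.2 h1)

/-- conjugates of elements of `S` commuting in `H` lie together in one conjugate of `S` -/
theorem conj_pair {x y : G} (hc : Commute x y) {a b : G} {s t : G} (hs : s ∈ S) (ht : t ∈ S)
    (hx : x = a * s * a⁻¹) (hy : y = b * t * b⁻¹) (hxH : x ∈ H) (hyH : y ∈ H) :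
    ∃ h ∈ H, h * x * h⁻¹ ∈ S ∧ h * y * h⁻¹ ∈ S := by
  have hp : ∀ {r : G}, r ∈ S → ∀ c : G, IsPGroup 2 (zpowers (c * r * c⁻¹)) := fun {r} hr c => by
    have := (T.2.to_le (zpowers_le.2 (C.closed.1 hr))).map (MulAut.conj c).toMonoidHom
    rwa [MonoidHom.map_zpowers] at this
  haveI : Fact (Nat.Prime 2) := ⟨Nat.prime_two⟩
  have hnorm : zpowers y ≤ normalizer ((zpowers x : Subgroup G) : Set G) := zpowers_le.2
    (centralizer_le_normalizer _ (mem_centralizer_iff.2 fun w hw => by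
      obtain ⟨j, rfl⟩ := mem_zpowers_iff.1 hw
      exact (hc.zpow_left j).eq))
  obtain ⟨h, hh, hhT⟩ := C.exists_conj (P := zpowers x ⊔ zpowers y)
    (IsPGroup.to_sup_of_normal_left' (hx ▸ hp hs a) (hy ▸ hp ht b) hnorm)
    (sup_le (zpowers_le.2 hxH) (zpowers_le.2 hyH))
  refine ⟨h, hh, ?_, ?_⟩
  · have h1 := hhT x (mem_sup_left (mem_zpowers x))
    rw [hx, show h * (a * s * a⁻¹) * h⁻¹ = h * a * s * (h * a)⁻¹ by group] at h1 ⊢
    exact C.mem_of_conj hs h1
  · have h1 := hhT y (mem_sup_right (mem_zpowers y))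
    rw [hy, show h * (b * t * b⁻¹) * h⁻¹ = h * b * t * (h * b)⁻¹ by group] at h1 ⊢
    exact C.mem_of_conj ht h1

/-- the setting of the criterion -/
theorem pointed {z : G} (hzS : z ∈ S) (hz : orderOf z = 2) (hzc : ∀ s ∈ T, Commute s z) : Pointed H z :=
  ⟨hz, ⟨T, C.closed.1 hzS, hzc⟩, C.sylow_le (C.closed.1 hzS), C.proper,
    fun g hg => C.isolated hzS (fun h => by rw [h, orderOf_one] at hz; omega) hg⟩

/-- third hypothesis of the criterion -/
theorem centralizer_mul_le {z : G} (hzS : z ∈ S) (hz : orderOf z = 2) (g : G) (hc : Commute z (g * z * g⁻¹))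
    (hne : g * z * g⁻¹ ≠ z) : centralizer ({z * (g * z * g⁻¹)} : Set G) ≤ H := by
  have hz1 : z ≠ 1 := fun h => by rw [h, orderOf_one] at hz; omega
  have hzH : z ∈ H := C.sylow_le (C.closed.1 hzS)
  have hyH : g * z * g⁻¹ ∈ H := C.cent z hzS hz1 (mem_centralizer_singleton_iff.2 hc.eq.symm)
  obtain ⟨h, hh, h1, h2⟩ := C.conj_pair hc (a := 1) (b := g) hzS hzS (by group) rfl hzH hyH
  have h3 := mul_mem h1 h2
  intro c hc'
  have h4 : h * c * h⁻¹ ∈ centralizer ({h * z * h⁻¹ * (h * (g * z * g⁻¹) * h⁻¹)} : Set G) := by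
    rw [mem_centralizer_singleton_iff, show h * z * h⁻¹ * (h * (g * z * g⁻¹) * h⁻¹) = h * (z * (g * z * g⁻¹)) * h⁻¹ by group]
    have h5 := mem_centralizer_singleton_iff.1 hc'
    calc h * c * h⁻¹ * (h * (z * (g * z * g⁻¹)) * h⁻¹) = h * (c * (z * (g * z * g⁻¹))) * h⁻¹ := by group
      _ = h * (z * (g * z * g⁻¹) * c) * h⁻¹ := by rw [h5]
      _ = _ := by group
  have h6 := C.cent _ h3 (fun e => hne ?_) h4
  · have := mul_mem (mul_mem (inv_mem hh) h6) hh
    rwa [show h⁻¹ * (h * c * h⁻¹) * h = c by group] at this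
  · have e' : z * (g * z * g⁻¹) = 1 := conj_eq_one_iff.1
      (show h * (z * (g * z * g⁻¹)) * h⁻¹ = 1 by rw [← e]; group)
    rw [mul_eq_one_iff_inv_eq, inv_of_order_two hz] at e'
    exact e'.symm

/-- in a simple group the criterion makes `H` strongly embedded -/
theorem embedded_of_simple (crit : CriterionProp.{u}) [IsSimpleGroup G] : Cfsg.IsStronglyEmbedded H := by
  obtain ⟨z, hzS, hz, -, hzc⟩ := C.exists_central
  exact (C.pointed hzS hz hzc).embedded_of_simple crit (C.centralizer_mul_le hzS hz)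

end Shut

/-- ROW 1174 from the criterion -/
theorem proper_closure_of_crit (crit : CriterionProp.{u}) [IsSimpleGroup G] (P : Sylow 2 G) (A : Subgroup G)
    (hA : A ≠ ⊥) (hc : Cfsg.IsStronglyClosed A (P : Subgroup G))
    (hprop : (⨆ t : {t : G // t ∈ A ∧ orderOf t = 2}, centralizer ({(t : G)} : Set G)) ≠ ⊤) :
    ∃ H : Subgroup G, Cfsg.IsStronglyEmbedded H := by
  set H₀ := ⨆ t : {t : G // t ∈ A ∧ orderOf t = 2}, centralizer ({(t : G)} : Set G) with hH₀
  set N := normalizer ((Cfsg.omegaOne 2 A : Subgroup G) : Set G) with hN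
  have hΩ : Cfsg.omegaOne 2 A ≤ A := (closure_le _).2 fun x hx => hx.1
  have hNH : N ≤ normalizer (H₀ : Set G) := fun n hn => mem_normalizer_of_maps_to fun x hx => by
    have hle : H₀ ≤ H₀.comap (MulAut.conj n).toMonoidHom := iSup_le fun t c hc' => by
      have ht : (t : G) ∈ Cfsg.omegaOne 2 A := subset_closure ⟨t.2.1, by
        rw [pow_two]; exact sq_of_order_two t.2.2⟩
      have h2 : n * (t : G) * n⁻¹ ∈ A := hΩ ((mem_normalizer_iff.1 hn _).1 ht)
      refine mem_iSup_of_mem ⟨n * (t : G) * n⁻¹, h2, by rw [orderOf_conj', t.2.2]⟩ ?_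
      refine mem_centralizer_singleton_iff.2 ?_
      simp only [MulEquiv.coe_toMonoidHom, MulAut.conj_apply]
      calc n * c * n⁻¹ * (n * (t : G) * n⁻¹) = n * (c * (t : G)) * n⁻¹ := by group
        _ = n * ((t : G) * c) * n⁻¹ := by rw [mem_centralizer_singleton_iff.1 hc']
        _ = _ := by group
    exact hle hx
  have hcent : ∀ s ∈ A, s ≠ 1 → centralizer ({s} : Set G) ≤ H₀ ⊔ N := by
    intro s hs hs1
    haveI : Fact (Nat.Prime 2) := ⟨Nat.prime_two⟩
    have hev : Even (Nat.card (zpowers s)) := by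
      have hp : IsPGroup 2 (zpowers s) := P.2.to_le (zpowers_le.2 (hc.1 hs))
      obtain ⟨k, hk⟩ := IsPGroup.iff_card.1 hp
      rcases k.eq_zero_or_pos with rfl | hk0
      · exact absurd (orderOf_eq_one_iff.1 (by rw [← Nat.card_zpowers, hk, pow_zero])) hs1
      · rw [hk]; exact Nat.even_pow.2 ⟨even_two, hk0.ne'⟩
    obtain ⟨t, ht, ht2⟩ := exists_involution_of_even hev
    intro c hc'
    refine mem_sup_left (mem_iSup_of_mem ⟨t, zpowers_le.2 hs ht, ht2⟩ (mem_centralizer_singleton_iff.2 ?_))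
    obtain ⟨j, rfl⟩ := mem_zpowers_iff.1 ht
    exact ((show Commute c s from mem_centralizer_singleton_iff.1 hc').zpow_right j).eq
  refine ⟨H₀ ⊔ N, Shut.embedded_of_simple (T := P) (S := A) ⟨hc, hA, fun htop => ?_, hcent, le_sup_right⟩ crit⟩
  have hn : H₀.Normal := normalizer_eq_top_iff.1 (top_le_iff.1 (htop.symm.le.trans (sup_le le_normalizer hNH)))
  rcases IsSimpleGroup.eq_bot_or_eq_top_of_normal H₀ hn with h | h
  · rw [h, bot_sup_eq] at hcent
    haveI : Fact (Nat.Prime 2) := ⟨Nat.prime_two⟩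
    have hev : Even (Nat.card A) := by
      obtain ⟨k, hk⟩ := IsPGroup.iff_card.1 (P.2.to_le hc.1)
      rcases k.eq_zero_or_pos with rfl | hk0
      · exact absurd (eq_bot_of_card_eq A (by rw [hk, pow_zero])) hA
      · rw [hk]; exact Nat.even_pow.2 ⟨even_two, hk0.ne'⟩
    obtain ⟨t, ht, ht2⟩ := exists_involution_of_even hev
    have h1 : t ∈ H₀ := mem_iSup_of_mem ⟨t, ht, ht2⟩ (mem_centralizer_singleton_iff.2 rfl)
    rw [h, mem_bot] at h1
    rw [h1, orderOf_one] at ht2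
    omega
  · exact hprop h

end Cfsg.Lib.BenderSE.CritDep
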