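/-
Tightly embedded subgroups meeting their normaliser in odd order: when a simple normal subgroup has a
strongly embedded subgroup, the 2-part of `Q` lies inside it (row 1911, last step).
-/
import Cfsg.Agent.BenderSE.Dependents.TightBasic
import Cfsg.Agent.BenderSE.Dependents.Frame
import Cfsg.Agent.Coprime.Action

set_option autoImplicit false
set_option linter.style.haveILetI false
set_option linter.unusedSectionVars false

namespace Cfsg.Lib.BenderSE.CritDep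

open Subgroup Cfsg.Lib.StrongEmb Cfsg.Lib.InvolCalc

universe u

variable {G : Type u} [Group G] [Finite G] {Q N : Subgroup G}

/-- the involutions of `N` in the normal closure of `Q` lie in `Q` -/
def InvolIn (Q N : Subgroup G) : Prop :=
  ∀ i ∈ N, i ∈ Subgroup.normalClosure (Q : Set G) → orderOf i = 2 → i ∈ Q

theorem Tight.embedded_of_invol (W : Tight Q N) (h : InvolIn Q N) :
    Cfsg.IsStronglyEmbedded (N.subgroupOf (Subgroup.normalClosure (Q : Set G))) := by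
  set K := Subgroup.normalClosure (Q : Set G) with hK
  obtain ⟨z, hzQ, hz⟩ := exists_involution_of_even W.even
  have hzK : z ∈ K := subset_normalClosure hzQ
  refine ⟨fun ht => W.not_le K hzQ hzK hz (subgroupOf_eq_top.1 ht), ?_, fun g hg => ?_⟩
  · exact even_iff_two_dvd.2 ((show orderOf (⟨z, hzK⟩ : K) = 2 by rw [Subgroup.orderOf_mk, hz]) ▸
      Subgroup.orderOf_dvd_natCard _ (mem_subgroupOf.2 (W.le hzQ)))
  · rw [← Nat.not_even_iff_odd]
    intro hev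
    obtain ⟨t, ht, ht2⟩ := exists_involution_of_even hev
    obtain ⟨ht1, y, hy, hye⟩ := mem_inf.1 ht
    have hye' : (g : G) * (y : G) * (g : G)⁻¹ = t := congrArg Subtype.val hye
    have hy2 : orderOf (y : G) = 2 := by
      rw [← orderOf_conj' (g : G) (y : G), hye', Subgroup.orderOf_coe, ht2]
    have hyQ := h _ hy y.2 hy2
    exact hg (mem_subgroupOf.2 (W.back _ hyQ hy2 _ (hye'.symm ▸ ht1)))

/-- an involution in the coset of an element of odd order of `N` modulo `Q` is in `Q` -/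
theorem Tight.mem_of_odd (W : Tight Q N) {o q : G} (ho : o ∈ N) (hq : q ∈ Q) (hodd : Odd (orderOf o))
    (hi : (o * q) * (o * q) = 1) : o * q ∈ Q := by
  haveI : (Q.subgroupOf N).Normal := (normal_subgroupOf_iff_le_normalizer W.le).2 W.norm
  set π := QuotientGroup.mk' (Q.subgroupOf N)
  have h1 : π ⟨o * q, mul_mem ho (W.le hq)⟩ = π ⟨o, ho⟩ := by
    rw [show (⟨o * q, mul_mem ho (W.le hq)⟩ : N) = ⟨o, ho⟩ * ⟨q, W.le hq⟩ from rfl, map_mul,
      show π ⟨q, W.le hq⟩ = 1 from (QuotientGroup.eq_one_iff _).2 (mem_subgroupOf.2 hq), mul_one]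
  have h2 : orderOf (π ⟨o, ho⟩) ∣ 2 := orderOf_dvd_of_pow_eq_one (by
    rw [pow_two, ← h1, ← map_mul, show (⟨o * q, mul_mem ho (W.le hq)⟩ : N) * ⟨o * q, _⟩ = 1 from
      Subtype.ext hi, map_one])
  have h3 : orderOf (π ⟨o, ho⟩) ∣ orderOf o := (Subgroup.orderOf_mk o ho) ▸ orderOf_map_dvd π ⟨o, ho⟩
  have h4 : orderOf (π ⟨o, ho⟩) = 1 := Nat.dvd_one.1 ((Nat.coprime_two_left.2 hodd) ▸ Nat.dvd_gcd h2 h3)
  exact mul_mem (mem_subgroupOf.1 ((QuotientGroup.eq_one_iff _).1 (orderOf_eq_one_iff.1 h4))) hq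

/-- an element of `Q` and of a conjugate of `N` away from `N` has odd order -/
theorem Tight.odd_order (W : Tight Q N) {u g : G} (hu : u ∈ Q) (hg : g ∉ N) (hgu : g⁻¹ * u * g ∈ N) :
    Odd (orderOf u) := by
  rw [← Nat.not_even_iff_odd]
  intro he
  obtain ⟨m, hm⟩ := he
  have hpos := orderOf_pos u
  have ht : orderOf (u ^ m) = 2 := by
    rw [orderOf_pow' _ (by omega), hm, ← two_mul,
      Nat.gcd_eq_right (dvd_mul_left m 2), Nat.mul_div_cancel _ (by omega)]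
  refine hg (inv_mem_iff.1 (W.back _ (pow_mem hu m) ht g⁻¹ ?_))
  rw [inv_inv, show g⁻¹ * u ^ m * g = (g⁻¹ * u * g) ^ m by
    rw [show g⁻¹ * u * g = g⁻¹ * u * g⁻¹⁻¹ by rw [inv_inv], conj_pow, inv_inv]]
  exact pow_mem hgu m

/-- inside a simple normal subgroup with a strongly embedded subgroup lie the 2-elements of `Q` -/
theorem Tight.invol_of_simple (reg : RegProp.{u}) (W : Tight Q N) (L : Subgroup G) [hLn : L.Normal]
    [IsSimpleGroup L] (hse : Cfsg.IsStronglyEmbedded (N.subgroupOf L)) {z : G} (hzQ : z ∈ Q) (hzL : z ∈ L)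
    (hz : orderOf z = 2) : InvolIn Q N := by
  haveI : Fact (Nat.Prime 2) := ⟨Nat.prime_two⟩
  have hLN := W.not_le L hzQ hzL hz
  have hna : ¬ IsMulCommutative L := fun h => hLN fun l hl => W.centralizer_le hzQ hz
    (mem_centralizer_singleton_iff.2 (congrArg Subtype.val (h.is_comm.comm ⟨l, hl⟩ ⟨z, hzL⟩)))
  have hzL2 : orderOf (⟨z, hzL⟩ : L) = 2 := by rw [Subgroup.orderOf_mk, hz]
  obtain ⟨L', P, F⟩ := exists_frame reg (H := N.subgroupOf L)
    ⟨hse, normalCore_eq_bot_of_simple hse, comm_of_nonab hse hna⟩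
  set PG := P.map L.subtype with hPG
  have hPN : ∀ x ∈ PG, x ∈ N ∧ x ∈ L := by
    rintro _ ⟨x, hx, rfl⟩
    exact ⟨F.qle hx, x.2⟩
  have hP2 : IsPGroup 2 PG := F.q2.map L.subtype
  -- `N` normalises `PG`
  have hNP : ∀ n ∈ N, ∀ x ∈ PG, n * x * n⁻¹ ∈ PG := by
    intro n hn x hx
    obtain ⟨S, hS⟩ := F.sylow
    obtain ⟨hxN, hxL⟩ := hPN x hx
    have hyL : n * x * n⁻¹ ∈ L := hLn.conj_mem x hxL n
    set y : L := ⟨n * x * n⁻¹, hyL⟩ with hy
    have hyH : y ∈ N.subgroupOf L := mem_subgroupOf.2 (mul_mem (mul_mem hn hxN) (inv_mem hn))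
    have hy2 : IsPGroup 2 (zpowers y) := by
      obtain ⟨k, hk⟩ := hP2 ⟨x, hx⟩
      have hk' : x ^ 2 ^ k = 1 := congrArg Subtype.val hk
      obtain ⟨j, -, hj⟩ := (Nat.dvd_prime_pow Nat.prime_two).1 (show orderOf y ∣ 2 ^ k by
        rw [← Subgroup.orderOf_coe, hy, orderOf_conj']
        exact orderOf_dvd_of_pow_eq_one hk')
      exact IsPGroup.of_card (n := j) (by rw [Nat.card_zpowers, hj])
    have hsup : IsPGroup 2 (P ⊔ zpowers y : Subgroup L) :=
      IsPGroup.to_sup_of_normal_left' F.q2 hy2 (zpowers_le.2 (F.qn hyH))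
    have := S.3 hsup (hS ▸ le_sup_left)
    exact ⟨y, hS ▸ this ▸ mem_sup_right (mem_zpowers y), rfl⟩
  obtain ⟨g, hgL, hgN⟩ := SetLike.not_le_iff_exists.1 hLN
  have htrans : ∀ m ∈ N, m * g * m⁻¹ ∈ L → ∃ x ∈ PG, g⁻¹ * (x⁻¹ * m) * g ∈ N := by
    intro m hm hmL
    have h2 : (⟨m * g * m⁻¹, hmL⟩ : L) ∉ N.subgroupOf L := fun h => hgN (by
      have := mul_mem (mul_mem (inv_mem hm) (mem_subgroupOf.1 h)) hm
      rwa [show m⁻¹ * (m * g * m⁻¹) * m = g by group] at this)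
    obtain ⟨x, hx, hxe⟩ := F.trans ⟨g, hgL⟩ ⟨m * g * m⁻¹, hmL⟩ (fun h => hgN h) h2
    refine ⟨x, mem_map_of_mem _ hx, ?_⟩
    have hv : (m * g * m⁻¹)⁻¹ * ((x : G) * g) ∈ N := hxe
    have := mul_mem (inv_mem hv) hm
    rwa [show ((m * g * m⁻¹)⁻¹ * ((x : G) * g))⁻¹ * m = g⁻¹ * ((x : G)⁻¹ * m) * g by group] at this
  -- the two point stabiliser in `L`
  set T : Subgroup G := N ⊓ L ⊓ N.map (MulAut.conj g).toMonoidHom with hT
  have hmemT : ∀ τ, τ ∈ T ↔ τ ∈ N ∧ τ ∈ L ∧ g⁻¹ * τ * g ∈ N := fun τ => by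
    rw [hT, mem_inf, mem_inf, mem_conj_iff, and_assoc]
  have hTodd : Odd (Nat.card T) := by
    rw [← Nat.not_even_iff_odd]
    intro he
    obtain ⟨t, ht, ht2⟩ := exists_involution_of_even he
    obtain ⟨htN, htL, htg⟩ := (hmemT t).1 ht
    exact hgN (mem_subgroupOf.1 (Cfsg.Lib.StrongEmb.mem_of_involution (g := (⟨g, hgL⟩ : L)) hse
      (t := ⟨t, htL⟩) (by rw [Subgroup.orderOf_mk, ht2]) htN htg))
  have hPT : ∀ m ∈ N, m ∈ L → ∃ x ∈ PG, x⁻¹ * m ∈ T := by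
    intro m hm hmL
    obtain ⟨x, hx, hxg⟩ := htrans m hm (hLn.conj_mem g hgL m)
    obtain ⟨hxN, hxL⟩ := hPN x hx
    exact ⟨x, hx, (hmemT _).2 ⟨mul_mem (inv_mem hxN) hm, mul_mem (inv_mem hxL) hmL, hxg⟩⟩
  set R := Q ⊓ PG with hR
  have hNR : ∀ n ∈ N, ∀ r ∈ R, n * r * n⁻¹ ∈ R := fun n hn r hr =>
    mem_inf.2 ⟨W.conj_mem' hn (mem_inf.1 hr).1, hNP n hn r (mem_inf.1 hr).2⟩
  -- no element of `PG` but `1` centralises `T`
  have hCT : ∀ p ∈ PG, (∀ τ ∈ T, τ * p = p * τ) → p = 1 := by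
    intro p hp hc
    by_contra hne
    obtain ⟨k, hk⟩ := hP2.exists_orderOf_eq_pow ⟨p, hp⟩
    rw [Subgroup.orderOf_mk] at hk
    have hk0 : k ≠ 0 := fun h => hne (orderOf_eq_one_iff.1 (by rw [hk, h, pow_zero]))
    set i := p ^ 2 ^ (k - 1) with hi
    have hi2 : orderOf i = 2 := by
      rw [hi, orderOf_pow_of_dvd (pow_ne_zero _ two_ne_zero) (hk ▸ pow_dvd_pow 2 (Nat.sub_le k 1)), hk,
        Nat.pow_div (Nat.sub_le k 1) two_pos, show k - (k - 1) = 1 by omega, pow_one]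
    obtain ⟨i', hi', hie⟩ : i ∈ PG := pow_mem hp _
    have hi2' : orderOf i' = 2 := by rw [← Subgroup.orderOf_coe, show (i' : G) = i from hie, hi2]
    have hcom := (F.qinvol i' hi2' (F.qle hi')).2
    have hcent : ∀ h ∈ N.subgroupOf L, h * i' * h⁻¹ = i' := by
      intro h hh
      obtain ⟨x, hx, hxT⟩ := hPT h hh h.2
      obtain ⟨x', hx', rfl⟩ := hx
      have h1 : Commute (x'.1⁻¹ * (h : G)) (i' : G) := by
        rw [show (i' : G) = i from hie, hi]
        exact (show Commute _ p from hc _ hxT).pow_right _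
      have h2 : Commute (x' : G) (i' : G) := (congrArg Subtype.val (hcom x' hx')).symm
      have h3 : Commute (h : G) (i' : G) := by simpa using h2.mul_left h1
      exact Subtype.ext (by rw [Subgroup.coe_mul, Subgroup.coe_mul, Subgroup.coe_inv, h3.eq,
        mul_inv_cancel_right])
    have hall : ∀ j : L, orderOf j = 2 → j ∈ N.subgroupOf L → j = i' := by
      intro j hj hjH
      obtain ⟨l, rfl⟩ := isConj_iff.1 (all_conj hse hi2' hj)
      exact hcent l (Cfsg.Lib.StrongEmb.conj_eq hse hi2' (F.qle hi') hjH)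
    haveI : Subsingleton {j : L // orderOf j = 2 ∧ j ∈ N.subgroupOf L} :=
      ⟨fun a b => Subtype.ext ((hall a a.2.1 a.2.2).trans (hall b b.2.1 b.2.2).symm)⟩
    obtain ⟨k', e, hk', -, -, hcard⟩ := F.qcard
    have h4 : 2 ^ 2 ≤ 2 ^ k' := Nat.pow_le_pow_right two_pos hk'
    have h5 := Finite.card_le_one_iff_subsingleton.2 ‹Subsingleton {j : L // orderOf j = 2 ∧ j ∈ N.subgroupOf L}›
    omega
  -- the elements of `Q`
  have hfac : ∀ q ∈ Q, ∃ x ∈ L, x⁻¹ * q ∈ Q ∧ Odd (orderOf (x⁻¹ * q)) := by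
    intro q hq
    obtain ⟨x, hx, hxg⟩ := htrans q (W.le hq) (hLn.conj_mem g hgL q)
    obtain ⟨hxN, hxL⟩ := hPN x hx
    set u := x⁻¹ * q with hu
    have key : ∀ τ ∈ T, τ * x * τ⁻¹ * x⁻¹ ∈ R := by
      intro τ hτ
      obtain ⟨hτN, hτL, hτg⟩ := (hmemT τ).1 hτ
      have huN : u ∈ N := mul_mem (inv_mem hxN) (W.le hq)
      set c := τ * u * τ⁻¹ * u⁻¹ with hc
      have hcT : c ∈ T := (hmemT c).2 ⟨mul_mem (mul_mem (mul_mem hτN huN) (inv_mem hτN)) (inv_mem huN), by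
        rw [hc, show τ * u * τ⁻¹ * u⁻¹ = τ * (u * τ⁻¹ * u⁻¹) by group]
        exact mul_mem hτL (hLn.conj_mem _ (inv_mem hτL) u), by
        have := mul_mem (mul_mem (mul_mem hτg hxg) (inv_mem hτg)) (inv_mem hxg)
        rwa [hc, show g⁻¹ * (τ * u * τ⁻¹ * u⁻¹) * g =
          g⁻¹ * τ * g * (g⁻¹ * u * g) * (g⁻¹ * τ * g)⁻¹ * (g⁻¹ * u * g)⁻¹ by group]⟩
      set w := τ * x * τ⁻¹ * x⁻¹ with hw
      have hwP : w ∈ PG := mul_mem (hNP τ hτN x hx) (inv_mem hx)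
      set d := x * c * x⁻¹ with hd
      have hd2 : Odd (orderOf d) := by
        rw [hd, orderOf_conj']
        exact hTodd.of_dvd_nat (Subgroup.orderOf_dvd_natCard T hcT)
      set e := τ * q * τ⁻¹ * q⁻¹ with he
      have heq : w * d = e := by rw [hw, hd, hc, he, hu]; group
      have heQ : e ∈ Q := mul_mem (W.conj_mem' hτN hq) (inv_mem hq)
      have heN : e ∈ N := W.le heQ
      have heL : e ∈ L := by
        rw [he, show τ * q * τ⁻¹ * q⁻¹ = τ * (q * τ⁻¹ * q⁻¹) by group]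
        exact mul_mem hτL (hLn.conj_mem _ (inv_mem hτL) q)
      -- modulo `R`
      set M := N ⊓ L with hM
      haveI : (R.subgroupOf M).Normal := ⟨fun r hr m => mem_subgroupOf.2
        (hNR m (mem_inf.1 m.2).1 r (mem_subgroupOf.1 hr))⟩
      set π := QuotientGroup.mk' (R.subgroupOf M)
      have hwM : w ∈ M := mem_inf.2 (hPN w hwP)
      have hdM : d ∈ M := by
        rw [eq_inv_mul_of_mul_eq heq]
        exact mul_mem (inv_mem hwM) (mem_inf.2 ⟨heN, heL⟩)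
      have hcomm : Commute (π ⟨w, hwM⟩) (π ⟨e, mem_inf.2 ⟨heN, heL⟩⟩) := by
        refine commutatorElement_eq_one_iff_commute.1 ?_
        rw [← map_commutatorElement]
        refine (QuotientGroup.eq_one_iff _).2 (mem_subgroupOf.2 ?_)
        show w * e * w⁻¹ * e⁻¹ ∈ Q ⊓ PG
        refine mem_inf.2 ⟨mul_mem (W.conj_mem' (hPN w hwP).1 heQ) (inv_mem heQ), ?_⟩
        rw [show w * e * w⁻¹ * e⁻¹ = w * (e * w⁻¹ * e⁻¹) by group]
        exact mul_mem hwP (hNP e heN _ (inv_mem hwP))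
      have hde : π ⟨d, hdM⟩ = (π ⟨w, hwM⟩)⁻¹ * π ⟨e, mem_inf.2 ⟨heN, heL⟩⟩ := by
        rw [← map_inv, ← map_mul]
        exact congrArg π (Subtype.ext (eq_inv_mul_of_mul_eq heq))
      have hpow : π ⟨e, mem_inf.2 ⟨heN, heL⟩⟩ ^ orderOf d = π ⟨w, hwM⟩ ^ orderOf d := by
        have h1 : π ⟨d, hdM⟩ ^ orderOf d = 1 := by
          rw [← map_pow, show (⟨d, hdM⟩ : M) ^ orderOf d = 1 from Subtype.ext (pow_orderOf_eq_one d), map_one]
        rw [hde, hcomm.inv_left.mul_pow, inv_pow, inv_mul_eq_one] at h1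
        exact h1.symm
      have hwQ : w ^ orderOf d ∈ Q := by
        rw [← map_pow, ← map_pow] at hpow
        have h2 : (e ^ orderOf d)⁻¹ * w ^ orderOf d ∈ R := mem_subgroupOf.1 (QuotientGroup.eq.1 hpow)
        have := mul_mem (pow_mem heQ (orderOf d)) (mem_inf.1 h2).1
        rwa [mul_inv_cancel_left] at this
      obtain ⟨k, hk⟩ := hP2.exists_orderOf_eq_pow ⟨w, hwP⟩
      rw [Subgroup.orderOf_mk] at hk
      obtain ⟨n, hn⟩ := exists_pow_eq_self_of_coprime (x := w) (n := orderOf d)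
        (by rw [hk]; exact Nat.Coprime.pow_right _ (Nat.coprime_two_right.2 hd2))
      exact mem_inf.2 ⟨hn ▸ pow_mem hwQ n, hwP⟩
    obtain ⟨r, hr, hrc⟩ := Cfsg.Lib.Coprime.exists_fixed_of_commutator_mem (A := T) (N := R) (k := x)
      (fun τ hτ => mem_normalizer_of_maps_to (hNR τ ((hmemT τ).1 hτ).1))
      (by
        obtain ⟨k, hk⟩ := IsPGroup.iff_card.1 (hP2.to_le (inf_le_right : R ≤ PG))
        rw [hk]; exact Nat.Coprime.pow_right _ (Nat.coprime_two_right.2 hTodd))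
      (Or.inr (by
        haveI := (hP2.to_le (inf_le_right : R ≤ PG)).isNilpotent
        exact inferInstance))
      (mem_normalizer_of_maps_to (hNR x hxN)) key
    have h1 : x * r = 1 := hCT _ (mul_mem hx (mem_inf.1 hr).2) (mem_centralizer_iff.1 hrc)
    have hxQ : x ∈ Q := eq_inv_of_mul_eq_one_left h1 ▸ inv_mem (mem_inf.1 hr).1
    exact ⟨x, hxL, mul_mem (inv_mem hxQ) hq, W.odd_order (mul_mem (inv_mem hxQ) hq) hgN hxg⟩
  -- `G = L N`
  have hGLN : ∀ a : G, ∃ l ∈ L, l⁻¹ * a ∈ N := by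
    intro a
    have haL : a * z * a⁻¹ ∈ L := hLn.conj_mem z hzL a
    obtain ⟨l, hl⟩ := isConj_iff.1 (all_conj hse hzL2 (b := ⟨_, haL⟩)
      (by rw [Subgroup.orderOf_mk, orderOf_conj', hz]))
    have hl' : (l : G) * z * (l : G)⁻¹ = a * z * a⁻¹ := congrArg Subtype.val hl
    refine ⟨l, l.2, W.centralizer_le hzQ hz (mem_centralizer_singleton_iff.2 ?_)⟩
    calc (l : G)⁻¹ * a * z = (l : G)⁻¹ * (a * z * a⁻¹) * a := by group
      _ = (l : G)⁻¹ * ((l : G) * z * (l : G)⁻¹) * a := by rw [hl']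
      _ = z * ((l : G)⁻¹ * a) := by group
  intro i hiN hiK hi
  have hiLQ : i ∈ L ⊔ Q := by
    refine (closure_le _).2 (fun y hy => ?_) hiK
    obtain ⟨q, hq, hqy⟩ := Group.mem_conjugatesOfSet_iff.1 hy
    obtain ⟨a, rfl⟩ := isConj_iff.1 hqy
    obtain ⟨l, hl, hla⟩ := hGLN a
    rw [SetLike.mem_coe, show a * q * a⁻¹ = l * ((l⁻¹ * a) * q * (l⁻¹ * a)⁻¹) * l⁻¹ by group]
    exact mul_mem (mul_mem (mem_sup_left hl) (mem_sup_right (W.conj_mem' hla hq))) (inv_mem (mem_sup_left hl))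
  have hiL : i ∈ L := by
    have hiLQ' : i ∈ ((L ⊔ Q : Subgroup G) : Set G) := hiLQ
    rw [normal_mul] at hiLQ'
    obtain ⟨l, hl, q, hq, he⟩ := hiLQ'
    simp only at he
    obtain ⟨x, hxL, -, hxodd⟩ := hfac q hq
    have h1 : QuotientGroup.mk' L i = QuotientGroup.mk' L (x⁻¹ * q) := by
      rw [← he, show l * q = l * x * (x⁻¹ * q) by group, map_mul,
        show QuotientGroup.mk' L (l * x) = 1 from (QuotientGroup.eq_one_iff _).2 (mul_mem hl hxL), one_mul]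
    have h2 : orderOf (QuotientGroup.mk' L i) ∣ 2 := hi ▸ orderOf_map_dvd _ i
    have h3 : orderOf (QuotientGroup.mk' L i) ∣ orderOf (x⁻¹ * q) := h1 ▸ orderOf_map_dvd _ _
    have h4 : orderOf (QuotientGroup.mk' L i) = 1 :=
      Nat.dvd_one.1 ((Nat.coprime_two_left.2 hxodd) ▸ Nat.dvd_gcd h2 h3)
    exact (QuotientGroup.eq_one_iff i).1 (orderOf_eq_one_iff.1 h4)
  obtain ⟨l, hl⟩ := isConj_iff.1 (all_conj hse hzL2 (b := ⟨i, hiL⟩) (by rw [Subgroup.orderOf_mk, hi]))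
  have hl' : (l : G) * z * (l : G)⁻¹ = i := congrArg Subtype.val hl
  rw [← hl'] at hiN ⊢
  exact W.conj_mem hzQ hz hiN

end Cfsg.Lib.BenderSE.CritDep
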