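/-
Row 1911 from the criterion: reduction to a quasisimple normal subgroup and assembly.
-/
import Cfsg.Agent.BenderSE.Dependents.TightCore
import Cfsg.Agent.BenderSE.Dependents.CoverKill
import Cfsg.Agent.RankOne.Inverted

set_option autoImplicit false
set_option linter.style.haveILetI false
set_option linter.unusedSectionVars false

namespace Cfsg.Lib.BenderSE.CritDep

open Subgroup Cfsg.Lib.StrongEmb Cfsg.Lib.InvolCalc
open Cfsg.Lib.BenderSE.ClosedCrit (CriterionProp)

universe u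

variable {G : Type u} [Group G] [Finite G] {Q N : Subgroup G}

theorem oddCore_eq_bot_of_normalised (hO : Cfsg.oddCore G = ⊥) (X : Subgroup G) [X.Normal] (Y : Subgroup G)
    (hYX : Y ≤ X) (hn : X ≤ normalizer (Y : Set G)) : Cfsg.oddCore Y = ⊥ := by
  haveI : (Cfsg.oddCore Y).Characteristic := Cfsg.Lib.Components.pPrimeCore_characteristic
  haveI : (Cfsg.oddCore X).Characteristic := Cfsg.Lib.Components.pPrimeCore_characteristic
  haveI : ((Cfsg.oddCore X).map X.subtype).Normal := ConjAct.normal_of_characteristic_of_normal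
  have hXO : (Cfsg.oddCore X).map X.subtype = ⊥ := le_bot_iff.1 (hO ▸ Cfsg.Lib.Components.le_pPrimeCore (by
    rw [card_map_of_injective X.subtype_injective]
    exact Nat.coprime_two_right.2 Cfsg.Lib.ZStarApps.odd_card_pPrimeCore))
  set A := ((Cfsg.oddCore Y).map Y.subtype).subgroupOf X with hA
  have hAY : (Cfsg.oddCore Y).map Y.subtype ≤ X := (map_subtype_le _).trans hYX
  haveI : A.Normal := ⟨fun a ha x => mem_subgroupOf.2
    ((mem_normalizer_iff.1 (Cfsg.Lib.OddP.le_normalizer_map_of_char (Cfsg.oddCore Y) (hn x.2)) _).1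
      (mem_subgroupOf.1 ha))⟩
  have h1 : A ≤ Cfsg.oddCore X := Cfsg.Lib.Components.le_pPrimeCore (Nat.coprime_two_right.2 (by
    rw [hA, Nat.card_congr (subgroupOfEquivOfLe hAY).toEquiv, card_map_of_injective Y.subtype_injective]
    exact Cfsg.Lib.ZStarApps.odd_card_pPrimeCore))
  rw [(map_eq_bot_iff_of_injective _ X.subtype_injective).1 hXO, le_bot_iff, hA, subgroupOf_eq_bot,
    disjoint_iff, inf_eq_left.2 hAY] at h1
  exact (map_eq_bot_iff_of_injective _ Y.subtype_injective).1 h1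

/-- an involution of `Q` commutes with what it commutes with modulo a normal subgroup it centralises -/
theorem Tight.commute_of_mod (W : Tight Q N) (Z : Subgroup G) (hZN : Z ≤ N)
    (hZQ : ∀ c ∈ Z, c ∈ Q → orderOf c ≠ 2) {u d : G} (hu : u ∈ Q) (hu2 : orderOf u = 2)
    (hZu : ∀ c ∈ Z, Commute c u) (hd : d * u * d⁻¹ * u⁻¹ ∈ Z) : Commute d u := by
  set c := d * u * d⁻¹ * u⁻¹ with hc
  have hconj : d * u * d⁻¹ = c * u := by rw [hc, inv_mul_cancel_right]
  have hQ' : c * u ∈ Q := hconj ▸ W.conj_mem hu hu2 (hconj.symm ▸ mul_mem (hZN hd) (W.le hu))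
  have hcQ : c ∈ Q := (mul_mem_cancel_right hu).1 hQ'
  have hcc : c * c = 1 := by
    have h1 : c * u * (c * u) = 1 := by
      rw [← hconj, show d * u * d⁻¹ * (d * u * d⁻¹) = d * (u * u) * d⁻¹ by group, sq_of_order_two hu2]
      group
    calc c * c = c * (c * u) * u := by
          rw [mul_assoc c (c * u) u, mul_assoc c u u, sq_of_order_two hu2, mul_one]
      _ = c * (u * c) * u := by rw [(hZu c hd).eq]
      _ = c * u * (c * u) := by group
      _ = 1 := h1
  have hc1 : c = 1 := by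
    by_contra hne
    exact hZQ c hd hcQ (order_two_of_mul_self hcc hne)
  show d * u = u * d
  rw [hc1, one_mul] at hconj
  conv_rhs => rw [← hconj]
  group

/-- with trivial odd core, some simple normal subgroup meets `Q` evenly and has the strongly embedded `N`-part -/
theorem Tight.exists_simple (crit : CriterionProp.{u}) (reg : RegProp.{u}) (W : Tight Q N)
    (hO : Cfsg.oddCore G = ⊥) : ∃ L : Subgroup G, L.Normal ∧ IsSimpleGroup L ∧
      Cfsg.IsStronglyEmbedded (N.subgroupOf L) ∧ ∃ z ∈ Q, z ∈ L ∧ orderOf z = 2 := by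
  classical
  haveI : Fact (Nat.Prime 2) := ⟨Nat.prime_two⟩
  have hex : ∃ n, ∃ X : Subgroup G, X.Normal ∧ Even (Nat.card ↥(Q ⊓ X)) ∧ Nat.card X = n :=
    ⟨_, ⊤, inferInstance, by rw [inf_top_eq]; exact W.even, rfl⟩
  obtain ⟨X, hXn, hXe, hXc⟩ := Nat.find_spec hex
  haveI := hXn
  have hmin : ∀ M : Subgroup G, M.Normal → M ≤ X → M ≠ X → ¬ Even (Nat.card ↥(Q ⊓ M)) := by
    intro M hM hMX hne he
    have h1 := Nat.find_min' hex (m := Nat.card M) ⟨M, hM, he, rfl⟩
    exact hne (eq_of_le_of_card_ge hMX (hXc.trans_le h1))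
  obtain ⟨z, hzQ, hzX, hz, S, -, hzS, hS⟩ := W.exists_central X hXe
  have hXN := W.not_le X hzQ hzX hz
  have hznorm : ∀ Y : Subgroup G, X ≤ normalizer (Y : Set G) → z ∈ normalizer (Y : Set G) := fun _ h => h hzX
  -- smaller normal subgroups are central
  have hsmall : ∀ M : Subgroup G, M.Normal → M ≤ X → M ≠ X → M ≤ centralizer (X : Set G) := by
    intro M hM hMX hne m hm
    have hzM : ∀ x ∈ M, Commute x z := W.isolated_in M (hmin M hM hMX hne) hzQ hz
      (by rw [normalizer_eq_top_iff.2 hM]; exact mem_top z)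
      (oddCore_eq_bot_of_normalised hO X M hMX (by rw [normalizer_eq_top_iff.2 hM]; exact le_top))
    have hX0 : Subgroup.normalClosure ({z} : Set G) = X := by
      by_contra h0
      exact hmin _ inferInstance (Subgroup.normalClosure_le_normal (Set.singleton_subset_iff.2 hzX)) h0
        (even_iff_two_dvd.2 (hz ▸ Subgroup.orderOf_dvd_natCard _
          (mem_inf.2 ⟨hzQ, subset_normalClosure (Set.mem_singleton z)⟩)))
    have hle : X ≤ centralizer ({m} : Set G) := by
      rw [← hX0]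
      refine (closure_le _).2 fun y hy => ?_
      obtain ⟨w, hw, hwy⟩ := Group.mem_conjugatesOfSet_iff.1 hy
      rw [Set.mem_singleton_iff] at hw
      subst hw
      obtain ⟨a, rfl⟩ := isConj_iff.1 hwy
      have h1 := (hzM _ (hM.conj_mem m hm a⁻¹)).map (MulAut.conj a).toMonoidHom
      simp only [MulEquiv.coe_toMonoidHom, MulAut.conj_apply] at h1
      rw [show a * (a⁻¹ * m * a⁻¹⁻¹) * a⁻¹ = m by group] at h1
      exact mem_centralizer_singleton_iff.2 h1.eq.symm
    exact mem_centralizer_iff.2 fun x hx => mem_centralizer_singleton_iff.1 (hle hx)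
  set Z := X ⊓ centralizer (X : Set G) with hZdef
  have hZc : ∀ c ∈ Z, ∀ x ∈ X, Commute c x := fun c hc x hx =>
    (mem_centralizer_iff.1 (mem_inf.1 hc).2 x hx).symm
  haveI hZn : Z.Normal := ⟨fun c hc g => mem_inf.2 ⟨hXn.conj_mem c (mem_inf.1 hc).1 g,
    mem_centralizer_iff.2 fun x hx => by
      have h1 := ((hZc c hc _ (hXn.conj_mem x hx g⁻¹)).map (MulAut.conj g).toMonoidHom)
      simp only [MulEquiv.coe_toMonoidHom, MulAut.conj_apply] at h1
      rw [show g * (g⁻¹ * x * g⁻¹⁻¹) * g⁻¹ = x by group] at h1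
      exact h1.eq.symm⟩⟩
  have hZN : Z ≤ N := fun c hc => W.centralizer_le hzQ hz (mem_centralizer_singleton_iff.2 (hZc c hc z hzX).eq)
  have hZQ : ∀ c ∈ Z, c ∈ Q → orderOf c ≠ 2 := fun c hc hcQ hc2 => hXN fun x hx =>
    W.centralizer_le hcQ hc2 (mem_centralizer_singleton_iff.2 (hZc c hc x hx).eq.symm)
  have hlift : ∀ u ∈ Q, orderOf u = 2 → u ∈ X → ∀ d : G, d * u * d⁻¹ * u⁻¹ ∈ Z → Commute d u :=
    fun u hu hu2 huX d hd => W.commute_of_mod Z hZN hZQ hu hu2 (fun c hc => hZc c hc u huX) hd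
  -- `X` is perfect
  have hperf : ⁅X, X⁆ = X := by
    by_contra hne
    have hle := hsmall ⁅X, X⁆ inferInstance (commutator_le_right X X) hne
    refine hXN fun x hx => W.centralizer_le hzQ hz (mem_centralizer_singleton_iff.2 ?_)
    refine (hlift z hzQ hz hzX x ?_).eq
    have h1 : x * z * x⁻¹ * z⁻¹ ∈ ⁅X, X⁆ := commutator_mem_commutator hx hzX
    exact mem_inf.2 ⟨commutator_le_right X X h1, hle h1⟩
  -- `X` modulo `Z` is simple
  have hsimple : ∀ Y : Subgroup G, Z ≤ Y → Y ≤ X → X ≤ normalizer (Y : Set G) → Y ≠ X → Y ≤ Z := by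
    by_contra hcon
    push Not at hcon
    have hex2 : ∃ n, ∃ Y : Subgroup G, Z ≤ Y ∧ Y ≤ X ∧ X ≤ normalizer (Y : Set G) ∧ Y ≠ X ∧ ¬ Y ≤ Z ∧
        Nat.card Y = n := by
      obtain ⟨Y, h1, h2, h3, h4, h5⟩ := hcon
      exact ⟨_, Y, h1, h2, h3, h4, h5, rfl⟩
    obtain ⟨Y, hZY, hYX, hYn, hYne, hYZ, hYc⟩ := Nat.find_spec hex2
    set cj : G → Subgroup G := fun a => Y.map (MulAut.conj a).toMonoidHom with hcj
    have hcjX : ∀ a, cj a ≤ X := by
      rintro a _ ⟨y, hy, rfl⟩
      exact hXn.conj_mem y (hYX hy) a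
    have hcjn : ∀ a, X ≤ normalizer (cj a : Set G) := fun a x hx => mem_normalizer_of_maps_to fun w hw => by
      obtain ⟨y, hy, rfl⟩ := hw
      refine ⟨(a⁻¹ * x * a) * y * (a⁻¹ * x * a)⁻¹, (mem_normalizer_iff.1 (hYn ?_) y).1 hy, ?_⟩
      · simpa using hXn.conj_mem x hx a⁻¹
      · simp only [MulEquiv.coe_toMonoidHom, MulAut.conj_apply]; group
    have hcjZ : ∀ a, Z ≤ cj a := fun a c hc => ⟨a⁻¹ * c * a, hZY (by simpa using hZn.conj_mem c hc a⁻¹), by
      simp only [MulEquiv.coe_toMonoidHom, MulAut.conj_apply]; group⟩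
    have hcjcard : ∀ a, Nat.card (cj a) = Nat.card Y := fun a => card_map_of_injective (MulAut.conj a).injective
    have hinter : ∀ a b, cj a ≠ cj b → cj a ⊓ cj b ≤ Z := by
      intro a b hab
      by_contra hI
      have h1 := Nat.find_min' hex2 (m := Nat.card ↥(cj a ⊓ cj b)) ⟨_, le_inf (hcjZ a) (hcjZ b),
        inf_le_left.trans (hcjX a), fun x hx => mem_normalizer_of_maps_to fun w hw => mem_inf.2
          ⟨(mem_normalizer_iff.1 (hcjn a hx) w).1 (mem_inf.1 hw).1,
            (mem_normalizer_iff.1 (hcjn b hx) w).1 (mem_inf.1 hw).2⟩, fun h => ?_, hI, rfl⟩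
      · have e1 := eq_of_le_of_card_ge (inf_le_left : cj a ⊓ cj b ≤ cj a) (by rw [hcjcard]; omega)
        have e2 := eq_of_le_of_card_ge (inf_le_right : cj a ⊓ cj b ≤ cj b) (by rw [hcjcard]; omega)
        exact hab (e1.symm.trans e2)
      · refine hYne (eq_of_le_of_card_ge hYX ?_)
        have h2 := card_le_of_le (inf_le_left : cj a ⊓ cj b ≤ cj a)
        rw [h, hcjcard] at h2
        exact h2
    have hgen : Subgroup.normalClosure (Y : Set G) = X := by
      by_contra h0
      exact hYZ fun y hy => mem_inf.2 ⟨hYX hy, hsmall _ inferInstance (Subgroup.normalClosure_le_normal hYX) h0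
        (subset_normalClosure hy)⟩
    have hXle : ∀ D : Subgroup G, (∀ a, cj a ≤ D) → X ≤ D := fun D hD => by
      rw [← hgen]
      refine (closure_le _).2 fun w hw => ?_
      obtain ⟨y, hy, hyw⟩ := Group.mem_conjugatesOfSet_iff.1 hw
      obtain ⟨a, rfl⟩ := isConj_iff.1 hyw
      exact hD a ⟨y, hy, rfl⟩
    by_cases he : ∃ a, Even (Nat.card ↥(Q ⊓ cj a))
    · obtain ⟨a, ha⟩ := he
      obtain ⟨w, hw, hw2⟩ := exists_involution_of_even ha
      obtain ⟨hwQ, hwa⟩ := mem_inf.1 hw
      have hcent : ∀ u ∈ Q, orderOf u = 2 → ∀ c e, u ∈ cj c → cj c ≠ cj e → cj e ≤ N := by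
        intro u hu hu2 c e huc hne y hy
        refine W.centralizer_le hu hu2 (mem_centralizer_singleton_iff.2 (hlift u hu hu2 (hcjX c huc) y ?_).eq)
        refine hinter c e hne (mem_inf.2 ⟨mul_mem ((mem_normalizer_iff.1 (hcjn c (hcjX e hy)) u).1 huc)
          (inv_mem huc), ?_⟩)
        rw [show y * u * y⁻¹ * u⁻¹ = y * (u * y⁻¹ * u⁻¹) by group]
        exact mul_mem hy ((mem_normalizer_iff.1 (hcjn e (hcjX c huc)) _).1 (inv_mem hy))
      by_cases hall : ∀ b, cj b = cj a
      · refine hYne (eq_of_le_of_card_ge hYX ?_)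
        rw [← hcjcard a]
        exact card_le_of_le (hXle (cj a) fun b => (hall b).le)
      · push Not at hall
        obtain ⟨b, hb⟩ := hall
        obtain ⟨y, hy, hyw⟩ := id hwa
        simp only [MulEquiv.coe_toMonoidHom, MulAut.conj_apply] at hyw
        have hb' : (b * a⁻¹) * w * (b * a⁻¹)⁻¹ ∈ cj b := ⟨y, hy, by
          simp only [MulEquiv.coe_toMonoidHom, MulAut.conj_apply]; rw [← hyw]; group⟩
        have hwb : (b * a⁻¹) * w * (b * a⁻¹)⁻¹ ∈ Q :=
          W.conj_mem hwQ hw2 (hcent w hwQ hw2 a b hwa hb.symm hb')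
        have haN : cj a ≤ N := hcent _ hwb (by rw [orderOf_conj', hw2]) b a hb' hb
        refine hXN (hXle N fun c => ?_)
        by_cases hc : cj c = cj a
        · rw [hc]; exact haN
        · exact hcent w hwQ hw2 a c hwa (Ne.symm hc)
    · push Not at he
      refine hXN (le_trans (hXle (centralizer ({z} : Set G)) fun a y hy => ?_) (W.centralizer_le hzQ hz))
      exact mem_centralizer_singleton_iff.2 (W.isolated_in (cj a) (he a)
        hzQ hz (hznorm _ (hcjn a)) (oddCore_eq_bot_of_normalised hO X (cj a) (hcjX a) (hcjn a)) y hy).eq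
  -- the centre of `X`
  have hcen : center X = Z.subgroupOf X := by
    ext c
    simp only [mem_center_iff, mem_subgroupOf, hZdef, mem_inf, mem_centralizer_iff, SetLike.coe_mem, true_and]
    exact ⟨fun h x hx => congrArg Subtype.val (h ⟨x, hx⟩), fun h x => Subtype.ext (h x x.2)⟩
  set π := QuotientGroup.mk' (center X) with hπ
  have hπ1 : ∀ x : X, π x = 1 ↔ (x : G) ∈ Z := fun x => by
    rw [hπ, QuotientGroup.mk'_apply, QuotientGroup.eq_one_iff, hcen, mem_subgroupOf]
  have hzπ : orderOf (π ⟨z, hzX⟩) = 2 := order_two_of_mul_self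
    (by rw [← map_mul, show (⟨z, hzX⟩ : X) * ⟨z, hzX⟩ = 1 from Subtype.ext (sq_of_order_two hz), map_one])
    fun h => hZQ z ((hπ1 _).1 h) hzQ hz
  haveI hqs_simple : IsSimpleGroup (X ⧸ center X) := by
    haveI : Nontrivial (X ⧸ center X) := ⟨⟨π ⟨z, hzX⟩, 1, fun h => by
      rw [h, orderOf_one] at hzπ
      exact absurd hzπ (by decide)⟩⟩
    refine ⟨fun D hD => ?_⟩
    set Y := (D.comap π).map X.subtype with hY
    have hmemY : ∀ x : X, (x : G) ∈ Y ↔ π x ∈ D := fun x => by
      rw [hY, show (x : G) = X.subtype x from rfl, mem_map_iff_mem X.subtype_injective, mem_comap]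
    by_cases hYX : Y = X
    · right
      refine eq_top_iff.2 fun d _ => ?_
      obtain ⟨x, rfl⟩ := QuotientGroup.mk'_surjective _ d
      exact (hmemY x).1 (hYX.symm ▸ x.2)
    · left
      have hle := hsimple Y (fun c hc => (hmemY ⟨c, (mem_inf.1 hc).1⟩).2 (by
          rw [(hπ1 _).2 hc]; exact one_mem D)) (map_subtype_le _)
        (fun x hx => mem_normalizer_of_maps_to fun w hw => by
          obtain ⟨y, hy, rfl⟩ := hw
          refine (hmemY (⟨x, hx⟩ * y * ⟨x, hx⟩⁻¹)).2 ?_
          rw [map_mul, map_mul, map_inv]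
          exact hD.conj_mem _ (mem_comap.1 hy) _) hYX
      refine eq_bot_iff.2 fun d hd => ?_
      obtain ⟨x, rfl⟩ := QuotientGroup.mk'_surjective _ d
      exact mem_bot.2 ((hπ1 x).2 (hle ((hmemY x).2 hd)))
  have hperfX : _root_.commutator X = ⊤ := by
    apply map_injective X.subtype_injective
    rw [map_subtype_commutator, hperf, ← MonoidHom.range_eq_map, range_subtype]
  have hqs : Cfsg.IsQuasisimple X := ⟨Group.isPerfect_def.2 hperfX, hqs_simple⟩
  have hOX : Cfsg.oddCore X = ⊥ := oddCore_eq_bot_of_normalised hO X X le_rfl le_normalizer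
  have hZ2 : IsPGroup 2 (center X) := by
    intro c
    refine ⟨(orderOf c).factorization 2, ?_⟩
    set d := (c : X) ^ 2 ^ (orderOf c).factorization 2 with hd
    have hdc : d ∈ center X := pow_mem c.2 _
    haveI : (zpowers d).Normal := ⟨fun w hw g => by
      have hwc : w ∈ center X := zpowers_le.2 hdc hw
      rw [mem_center_iff.1 hwc g, mul_inv_cancel_right]; exact hw⟩
    have hdodd : Odd (Nat.card (zpowers d)) := by
      rw [Nat.card_zpowers, hd, orderOf_pow_of_dvd (pow_ne_zero _ two_ne_zero)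
        (by rw [Subgroup.orderOf_coe]; exact Nat.ordProj_dvd _ _), Subgroup.orderOf_coe]
      rw [← Nat.not_even_iff_odd, even_iff_two_dvd]
      exact Nat.not_dvd_ordCompl Nat.prime_two (orderOf_pos c).ne'
    have h1 : zpowers d ≤ Cfsg.oddCore X := Cfsg.Lib.Components.le_pPrimeCore (Nat.coprime_two_right.2 hdodd)
    rw [hOX, le_bot_iff, zpowers_eq_bot] at h1
    exact Subtype.ext h1
  -- the criterion in `X / Z`
  set HX := N.subgroupOf X with hHX
  have hzle : center X ≤ HX := fun c hc => mem_subgroupOf.2 (hZN (by rwa [hcen, mem_subgroupOf] at hc))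
  have hliftH : ∀ x : X, π x ∈ HX.map π → x ∈ HX := fun x hx => by
    obtain ⟨h, hh, he⟩ := hx
    have := mul_mem hh (hzle (QuotientGroup.eq.1 he))
    rwa [mul_inv_cancel_left] at this
  have W₀ := W.pointed X hXN hzQ hzX hz S hzS hS
  obtain ⟨P, hzP, hP⟩ := W₀.central
  have hliftcomm : ∀ u : X, (u : G) ∈ Q → orderOf (u : G) = 2 → ∀ d : X, Commute (π d) (π u) → Commute d u := by
    intro u hu hu2 d hdu
    refine Subtype.ext (hlift u hu hu2 u.2 d ?_).eq
    exact (hπ1 (d * u * d⁻¹ * u⁻¹)).1 (by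
      rw [map_mul, map_mul, map_mul, map_inv, map_inv, hdu.eq, mul_inv_cancel_right, mul_inv_cancel])
  have W' : Pointed (HX.map π) (π ⟨z, hzX⟩) := by
    refine ⟨hzπ, ⟨P.mapSurjective (QuotientGroup.mk'_surjective _), ⟨_, hzP, rfl⟩, ?_⟩,
      mem_map_of_mem _ (mem_subgroupOf.2 (W.le hzQ)), fun h => W₀.ne (eq_top_iff.2 fun x _ => hliftH x
        (h.symm ▸ mem_top _)), fun g hg => ?_⟩
    · rintro _ ⟨s, hs, rfl⟩
      exact (hP s hs).map π
    · obtain ⟨g, rfl⟩ := QuotientGroup.mk'_surjective _ g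
      exact mem_map_of_mem _ (W₀.self g (hliftH _ (by rwa [map_mul, map_mul, map_inv])))
  have hse' : Cfsg.IsStronglyEmbedded (HX.map π) := W'.embedded_of_simple crit fun g hcom hne d hd => by
    obtain ⟨g, rfl⟩ := QuotientGroup.mk'_surjective _ g
    obtain ⟨d, rfl⟩ := QuotientGroup.mk'_surjective _ d
    rw [← map_inv, ← map_mul, ← map_mul] at hcom hne
    rw [← map_inv, ← map_mul, ← map_mul, ← map_mul] at hd
    set y := g * ⟨z, hzX⟩ * g⁻¹ with hy
    have hc1 : Commute (y : G) z := by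
      have := hliftcomm ⟨z, hzX⟩ hzQ hz y hcom.symm
      exact congrArg Subtype.val this.eq
    have hyN : (y : G) ∈ N := W.centralizer_le hzQ hz (mem_centralizer_singleton_iff.2 hc1.eq)
    have hy2 : orderOf (y : G) = 2 := by
      rw [hy, Subgroup.coe_mul, Subgroup.coe_mul, Subgroup.coe_inv, orderOf_conj', hz]
    have hyQ : (y : G) ∈ Q := W.conj_mem hzQ hz (g := (g : G)) hyN
    have hu2 : orderOf (((⟨z, hzX⟩ : X) * y : X) : G) = 2 :=
      order_two_mul hz hy2 hc1.symm fun h => hne (congrArg π (Subtype.ext h))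
    have hdu := hliftcomm (⟨z, hzX⟩ * y) (mul_mem hzQ hyQ) hu2 d (mem_centralizer_singleton_iff.1 hd)
    exact mem_map_of_mem _ (mem_subgroupOf.2 (W.centralizer_le (mul_mem hzQ hyQ) hu2
      (mem_centralizer_singleton_iff.2 (congrArg Subtype.val hdu.eq))))
  have hC : CoverData HX (Q.subgroupOf X) := by
    refine ⟨hqs, hZ2, hse', hzle, fun r hr => W.le hr, fun h hh => mem_normalizer_of_maps_to fun r hr =>
      mem_subgroupOf.2 (W.conj_mem' (mem_subgroupOf.1 hh) (mem_subgroupOf.1 hr)), ?_, ?_⟩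
    · intro c hc hcQ hcc
      by_contra hne
      refine hZQ c (by rwa [hcen, mem_subgroupOf] at hc) (mem_subgroupOf.1 hcQ) (order_two_of_mul_self
        (congrArg Subtype.val hcc) fun h => hne (Subtype.ext h))
    · intro x hx hx2
      obtain ⟨d, hd⟩ := isConj_iff.1 (all_conj hse' hzπ hx2)
      obtain ⟨d, rfl⟩ := QuotientGroup.mk'_surjective _ d
      rw [← map_inv, ← map_mul, ← map_mul] at hd
      have hN : d * ⟨z, hzX⟩ * d⁻¹ ∈ HX := hliftH _ (hd.symm ▸ mem_map_of_mem π hx)
      exact ⟨_, mem_subgroupOf.2 (W.conj_mem hzQ hz (g := (d : G)) (mem_subgroupOf.1 hN)), hd⟩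
  have hbot := hC.center_eq_bot reg
  haveI : IsSimpleGroup X := by
    have e : X ⧸ center X ≃* X := (QuotientGroup.quotientMulEquivOfEq hbot).trans QuotientGroup.quotientBot
    exact e.symm.isSimpleGroup
  exact ⟨X, hXn, inferInstance, W.embedded_simple crit X hXN hzQ hzX hz S hzS hS, z, hzQ, hzX, hz⟩

/-- without commuting involutions in `Q`, `Q` controls its normal closure modulo the odd core -/
theorem Tight.invol_of_isolated (W : Tight Q N)
    (h : ∀ p ∈ Q, ∀ q ∈ Q, orderOf p = 2 → orderOf q = 2 → Commute p q → p = q) : InvolIn Q N := by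
  obtain ⟨z, hzQ, hz⟩ := exists_involution_of_even W.even
  set O := Cfsg.oddCore G with hO
  have hOodd : Odd (Nat.card O) := Cfsg.Lib.ZStarApps.odd_card_pPrimeCore
  have hzi : Cfsg.IsIsolatedInvolution z := ⟨hz, fun g hg => by
    have hyN : g * z * g⁻¹ ∈ N := W.centralizer_le hzQ hz (mem_centralizer_singleton_iff.2 hg.symm)
    exact (h z hzQ _ (W.conj_mem hzQ hz hyN) hz (by rw [orderOf_conj', hz]) hg).symm⟩
  have hGON : ∀ a : G, ∃ o ∈ O, ∃ n ∈ N, a = o * n := by
    intro a
    have h1 := Cfsg.Lib.ZStarApps.zstarProp hzi a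
    set y := a * z * a⁻¹ with hy
    have hzy : z * y ∈ O := by
      rw [hy, show z * (a * z * a⁻¹) = z * a * z * a⁻¹ by group]
      nth_rewrite 2 [← inv_of_order_two hz]
      exact h1
    obtain ⟨d, hd, hdy⟩ := conj_of_odd hz (by rw [hy, orderOf_conj', hz] : orderOf y = 2)
      (hOodd.of_dvd_nat (Subgroup.orderOf_dvd_natCard O hzy))
    have hle : Subgroup.closure ({z, y} : Set G) ≤ O ⊔ zpowers z := (closure_le _).2 (by
      rintro r (rfl | hr)
      · exact mem_sup_right (mem_zpowers _)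
      · rw [Set.mem_singleton_iff] at hr
        rw [hr, show y = z⁻¹ * (z * y) by group]
        exact mul_mem (inv_mem (mem_sup_right (mem_zpowers _))) (mem_sup_left hzy))
    have hd' : d ∈ ((O ⊔ zpowers z : Subgroup G) : Set G) := hle hd
    rw [normal_mul] at hd'
    obtain ⟨o, ho, w, hw, rfl⟩ := hd'
    simp only at hdy
    refine ⟨o, ho, w * ((o * w)⁻¹ * a), mul_mem (zpowers_le.2 (W.le hzQ) hw)
      (W.centralizer_le hzQ hz (mem_centralizer_singleton_iff.2 ?_)), by group⟩
    calc (o * w)⁻¹ * a * z = (o * w)⁻¹ * (a * z * a⁻¹) * a := by group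
      _ = (o * w)⁻¹ * (o * w * z * (o * w)⁻¹) * a := by rw [← hy, hdy]
      _ = z * ((o * w)⁻¹ * a) := by group
  intro i hiN hiK hi
  have hiOQ : i ∈ ((O ⊔ Q : Subgroup G) : Set G) := by
    refine (closure_le _).2 (fun y hy => ?_) hiK
    obtain ⟨q, hq, hqy⟩ := Group.mem_conjugatesOfSet_iff.1 hy
    obtain ⟨a, rfl⟩ := isConj_iff.1 hqy
    obtain ⟨o, ho, n, hn, rfl⟩ := hGON a
    rw [SetLike.mem_coe, show o * n * q * (o * n)⁻¹ = o * (n * q * n⁻¹) * o⁻¹ by group]
    exact mul_mem (mul_mem (mem_sup_left ho) (mem_sup_right (W.conj_mem' hn hq))) (inv_mem (mem_sup_left ho))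
  rw [normal_mul] at hiOQ
  obtain ⟨o, ho, q, hq, rfl⟩ := hiOQ
  simp only at hiN hi ⊢
  exact W.mem_of_odd ((mul_mem_cancel_right (W.le hq)).1 hiN) hq
    (hOodd.of_dvd_nat (Subgroup.orderOf_dvd_natCard O ho)) (sq_of_order_two hi)

/-- the involutions of the normal closure in `N` lie in `Q` -/
theorem Tight.invol_of_crit (crit : CriterionProp.{u}) (reg : RegProp.{u}) (W : Tight Q N) : InvolIn Q N := by
  by_cases hpair : ∃ p ∈ Q, ∃ q ∈ Q, orderOf p = 2 ∧ orderOf q = 2 ∧ Commute p q ∧ p ≠ q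
  swap
  · exact W.invol_of_isolated fun p hp q hq hp2 hq2 hc => by_contra fun hne =>
      hpair ⟨p, hp, q, hq, hp2, hq2, hc, hne⟩
  obtain ⟨p, hp, q, hq, hp2, hq2, hpq, hne⟩ := hpair
  set O := Cfsg.oddCore G with hO
  have hOodd : Odd (Nat.card O) := Cfsg.Lib.ZStarApps.odd_card_pPrimeCore
  have hOn : O.Normal := inferInstance
  have hON : O ≤ N := fun x hx => by
    obtain ⟨a, b, c, d, ha, hb, hc, hd, -, -, -, -, he⟩ := Cfsg.Lib.RankOne.four_generation
      (sq_of_order_two hp2) (sq_of_order_two hq2) hpq.eq hOodd (fun y hy => hOn.conj_mem y hy p)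
      (fun y hy => hOn.conj_mem y hy q) (x := x) hx
    rw [he]
    exact mul_mem (mul_mem (mul_mem (W.centralizer_le hp hp2 (mem_centralizer_singleton_iff.2 ha))
      (W.centralizer_le hq hq2 (mem_centralizer_singleton_iff.2 hb)))
      (W.centralizer_le (mul_mem hp hq) (order_two_mul hp2 hq2 hpq (Ne.symm hne))
        (mem_centralizer_singleton_iff.2 hc))) (W.centralizer_le hq hq2 (mem_centralizer_singleton_iff.2 hd))
  set π := QuotientGroup.mk' O with hπ
  have hπO : ∀ x ∈ O, π x = 1 := fun x hx => (QuotientGroup.eq_one_iff x).2 hx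
  have hliftN : ∀ g : G, π g ∈ N.map π → g ∈ N := fun g hg => by
    obtain ⟨h, hh, he⟩ := hg
    have := mul_mem hh (hON (QuotientGroup.eq.1 he))
    rwa [mul_inv_cancel_left] at this
  have hpO : ∀ i : G, orderOf i = 2 → i ∉ O := fun i hi h => by
    have := hOodd.of_dvd_nat (Subgroup.orderOf_dvd_natCard O h)
    rw [hi] at this
    exact absurd this (by decide)
  have hπ2 : ∀ i : G, orderOf i = 2 → orderOf (π i) = 2 := fun i hi => order_two_of_mul_self
    (by rw [← map_mul, sq_of_order_two hi, map_one]) fun h => hpO i hi ((QuotientGroup.eq_one_iff i).1 h)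
  have W' : Tight (Q.map π) (N.map π) := by
    refine ⟨map_mono W.le, ?_, fun h => W.ne (eq_top_iff.2 fun g _ => hliftN g (h.symm ▸ mem_top _)), ?_, ?_⟩
    · rintro _ ⟨n, hn, rfl⟩
      refine mem_normalizer_of_maps_to fun w hw => ?_
      obtain ⟨x, hx, rfl⟩ := hw
      exact ⟨n * x * n⁻¹, W.conj_mem' hn hx, by rw [map_mul, map_mul, map_inv]⟩
    · rintro _ ⟨t, ht, rfl⟩ ht2 g hg
      obtain ⟨g, rfl⟩ := QuotientGroup.mk'_surjective O g
      have htt : t * t ∈ O := (QuotientGroup.eq_one_iff _).1 (show π (t * t) = 1 by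
        rw [map_mul, sq_of_order_two ht2])
      obtain ⟨m, hm⟩ := hOodd.of_dvd_nat (Subgroup.orderOf_dvd_natCard O htt)
      set s := t ^ (2 * m + 1) with hs
      have hss : s * s = 1 := by rw [hs, ← (Commute.refl t).mul_pow, ← hm, pow_orderOf_eq_one]
      have hπs : π s = π t := by
        rw [hs, map_pow, pow_succ, pow_mul, pow_two, sq_of_order_two ht2, one_pow, one_mul]
      have hs2 : orderOf s = 2 := order_two_of_mul_self hss fun h => by
        rw [h, map_one] at hπs
        rw [← hπs, orderOf_one] at ht2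
        exact absurd ht2 (by decide)
      rw [← map_inv, ← hπs, ← map_mul, ← map_mul] at hg
      exact mem_map_of_mem _ (W.back s (pow_mem ht _) hs2 g (hliftN _ hg))
    · exact even_iff_two_dvd.2 (hπ2 p hp2 ▸ Subgroup.orderOf_dvd_natCard _ (mem_map_of_mem π hp))
  obtain ⟨L, hLn, hLs, hLse, z, hzQ, hzL, hz⟩ := W'.exists_simple crit reg
    Cfsg.Lib.Coprime.pPrimeCore_quotient_eq_bot
  haveI := hLn
  haveI := hLs
  have hinv : InvolIn (Q.map π) (N.map π) := W'.invol_of_simple reg L hLse hzQ hzL hz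
  intro i hiN hiK hi
  have hK : π i ∈ Subgroup.normalClosure ((Q.map π : Subgroup (G ⧸ O)) : Set (G ⧸ O)) := by
    refine (Subgroup.normalClosure_le_normal (N := (Subgroup.normalClosure
      ((Q.map π : Subgroup (G ⧸ O)) : Set (G ⧸ O))).comap π) fun x hx => ?_) hiK
    exact subset_normalClosure (mem_map_of_mem π hx)
  obtain ⟨x, hx, hxi⟩ := hinv _ (mem_map_of_mem π hiN) hK (hπ2 i hi)
  have ho : i * x⁻¹ ∈ O := (QuotientGroup.eq_one_iff _).1 (show π (i * x⁻¹) = 1 by
    rw [map_mul, map_inv, hxi, mul_inv_cancel])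
  have := W.mem_of_odd (hON ho) hx (hOodd.of_dvd_nat (Subgroup.orderOf_dvd_natCard O ho))
    (by rw [inv_mul_cancel_right, sq_of_order_two hi])
  rwa [inv_mul_cancel_right] at this

/-- ROW 1911 from the criterion -/
theorem tight_of_crit (crit : CriterionProp.{u}) (reg : RegProp.{u}) (Q : Subgroup G)
    (hQ : Cfsg.IsTightlyEmbedded Q)
    (hodd : ∀ g : G, g ∉ Subgroup.normalizer (Q : Set G) →
      Odd (Nat.card ↥(Q.map (MulAut.conj g).toMonoidHom ⊓ Subgroup.normalizer (Q : Set G)))) :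
    Q.Normal ∨
      Cfsg.IsStronglyEmbedded
        ((Subgroup.normalizer (Q : Set G)).subgroupOf (Subgroup.normalClosure (Q : Set G))) :=
  or_iff_not_imp_left.2 fun hn =>
    let W := tight_of_hyp hQ hodd hn
    W.embedded_of_invol (W.invol_of_crit crit reg)

end Cfsg.Lib.BenderSE.CritDep
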